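import Cfsg.Agent.Lib.ThRep.Sylow
import Cfsg.Agent.Lib.ThRep.MatFive3
import Cfsg.Agent.Lib.ThRep.MatFive30
import Cfsg.Agent.Lib.ThRep.MatFive44
import Cfsg.Agent.Lib.ThRep.MatFive47
import Cfsg.Agent.Lib.ThRep.MatFive60
import Cfsg.Agent.Lib.ThRep.MatFive76
import Cfsg.Agent.Lib.ThRep.MatFive88
import Cfsg.Agent.Lib.ThRep.MatFive93
import Cfsg.Agent.Lib.ThRep.MatFive96
import Cfsg.Agent.Lib.ThRep.MatFive108
import Cfsg.Agent.Lib.ThRep.MatFive117
import Cfsg.Agent.Lib.ThRep.MatFive127
import Cfsg.Agent.Lib.ThRep.MatFive133
import Cfsg.Agent.Lib.ThRep.MatFive144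
import Cfsg.Agent.Lib.ThRep.MatFive154
import Cfsg.Agent.Lib.ThRep.MatFive174
import Cfsg.Agent.Lib.ThRep.MatFive177
import Cfsg.Agent.Lib.ThRep.MatFive179
import Cfsg.Agent.Lib.ThRep.MatFive184

/-! The levels for the subgroup of order 5 ^ 3. -/

set_option autoImplicit false
set_option maxRecDepth 100000
set_option Elab.async false

namespace Cfsg.Agent.ThRep

noncomputable section

/-- level 0, from the bottom -/
def fiveLev0 : Lev where
  A := fiveMat3
  pow := []
  conj := []
  orb := [
    0x1]
  perm := []

/-- level 1, from the bottom -/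
def fiveLev1 : Lev where
  A := fiveMat96
  pow := [0]
  conj := [[1]]
  orb := [
    0x4010000000000000000000000000000000000000000000000000000000000000040000000000000000000002000020000000000000000000000000]
  perm := [[0]]

/-- level 2, from the bottom -/
def fiveLev2 : Lev where
  A := fiveMat184
  pow := [0, 0]
  conj := [[1, 3], [0, 1]]
  orb := [
    0x1004000000100400008000040000000008020000000801004020040200800004000040100002008020080100800000000080000002008000000200402008000080100400000000040100000000020080000801004010040100002008020040000001008020080200402004020040000002000010040200001004000080100002000020080100400008000000100402]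
  perm := [[0], [0]]

end

end Cfsg.Agent.ThRep
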