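import Cfsg.Agent.Lib.ThRep.StepsFive
import Cfsg.Agent.Lib.ThRep.LevelsFive

/-! A subgroup of order 5 ^ 3 in the image. -/

set_option autoImplicit false
set_option maxRecDepth 100000
set_option Elab.async false

namespace Cfsg.Agent.ThRep

theorem five_pow0 : powOK 5 fiveLev0 [] = true := by decide +kernel

theorem five_sep0 : sepOK fiveLev0 [] = true := by decide +kernel

theorem five_good0 : Good 5 [fiveLev0] :=
  ⟨inImg_fiveMat3, ⟨five_pow0, trivial⟩, five_sep0, trivial⟩

theorem five_pow1 : powOK 5 fiveLev1 [fiveLev0.A] = true := by decide +kernel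

theorem five_conj1_0 : conjOK fiveLev1 [fiveLev0.A] 0 = true := by decide +kernel

theorem five_sep1 : sepOK fiveLev1 [fiveLev0.A] = true := by decide +kernel

theorem five_good1 : Good 5 [fiveLev1, fiveLev0] :=
  ⟨inImg_fiveMat96, ⟨five_pow1, ⟨trivial, five_conj1_0⟩⟩, five_sep1, five_good0⟩

theorem five_pow2 : powOK 5 fiveLev2 [fiveLev1.A, fiveLev0.A] = true := by decide +kernel

theorem five_conj2_0 : conjOK fiveLev2 [fiveLev1.A, fiveLev0.A] 0 = true := by decide +kernel

theorem five_conj2_1 : conjOK fiveLev2 [fiveLev1.A, fiveLev0.A] 1 = true := by decide +kernel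

theorem five_sep2 : sepOK fiveLev2 [fiveLev1.A, fiveLev0.A] = true := by decide +kernel

theorem five_good2 : Good 5 [fiveLev2, fiveLev1, fiveLev0] :=
  ⟨inImg_fiveMat184, ⟨five_pow2, ⟨⟨trivial, five_conj2_0⟩, five_conj2_1⟩⟩, five_sep2, five_good1⟩

theorem five_subgroup : ∃ K : Subgroup M248ˣ, K ≤ hom.range ∧ Nat.card K = 5 ^ 3 :=
  five_good2.exists_subgroup (by norm_num)

end Cfsg.Agent.ThRep
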