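import Cfsg.Agent.Lib.ThRep.Sylow
import Cfsg.Agent.Lib.ThRep.MatNineteen6

/-! The levels for the subgroup of order 19 ^ 1. -/

set_option autoImplicit false
set_option maxRecDepth 100000
set_option Elab.async false

namespace Cfsg.Agent.ThRep

noncomputable section

/-- level 0, from the bottom -/
def nineteenLev0 : Lev where
  A := nineteenMat6
  pow := []
  conj := []
  orb := [
    0x1]
  perm := []

end

end Cfsg.Agent.ThRep
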