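import Cfsg.Agent.Lib.ThRep.StepsNineteen
import Cfsg.Agent.Lib.ThRep.LevelsNineteen

/-! A subgroup of order 19 ^ 1 in the image. -/

set_option autoImplicit false
set_option maxRecDepth 100000
set_option Elab.async false

namespace Cfsg.Agent.ThRep

theorem nineteen_pow0 : powOK 19 nineteenLev0 [] = true := by decide +kernel

theorem nineteen_sep0 : sepOK nineteenLev0 [] = true := by decide +kernel

theorem nineteen_good0 : Good 19 [nineteenLev0] :=
  ⟨inImg_nineteenMat6, ⟨nineteen_pow0, trivial⟩, nineteen_sep0, trivial⟩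

theorem nineteen_subgroup : ∃ K : Subgroup M248ˣ, K ≤ hom.range ∧ Nat.card K = 19 ^ 1 :=
  nineteen_good0.exists_subgroup (by norm_num)

end Cfsg.Agent.ThRep
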