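import Cfsg.Agent.Lib.ThRep.Sylow
import Cfsg.Agent.Lib.ThRep.MatSeven4

/-! The levels for the subgroup of order 7 ^ 2. -/

set_option autoImplicit false
set_option maxRecDepth 100000
set_option Elab.async false

namespace Cfsg.Agent.ThRep

noncomputable section

/-- level 0, from the bottom -/
def sevenLev0 : Lev where
  A := (genN .s)
  pow := []
  conj := []
  orb := [
    0x1]
  perm := []

/-- level 1, from the bottom -/
def sevenLev1 : Lev where
  A := sevenMat4
  pow := [0]
  conj := [[1]]
  orb := [
    0x40100001000000000000000000000000100401000000000000400]
  perm := [[0]]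

end

end Cfsg.Agent.ThRep
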