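import Cfsg.Agent.Lib.ThRep.StepsSeven
import Cfsg.Agent.Lib.ThRep.LevelsSeven

/-! A subgroup of order 7 ^ 2 in the image. -/

set_option autoImplicit false
set_option maxRecDepth 100000
set_option Elab.async false

namespace Cfsg.Agent.ThRep

theorem seven_pow0 : powOK 7 sevenLev0 [] = true := by decide +kernel

theorem seven_sep0 : sepOK sevenLev0 [] = true := by decide +kernel

theorem seven_good0 : Good 7 [sevenLev0] :=
  ⟨(inImg_gen .s), ⟨seven_pow0, trivial⟩, seven_sep0, trivial⟩

theorem seven_pow1 : powOK 7 sevenLev1 [sevenLev0.A] = true := by decide +kernel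

theorem seven_conj1_0 : conjOK sevenLev1 [sevenLev0.A] 0 = true := by decide +kernel

theorem seven_sep1 : sepOK sevenLev1 [sevenLev0.A] = true := by decide +kernel

theorem seven_good1 : Good 7 [sevenLev1, sevenLev0] :=
  ⟨inImg_sevenMat4, ⟨seven_pow1, ⟨trivial, seven_conj1_0⟩⟩, seven_sep1, seven_good0⟩

theorem seven_subgroup : ∃ K : Subgroup M248ˣ, K ≤ hom.range ∧ Nat.card K = 7 ^ 2 :=
  seven_good1.exists_subgroup (by norm_num)

end Cfsg.Agent.ThRep
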