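import Cfsg.Agent.Lib.ThRep.StepsThirteen
import Cfsg.Agent.Lib.ThRep.LevelsThirteen

/-! A subgroup of order 13 ^ 1 in the image. -/

set_option autoImplicit false
set_option maxRecDepth 100000
set_option Elab.async false

namespace Cfsg.Agent.ThRep

theorem thirteen_pow0 : powOK 13 thirteenLev0 [] = true := by decide +kernel

theorem thirteen_sep0 : sepOK thirteenLev0 [] = true := by decide +kernel

theorem thirteen_good0 : Good 13 [thirteenLev0] :=
  ⟨inImg_thirteenMat22, ⟨thirteen_pow0, trivial⟩, thirteen_sep0, trivial⟩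

theorem thirteen_subgroup : ∃ K : Subgroup M248ˣ, K ≤ hom.range ∧ Nat.card K = 13 ^ 1 :=
  thirteen_good0.exists_subgroup (by norm_num)

end Cfsg.Agent.ThRep
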