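import Cfsg.Agent.Lib.ThRep.StepsThirtyone
import Cfsg.Agent.Lib.ThRep.LevelsThirtyone

/-! A subgroup of order 31 ^ 1 in the image. -/

set_option autoImplicit false
set_option maxRecDepth 100000
set_option Elab.async false

namespace Cfsg.Agent.ThRep

theorem thirtyone_pow0 : powOK 31 thirtyoneLev0 [] = true := by decide +kernel

theorem thirtyone_sep0 : sepOK thirtyoneLev0 [] = true := by decide +kernel

theorem thirtyone_good0 : Good 31 [thirtyoneLev0] :=
  ⟨inImg_thirtyoneMat7, ⟨thirtyone_pow0, trivial⟩, thirtyone_sep0, trivial⟩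

theorem thirtyone_subgroup : ∃ K : Subgroup M248ˣ, K ≤ hom.range ∧ Nat.card K = 31 ^ 1 :=
  thirtyone_good0.exists_subgroup (by norm_num)

end Cfsg.Agent.ThRep
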