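import Cfsg.Agent.Lib.ThRep.StepsThree
import Cfsg.Agent.Lib.ThRep.LevelsThree

/-! A subgroup of order 3 ^ 10 in the image. -/

set_option autoImplicit false
set_option maxRecDepth 100000
set_option Elab.async false

namespace Cfsg.Agent.ThRep

theorem three_pow0 : powOK 3 threeLev0 [] = true := by decide +kernel

theorem three_sep0 : sepOK threeLev0 [] = true := by decide +kernel

theorem three_good0 : Good 3 [threeLev0] :=
  ⟨inImg_threeMat7, ⟨three_pow0, trivial⟩, three_sep0, trivial⟩

theorem three_pow1 : powOK 3 threeLev1 [threeLev0.A] = true := by decide +kernel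

theorem three_conj1_0 : conjOK threeLev1 [threeLev0.A] 0 = true := by decide +kernel

theorem three_sep1 : sepOK threeLev1 [threeLev0.A] = true := by decide +kernel

theorem three_good1 : Good 3 [threeLev1, threeLev0] :=
  ⟨inImg_threeMat210, ⟨three_pow1, ⟨trivial, three_conj1_0⟩⟩, three_sep1, three_good0⟩

theorem three_pow2 : powOK 3 threeLev2 [threeLev1.A, threeLev0.A] = true := by decide +kernel

theorem three_conj2_0 : conjOK threeLev2 [threeLev1.A, threeLev0.A] 0 = true := by decide +kernel

theorem three_conj2_1 : conjOK threeLev2 [threeLev1.A, threeLev0.A] 1 = true := by decide +kernel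

theorem three_sep2 : sepOK threeLev2 [threeLev1.A, threeLev0.A] = true := by decide +kernel

theorem three_good2 : Good 3 [threeLev2, threeLev1, threeLev0] :=
  ⟨inImg_threeMat878, ⟨three_pow2, ⟨⟨trivial, three_conj2_0⟩, three_conj2_1⟩⟩, three_sep2, three_good1⟩

theorem three_pow3 : powOK 3 threeLev3 [threeLev2.A, threeLev1.A, threeLev0.A] = true := by decide +kernel

theorem three_conj3_0 : conjOK threeLev3 [threeLev2.A, threeLev1.A, threeLev0.A] 0 = true := by decide +kernel

theorem three_conj3_1 : conjOK threeLev3 [threeLev2.A, threeLev1.A, threeLev0.A] 1 = true := by decide +kernel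

theorem three_conj3_2 : conjOK threeLev3 [threeLev2.A, threeLev1.A, threeLev0.A] 2 = true := by decide +kernel

theorem three_sep3 : sepOK threeLev3 [threeLev2.A, threeLev1.A, threeLev0.A] = true := by decide +kernel

theorem three_good3 : Good 3 [threeLev3, threeLev2, threeLev1, threeLev0] :=
  ⟨inImg_threeMat941, ⟨three_pow3, ⟨⟨⟨trivial, three_conj3_0⟩, three_conj3_1⟩, three_conj3_2⟩⟩, three_sep3, three_good2⟩

theorem three_pow4 : powOK 3 threeLev4 [threeLev3.A, threeLev2.A, threeLev1.A, threeLev0.A] = true := by decide +kernel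

theorem three_conj4_0 : conjOK threeLev4 [threeLev3.A, threeLev2.A, threeLev1.A, threeLev0.A] 0 = true := by decide +kernel

theorem three_conj4_1 : conjOK threeLev4 [threeLev3.A, threeLev2.A, threeLev1.A, threeLev0.A] 1 = true := by decide +kernel

theorem three_conj4_2 : conjOK threeLev4 [threeLev3.A, threeLev2.A, threeLev1.A, threeLev0.A] 2 = true := by decide +kernel

theorem three_conj4_3 : conjOK threeLev4 [threeLev3.A, threeLev2.A, threeLev1.A, threeLev0.A] 3 = true := by decide +kernel

theorem three_sep4 : sepOK threeLev4 [threeLev3.A, threeLev2.A, threeLev1.A, threeLev0.A] = true := by decide +kernel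

theorem three_good4 : Good 3 [threeLev4, threeLev3, threeLev2, threeLev1, threeLev0] :=
  ⟨inImg_threeMat1116, ⟨three_pow4, ⟨⟨⟨⟨trivial, three_conj4_0⟩, three_conj4_1⟩, three_conj4_2⟩, three_conj4_3⟩⟩, three_sep4, three_good3⟩

theorem three_pow5 : powOK 3 threeLev5 [threeLev4.A, threeLev3.A, threeLev2.A, threeLev1.A, threeLev0.A] = true := by decide +kernel

theorem three_conj5_0 : conjOK threeLev5 [threeLev4.A, threeLev3.A, threeLev2.A, threeLev1.A, threeLev0.A] 0 = true := by decide +kernel

theorem three_conj5_1 : conjOK threeLev5 [threeLev4.A, threeLev3.A, threeLev2.A, threeLev1.A, threeLev0.A] 1 = true := by decide +kernel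

theorem three_conj5_2 : conjOK threeLev5 [threeLev4.A, threeLev3.A, threeLev2.A, threeLev1.A, threeLev0.A] 2 = true := by decide +kernel

theorem three_conj5_3 : conjOK threeLev5 [threeLev4.A, threeLev3.A, threeLev2.A, threeLev1.A, threeLev0.A] 3 = true := by decide +kernel

theorem three_conj5_4 : conjOK threeLev5 [threeLev4.A, threeLev3.A, threeLev2.A, threeLev1.A, threeLev0.A] 4 = true := by decide +kernel

theorem three_sep5 : sepOK threeLev5 [threeLev4.A, threeLev3.A, threeLev2.A, threeLev1.A, threeLev0.A] = true := by decide +kernel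

theorem three_good5 : Good 3 [threeLev5, threeLev4, threeLev3, threeLev2, threeLev1, threeLev0] :=
  ⟨inImg_threeMat1117, ⟨three_pow5, ⟨⟨⟨⟨⟨trivial, three_conj5_0⟩, three_conj5_1⟩, three_conj5_2⟩, three_conj5_3⟩, three_conj5_4⟩⟩, three_sep5, three_good4⟩

theorem three_pow6 : powOK 3 threeLev6 [threeLev5.A, threeLev4.A, threeLev3.A, threeLev2.A, threeLev1.A, threeLev0.A] = true := by decide +kernel

theorem three_conj6_0 : conjOK threeLev6 [threeLev5.A, threeLev4.A, threeLev3.A, threeLev2.A, threeLev1.A, threeLev0.A] 0 = true := by decide +kernel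

theorem three_conj6_1 : conjOK threeLev6 [threeLev5.A, threeLev4.A, threeLev3.A, threeLev2.A, threeLev1.A, threeLev0.A] 1 = true := by decide +kernel

theorem three_conj6_2 : conjOK threeLev6 [threeLev5.A, threeLev4.A, threeLev3.A, threeLev2.A, threeLev1.A, threeLev0.A] 2 = true := by decide +kernel

theorem three_conj6_3 : conjOK threeLev6 [threeLev5.A, threeLev4.A, threeLev3.A, threeLev2.A, threeLev1.A, threeLev0.A] 3 = true := by decide +kernel

theorem three_conj6_4 : conjOK threeLev6 [threeLev5.A, threeLev4.A, threeLev3.A, threeLev2.A, threeLev1.A, threeLev0.A] 4 = true := by decide +kernel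

theorem three_conj6_5 : conjOK threeLev6 [threeLev5.A, threeLev4.A, threeLev3.A, threeLev2.A, threeLev1.A, threeLev0.A] 5 = true := by decide +kernel

theorem three_sep6 : sepOK threeLev6 [threeLev5.A, threeLev4.A, threeLev3.A, threeLev2.A, threeLev1.A, threeLev0.A] = true := by decide +kernel

theorem three_good6 : Good 3 [threeLev6, threeLev5, threeLev4, threeLev3, threeLev2, threeLev1, threeLev0] :=
  ⟨inImg_threeMat1162, ⟨three_pow6, ⟨⟨⟨⟨⟨⟨trivial, three_conj6_0⟩, three_conj6_1⟩, three_conj6_2⟩, three_conj6_3⟩, three_conj6_4⟩, three_conj6_5⟩⟩, three_sep6, three_good5⟩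

theorem three_pow7 : powOK 3 threeLev7 [threeLev6.A, threeLev5.A, threeLev4.A, threeLev3.A, threeLev2.A, threeLev1.A, threeLev0.A] = true := by decide +kernel

theorem three_conj7_0 : conjOK threeLev7 [threeLev6.A, threeLev5.A, threeLev4.A, threeLev3.A, threeLev2.A, threeLev1.A, threeLev0.A] 0 = true := by decide +kernel

theorem three_conj7_1 : conjOK threeLev7 [threeLev6.A, threeLev5.A, threeLev4.A, threeLev3.A, threeLev2.A, threeLev1.A, threeLev0.A] 1 = true := by decide +kernel

theorem three_conj7_2 : conjOK threeLev7 [threeLev6.A, threeLev5.A, threeLev4.A, threeLev3.A, threeLev2.A, threeLev1.A, threeLev0.A] 2 = true := by decide +kernel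

theorem three_conj7_3 : conjOK threeLev7 [threeLev6.A, threeLev5.A, threeLev4.A, threeLev3.A, threeLev2.A, threeLev1.A, threeLev0.A] 3 = true := by decide +kernel

theorem three_conj7_4 : conjOK threeLev7 [threeLev6.A, threeLev5.A, threeLev4.A, threeLev3.A, threeLev2.A, threeLev1.A, threeLev0.A] 4 = true := by decide +kernel

theorem three_conj7_5 : conjOK threeLev7 [threeLev6.A, threeLev5.A, threeLev4.A, threeLev3.A, threeLev2.A, threeLev1.A, threeLev0.A] 5 = true := by decide +kernel

theorem three_conj7_6 : conjOK threeLev7 [threeLev6.A, threeLev5.A, threeLev4.A, threeLev3.A, threeLev2.A, threeLev1.A, threeLev0.A] 6 = true := by decide +kernel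

theorem three_sep7 : sepOK threeLev7 [threeLev6.A, threeLev5.A, threeLev4.A, threeLev3.A, threeLev2.A, threeLev1.A, threeLev0.A] = true := by decide +kernel

theorem three_good7 : Good 3 [threeLev7, threeLev6, threeLev5, threeLev4, threeLev3, threeLev2, threeLev1, threeLev0] :=
  ⟨inImg_threeMat876, ⟨three_pow7, ⟨⟨⟨⟨⟨⟨⟨trivial, three_conj7_0⟩, three_conj7_1⟩, three_conj7_2⟩, three_conj7_3⟩, three_conj7_4⟩, three_conj7_5⟩, three_conj7_6⟩⟩, three_sep7, three_good6⟩

theorem three_pow8 : powOK 3 threeLev8 [threeLev7.A, threeLev6.A, threeLev5.A, threeLev4.A, threeLev3.A, threeLev2.A, threeLev1.A, threeLev0.A] = true := by decide +kernel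

theorem three_conj8_0 : conjOK threeLev8 [threeLev7.A, threeLev6.A, threeLev5.A, threeLev4.A, threeLev3.A, threeLev2.A, threeLev1.A, threeLev0.A] 0 = true := by decide +kernel

theorem three_conj8_1 : conjOK threeLev8 [threeLev7.A, threeLev6.A, threeLev5.A, threeLev4.A, threeLev3.A, threeLev2.A, threeLev1.A, threeLev0.A] 1 = true := by decide +kernel

theorem three_conj8_2 : conjOK threeLev8 [threeLev7.A, threeLev6.A, threeLev5.A, threeLev4.A, threeLev3.A, threeLev2.A, threeLev1.A, threeLev0.A] 2 = true := by decide +kernel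

theorem three_conj8_3 : conjOK threeLev8 [threeLev7.A, threeLev6.A, threeLev5.A, threeLev4.A, threeLev3.A, threeLev2.A, threeLev1.A, threeLev0.A] 3 = true := by decide +kernel

theorem three_conj8_4 : conjOK threeLev8 [threeLev7.A, threeLev6.A, threeLev5.A, threeLev4.A, threeLev3.A, threeLev2.A, threeLev1.A, threeLev0.A] 4 = true := by decide +kernel

theorem three_conj8_5 : conjOK threeLev8 [threeLev7.A, threeLev6.A, threeLev5.A, threeLev4.A, threeLev3.A, threeLev2.A, threeLev1.A, threeLev0.A] 5 = true := by decide +kernel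

theorem three_conj8_6 : conjOK threeLev8 [threeLev7.A, threeLev6.A, threeLev5.A, threeLev4.A, threeLev3.A, threeLev2.A, threeLev1.A, threeLev0.A] 6 = true := by decide +kernel

theorem three_conj8_7 : conjOK threeLev8 [threeLev7.A, threeLev6.A, threeLev5.A, threeLev4.A, threeLev3.A, threeLev2.A, threeLev1.A, threeLev0.A] 7 = true := by decide +kernel

theorem three_sep8 : sepOK threeLev8 [threeLev7.A, threeLev6.A, threeLev5.A, threeLev4.A, threeLev3.A, threeLev2.A, threeLev1.A, threeLev0.A] = true := by decide +kernel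

theorem three_good8 : Good 3 [threeLev8, threeLev7, threeLev6, threeLev5, threeLev4, threeLev3, threeLev2, threeLev1, threeLev0] :=
  ⟨inImg_threeMat1178, ⟨three_pow8, ⟨⟨⟨⟨⟨⟨⟨⟨trivial, three_conj8_0⟩, three_conj8_1⟩, three_conj8_2⟩, three_conj8_3⟩, three_conj8_4⟩, three_conj8_5⟩, three_conj8_6⟩, three_conj8_7⟩⟩, three_sep8, three_good7⟩

theorem three_pow9 : powOK 3 threeLev9 [threeLev8.A, threeLev7.A, threeLev6.A, threeLev5.A, threeLev4.A, threeLev3.A, threeLev2.A, threeLev1.A, threeLev0.A] = true := by decide +kernel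

theorem three_conj9_0 : conjOK threeLev9 [threeLev8.A, threeLev7.A, threeLev6.A, threeLev5.A, threeLev4.A, threeLev3.A, threeLev2.A, threeLev1.A, threeLev0.A] 0 = true := by decide +kernel

theorem three_conj9_1 : conjOK threeLev9 [threeLev8.A, threeLev7.A, threeLev6.A, threeLev5.A, threeLev4.A, threeLev3.A, threeLev2.A, threeLev1.A, threeLev0.A] 1 = true := by decide +kernel

theorem three_conj9_2 : conjOK threeLev9 [threeLev8.A, threeLev7.A, threeLev6.A, threeLev5.A, threeLev4.A, threeLev3.A, threeLev2.A, threeLev1.A, threeLev0.A] 2 = true := by decide +kernel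

theorem three_conj9_3 : conjOK threeLev9 [threeLev8.A, threeLev7.A, threeLev6.A, threeLev5.A, threeLev4.A, threeLev3.A, threeLev2.A, threeLev1.A, threeLev0.A] 3 = true := by decide +kernel

theorem three_conj9_4 : conjOK threeLev9 [threeLev8.A, threeLev7.A, threeLev6.A, threeLev5.A, threeLev4.A, threeLev3.A, threeLev2.A, threeLev1.A, threeLev0.A] 4 = true := by decide +kernel

theorem three_conj9_5 : conjOK threeLev9 [threeLev8.A, threeLev7.A, threeLev6.A, threeLev5.A, threeLev4.A, threeLev3.A, threeLev2.A, threeLev1.A, threeLev0.A] 5 = true := by decide +kernel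

theorem three_conj9_6 : conjOK threeLev9 [threeLev8.A, threeLev7.A, threeLev6.A, threeLev5.A, threeLev4.A, threeLev3.A, threeLev2.A, threeLev1.A, threeLev0.A] 6 = true := by decide +kernel

theorem three_conj9_7 : conjOK threeLev9 [threeLev8.A, threeLev7.A, threeLev6.A, threeLev5.A, threeLev4.A, threeLev3.A, threeLev2.A, threeLev1.A, threeLev0.A] 7 = true := by decide +kernel

theorem three_conj9_8 : conjOK threeLev9 [threeLev8.A, threeLev7.A, threeLev6.A, threeLev5.A, threeLev4.A, threeLev3.A, threeLev2.A, threeLev1.A, threeLev0.A] 8 = true := by decide +kernel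

theorem three_sep9 : sepOK threeLev9 [threeLev8.A, threeLev7.A, threeLev6.A, threeLev5.A, threeLev4.A, threeLev3.A, threeLev2.A, threeLev1.A, threeLev0.A] = true := by decide +kernel

theorem three_good9 : Good 3 [threeLev9, threeLev8, threeLev7, threeLev6, threeLev5, threeLev4, threeLev3, threeLev2, threeLev1, threeLev0] :=
  ⟨inImg_threeMat1206, ⟨three_pow9, ⟨⟨⟨⟨⟨⟨⟨⟨⟨trivial, three_conj9_0⟩, three_conj9_1⟩, three_conj9_2⟩, three_conj9_3⟩, three_conj9_4⟩, three_conj9_5⟩, three_conj9_6⟩, three_conj9_7⟩, three_conj9_8⟩⟩, three_sep9, three_good8⟩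

theorem three_subgroup : ∃ K : Subgroup M248ˣ, K ≤ hom.range ∧ Nat.card K = 3 ^ 10 :=
  three_good9.exists_subgroup (by norm_num)

end Cfsg.Agent.ThRep
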