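import Cfsg.Agent.Lib.ThRep.CheckTwo
import Cfsg.Agent.Lib.ThRep.CheckThree
import Cfsg.Agent.Lib.ThRep.CheckFive
import Cfsg.Agent.Lib.ThRep.CheckSeven
import Cfsg.Agent.Lib.ThRep.CheckThirteen
import Cfsg.Agent.Lib.ThRep.CheckNineteen
import Cfsg.Agent.Lib.ThRep.CheckThirtyone
import Mathlib.GroupTheory.Index

/-! The image of the representation has order a multiple of 90745943887872000. -/

set_option autoImplicit false

namespace Cfsg.Agent.ThRep

theorem dvd_range {n : ℕ} (h : ∃ K : Subgroup M248ˣ, K ≤ hom.range ∧ Nat.card K = n) :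
    n ∣ Nat.card hom.range := by
  obtain ⟨K, hK, rfl⟩ := h
  exact Subgroup.card_dvd_of_le hK

theorem card_range_dvd : 90745943887872000 ∣ Nat.card hom.range := by
  rw [show (90745943887872000 : ℕ) = 2 ^ 15 * 3 ^ 10 * 5 ^ 3 * 7 ^ 2 * 13 ^ 1 * 19 ^ 1 * 31 ^ 1 by norm_num]
  exact Nat.Coprime.mul_dvd_of_dvd_of_dvd (by norm_num) (Nat.Coprime.mul_dvd_of_dvd_of_dvd (by norm_num)
    (Nat.Coprime.mul_dvd_of_dvd_of_dvd (by norm_num) (Nat.Coprime.mul_dvd_of_dvd_of_dvd (by norm_num)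
    (Nat.Coprime.mul_dvd_of_dvd_of_dvd (by norm_num) (Nat.Coprime.mul_dvd_of_dvd_of_dvd (by norm_num)
      (dvd_range two_subgroup) (dvd_range three_subgroup)) (dvd_range five_subgroup)) (dvd_range seven_subgroup))
      (dvd_range thirteen_subgroup)) (dvd_range nineteen_subgroup)) (dvd_range thirtyone_subgroup)

end Cfsg.Agent.ThRep
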