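import Cfsg.Agent.Lib.ThRep.Lanes
import Mathlib.Data.Matrix.Mul
import Mathlib.Data.ZMod.Basic
import Mathlib.Tactic.IntervalCases

/-! The packed matrices are matrices of size 248 over the field with three elements. -/

set_option autoImplicit false

namespace Cfsg.Agent.ThRep

noncomputable section

/-- Square matrices of size 248 over the field with three elements. -/
abbrev M248 : Type := Matrix (Fin 248) (Fin 248) (ZMod 3)

/-- The number of entries, kept from being evaluated. -/
irreducible_def entries : ℕ := 248 * 248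

theorem entries_eq : entries = 248 * 248 := by rw [entries]

theorem fill_eq (c : ℕ) : fill c = pk (fun _ => c) entries := by
  rw [entries_eq, fill, show (2480 : ℕ) = 10 * 248 by norm_num, pattern_rows (fun _ => c) (fun _ _ _ _ => rfl)]
  rw [pattern_lanes]

theorem colMask_eq : colMask = pk (fun q => if q % 248 = 0 then 1023 else 0) entries := by
  rw [entries_eq, colMask, show (2480 : ℕ) = 10 * 248 by norm_num]
  refine pattern_rows _ (fun r _ i hi => ?_) ?_
  · simp only [Nat.mul_add_mod_self_right]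
  · rw [pk_congr (g := fun i => if i = 0 then 1023 else 0) fun i hi => by rw [Nat.mod_eq_of_lt hi],
      pk_unit (by norm_num), Nat.mul_zero, pow_zero, Nat.mul_one]

theorem rowMask_eq : rowMask = pk (fun q => if q < 248 then 1023 else 0) entries := by
  rw [rowMask, pattern_lanes, entries_eq, show 248 * 248 = 248 + 247 * 248 by norm_num,
    pk_extend _ fun i hi => if_neg (by omega)]
  exact pk_congr fun i hi => (if_pos hi).symm

theorem and_1023 {x : ℕ} (h : x < 1024) : x &&& 1023 = x := by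
  rw [show (1023 : ℕ) = 2 ^ 10 - 1 by norm_num, Nat.and_two_pow_sub_one_eq_mod, Nat.mod_eq_of_lt (by norm_num; omega)]

/-- Shift by whole lanes, the lanes above being empty. -/
theorem shift_lanes {n : ℕ} {a : ℕ → ℕ} (ha : ∀ q, a q < 1024) (h0 : ∀ q, n ≤ q → a q = 0) (m : ℕ) :
    Nat.shiftRight (pk a n) (10 * m) = pk (fun q => a (q + m)) n := by
  rw [← pk_extend m h0, shiftRight_pk m fun i _ => ha i]

theorem colPart {n : ℕ} {a : ℕ → ℕ} (ha : ∀ q, a q < 1024) (h0 : ∀ q, n ≤ q → a q = 0) (i : ℕ)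
    (hn : entries = n) :
    Nat.land (Nat.shiftRight (pk a n) (Nat.mul 10 i)) colMask =
      pk (fun q => if q % 248 = 0 then a (q + i) else 0) n := by
  show Nat.land (Nat.shiftRight (pk a n) (10 * i)) colMask = _
  rw [shift_lanes ha h0, colMask_eq, hn, and_pk (fun q _ => ha _) (fun q _ => by split <;> omega)]
  refine pk_congr fun q _ => ?_
  split
  · exact and_1023 (ha _)
  · exact Nat.and_zero _

theorem rowPart {n : ℕ} {b : ℕ → ℕ} (hb : ∀ q, b q < 1024) (h0 : ∀ q, n ≤ q → b q = 0) (i : ℕ)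
    (hn : entries = n) :
    Nat.land (Nat.shiftRight (pk b n) (Nat.mul 2480 i)) rowMask = pk (fun q => b (i * 248 + q)) 248 := by
  show Nat.land (Nat.shiftRight (pk b n) (2480 * i)) rowMask = _
  rw [show 2480 * i = 10 * (i * 248) by ring, shift_lanes hb h0, rowMask_eq, hn,
    and_pk (fun q _ => hb _) (fun q _ => by split <;> omega)]
  obtain ⟨d, hd⟩ : ∃ d, n = 248 + d := ⟨247 * 248, by rw [← hn, entries_eq]⟩
  rw [hd, pk_extend d fun q hq => by rw [if_neg (by omega), Nat.and_zero]]
  refine pk_congr fun q hq => ?_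
  rw [if_pos hq, and_1023 (hb _), Nat.add_comm]

theorem col_mul_row {w : ℕ} (hw : 0 < w) (col row : ℕ → ℕ) (h : ∀ q, q % w ≠ 0 → col q = 0) :
    ∀ m, pk col (m * w) * pk row w = pk (fun q => col (q / w * w) * row (q % w)) (m * w) := by
  intro m
  rw [pk_prod col, pk_prod (fun q => col (q / w * w) * row (q % w))]
  induction m with
  | zero => simp
  | succ m ih =>
    show (_ + _) * _ = _ + _
    rw [Nat.add_mul, ih, Nat.mul_assoc]
    congr 2
    rw [pk_congr (g := fun i => if i = 0 then col (m * w) else 0) fun i hi => ?_, pk_unit hw,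
      Nat.mul_zero, pow_zero, Nat.mul_one, mul_pk]
    · refine pk_congr fun i hi => ?_
      rw [Nat.add_comm, Nat.add_mul_mod_self_right, Nat.mod_eq_of_lt hi, Nat.add_mul_div_right _ _ hw,
        Nat.div_eq_of_lt hi, Nat.zero_add]
    · by_cases e : i = 0
      · subst e; simp
      · rw [if_neg e, h]
        rw [Nat.add_comm, Nat.add_mul_mod_self_right, Nat.mod_eq_of_lt hi]
        exact e

/-- The product of entries before reduction. -/
def dot (a b : ℕ → ℕ) (n q : ℕ) : ℕ :=
  ∑ i ∈ Finset.range n, a (q / 248 * 248 + i) * b (i * 248 + q % 248)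

theorem accum_eq {n : ℕ} {a b : ℕ → ℕ} (ha : ∀ q, a q < 1024) (hb : ∀ q, b q < 1024)
    (ha0 : ∀ q, n ≤ q → a q = 0) (hb0 : ∀ q, n ≤ q → b q = 0) (hn : entries = n) :
    ∀ k, accum (pk a n) (pk b n) k = pk (dot a b k) n := by
  intro k
  induction k with
  | zero => exact (pk_congr fun q _ => Finset.sum_range_zero _).trans (pk_zero n) |>.symm
  | succ k ih =>
    show accum (pk a n) (pk b n) k +
      Nat.land (Nat.shiftRight (pk a n) (Nat.mul 10 k)) colMask *
      Nat.land (Nat.shiftRight (pk b n) (Nat.mul 2480 k)) rowMask = _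
    rw [ih, colPart ha ha0 k hn, rowPart hb hb0 k hn]
    have e : n = 248 * 248 := by rw [← hn, entries_eq]
    subst e
    rw [col_mul_row (by norm_num) _ _ fun q hq => if_neg hq, pk_add]
    refine pk_congr fun q _ => ?_
    rw [dot, dot, Finset.sum_range_succ, if_pos (Nat.mul_mod_left _ _)]

theorem dot_le {a b : ℕ → ℕ} (ha : ∀ q, a q < 3) (hb : ∀ q, b q < 3) (q : ℕ) : dot a b 248 q < 1024 := by
  have h : ∀ i, a (q / 248 * 248 + i) * b (i * 248 + q % 248) ≤ 4 := fun i =>
    Nat.mul_le_mul (Nat.le_of_lt_succ (ha _)) (Nat.le_of_lt_succ (hb _))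
  calc dot a b 248 q ≤ ∑ _i ∈ Finset.range 248, 4 := Finset.sum_le_sum fun i _ => h i
    _ < 1024 := by simp

theorem foldK_eq {n : ℕ} {f : ℕ → ℕ} {lo hi k : ℕ} (hn : entries = n) (hf : ∀ q < n, f q < 1024)
    (hlo : lo < 1024) (hhi : hi < 2 ^ (10 - k)) :
    foldK (fill lo) (fill hi) k (pk f n) = pk (fun q => (f q &&& lo) + ((f q >>> k) &&& hi)) n := by
  show Nat.land (pk f n) (fill lo) + Nat.land (Nat.shiftRight (pk f n) k) (fill hi) = _
  rw [fill_eq, fill_eq, hn, and_pk hf fun _ _ => hlo, shift_and_pk k hf fun _ _ => hhi, pk_add]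

/-- The reduction in one lane, before the last step. -/
def fold1 (lo hi k x : ℕ) : ℕ := (x &&& lo) + ((x >>> k) &&& hi)

/-- The reduction in one lane. -/
def red1 (x : ℕ) : ℕ :=
  fold1 3 255 2 (fold1 3 255 2 (fold1 3 255 2 (fold1 15 63 4 (fold1 15 63 4 (fold1 15 63 4 x)))))

theorem red1_spec : ∀ x < 1024, red1 x ≤ 3 ∧ red1 x - 3 * (red1 x &&& ((red1 x >>> 1) &&& 1)) = x % 3 := by
  decide +kernel

theorem fold1_lt {lo hi : ℕ} (k x : ℕ) (h : lo + hi < 1024) : fold1 lo hi k x < 1024 :=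
  lt_of_le_of_lt (Nat.add_le_add Nat.and_le_right Nat.and_le_right) h

theorem pk_sub {f g : ℕ → ℕ} {n : ℕ} (h : ∀ i < n, g i ≤ f i) : pk f n - pk g n = pk (fun i => f i - g i) n := by
  have e : pk (fun i => f i - g i) n + pk g n = pk f n := by
    rw [pk_add]; exact pk_congr fun i hi => Nat.sub_add_cancel (h i hi)
  rw [← e, Nat.add_sub_cancel]

theorem reduce_eq {n : ℕ} {f : ℕ → ℕ} (hn : entries = n) (hf : ∀ q < n, f q < 1024) :
    reduce (pk f n) = pk (fun q => f q % 3) n := by
  have b4 : ∀ y, fold1 15 63 4 y < 1024 := fun y => fold1_lt 4 y (by norm_num)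
  have b2 : ∀ y, fold1 3 255 2 y < 1024 := fun y => fold1_lt 2 y (by norm_num)
  have e4 : ∀ g : ℕ → ℕ, (∀ q < n, g q < 1024) →
      foldK (fill 15) (fill 63) 4 (pk g n) = pk (fun q => fold1 15 63 4 (g q)) n := fun g hg =>
    foldK_eq hn hg (by norm_num) (by norm_num)
  have e2 : ∀ g : ℕ → ℕ, (∀ q < n, g q < 1024) →
      foldK (fill 3) (fill 255) 2 (pk g n) = pk (fun q => fold1 3 255 2 (g q)) n := fun g hg =>
    foldK_eq hn hg (by norm_num) (by norm_num)
  rw [reduce, e4 _ hf, e4 _ fun q _ => b4 _, e4 _ fun q _ => b4 _, e2 _ fun q _ => b4 _,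
    e2 _ fun q _ => b2 _, e2 _ fun q _ => b2 _]
  show Nat.sub (pk (fun q => red1 (f q)) n) (Nat.mul 3 (Nat.land (Nat.land (pk (fun q => red1 (f q)) n)
    (Nat.shiftRight (pk (fun q => red1 (f q)) n) 1)) (fill 1))) = _
  have hr : ∀ q < n, red1 (f q) < 1024 := fun q _ => b2 _
  rw [show Nat.land (Nat.land (pk (fun q => red1 (f q)) n) (Nat.shiftRight (pk (fun q => red1 (f q)) n) 1))
      (fill 1) = Nat.land (pk (fun q => red1 (f q)) n)
        (Nat.land (Nat.shiftRight (pk (fun q => red1 (f q)) n) 1) (fill 1)) from Nat.and_assoc _ _ _,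
    fill_eq, hn, shift_and_pk 1 hr fun _ _ => by norm_num,
    and_pk hr fun q _ => lt_of_le_of_lt Nat.and_le_right (by norm_num)]
  show _ - 3 * _ = _
  rw [mul_pk, pk_sub fun q hq => ?_]
  · exact pk_congr fun q hq => (red1_spec _ (hf q hq)).2
  · have h3 := (red1_spec _ (hf q hq)).1
    generalize red1 (f q) = y at h3 ⊢
    interval_cases y <;> decide

/-- The matrix of a number. -/
def toM (A : ℕ) : M248 := Matrix.of fun i j => (lane A (i.1 * 248 + j.1) : ZMod 3)

theorem matOK_spec {A : ℕ} (h : matOK A = true) : A < 2 ^ (10 * entries) ∧ ∀ q, lane A q < 3 := by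
  simp only [matOK, Bool.and_eq_true, Nat.beq_eq] at h
  obtain ⟨h1, h2⟩ := h
  have hb : A < 2 ^ (10 * entries) := by
    rw [← h1]
    exact lt_of_le_of_lt Nat.and_le_right (by rw [fill_eq]; exact pk_lt fun _ _ => by norm_num)
  refine ⟨hb, fun q => ?_⟩
  by_cases hq : q < entries
  swap
  · rw [lane, Nat.div_eq_of_lt (lt_of_lt_of_le hb (Nat.pow_le_pow_right (by norm_num) (by omega)))]
    norm_num
  have e := eq_pk_lane hb
  have hl : ∀ i < entries, lane A i < 1024 := fun i _ => lane_lt A i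
  rw [e, fill_eq, and_pk hl fun _ _ => by norm_num] at h1
  rw [show Nat.land (Nat.land A (Nat.shiftRight A 1)) (fill 1) =
      Nat.land A (Nat.land (Nat.shiftRight A 1) (fill 1)) from Nat.and_assoc _ _ _, e, fill_eq,
    shift_and_pk 1 hl fun _ _ => by norm_num, and_pk hl fun _ _ => lt_of_le_of_lt Nat.and_le_right (by norm_num)] at h2
  have a1 := congrArg (fun x => lane x q) h1
  have a2 := congrArg (fun x => lane x q) h2
  rw [lane_pk (fun i _ => lt_of_le_of_lt Nat.and_le_right (by norm_num)) hq, lane_pk hl hq] at a1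
  rw [lane_pk (fun i hi => lt_of_le_of_lt Nat.and_le_left (hl i hi)) hq,
    show lane 0 q = 0 by simp [lane]] at a2
  have h4 : lane A q < 4 := a1 ▸ lt_of_le_of_lt Nat.and_le_right (by norm_num)
  by_contra h3
  rw [show lane A q = 3 by omega] at a2
  exact absurd a2 (by decide)

theorem mulP_eq {A B : ℕ} (hA : matOK A = true) (hB : matOK B = true) :
    mulP A B = pk (fun q => dot (lane A) (lane B) 248 q % 3) entries := by
  obtain ⟨hA1, hA2⟩ := matOK_spec hA
  obtain ⟨hB1, hB2⟩ := matOK_spec hB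
  have z : ∀ X : ℕ, X < 2 ^ (10 * entries) → ∀ q, entries ≤ q → lane X q = 0 := fun X hX q hq => by
    rw [lane, Nat.div_eq_of_lt (lt_of_lt_of_le hX (Nat.pow_le_pow_right (by norm_num) (by omega)))]
  conv_lhs => rw [mulP, eq_pk_lane hA1, eq_pk_lane hB1]
  rw [accum_eq (lane_lt A) (lane_lt B) (z A hA1) (z B hB1) rfl, reduce_eq rfl fun q _ => dot_le hA2 hB2 q]

theorem matOK_pk {f : ℕ → ℕ} (h : ∀ q < entries, f q < 3) : matOK (pk f entries) = true := by
  have hl : ∀ i < entries, f i < 1024 := fun i hi => (h i hi).trans (by norm_num)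
  simp only [matOK, Bool.and_eq_true, Nat.beq_eq]
  refine ⟨?_, ?_⟩
  · rw [fill_eq, and_pk hl fun _ _ => by norm_num]
    refine pk_congr fun q hq => ?_
    rw [show (3 : ℕ) = 2 ^ 2 - 1 by norm_num, Nat.and_two_pow_sub_one_eq_mod,
      Nat.mod_eq_of_lt ((h q hq).trans (by norm_num))]
  · rw [show ∀ X Y Z : ℕ, Nat.land (Nat.land X Y) Z = Nat.land X (Nat.land Y Z) from Nat.and_assoc,
      fill_eq, shift_and_pk 1 hl fun _ _ => by norm_num,
      and_pk hl fun _ _ => lt_of_le_of_lt Nat.and_le_right (by norm_num)]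
    refine (pk_congr fun q hq => ?_).trans (pk_zero entries)
    have h3 := h q hq
    generalize f q = y at h3 ⊢
    interval_cases y <;> rfl

theorem mulP_matOK {A B : ℕ} (hA : matOK A = true) (hB : matOK B = true) : matOK (mulP A B) = true := by
  rw [mulP_eq hA hB]
  exact matOK_pk fun q _ => Nat.mod_lt _ (by norm_num)

theorem toM_mulP {A B : ℕ} (hA : matOK A = true) (hB : matOK B = true) :
    toM (mulP A B) = toM A * toM B := by
  ext i j
  have hq : i.1 * 248 + j.1 < entries := by rw [entries_eq]; have := i.2; have := j.2; omega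
  rw [Matrix.mul_apply]
  show (lane (mulP A B) (i.1 * 248 + j.1) : ZMod 3) = ∑ k, (lane A _ : ZMod 3) * (lane B _ : ZMod 3)
  rw [mulP_eq hA hB, lane_pk (fun q _ => (Nat.mod_lt _ (by norm_num : 3 > 0)).trans (by norm_num)) hq,
    ZMod.natCast_mod, dot, Nat.cast_sum, Nat.add_comm, Nat.add_mul_div_right _ _ (by norm_num),
    Nat.div_eq_of_lt j.2, Nat.zero_add, Nat.add_mul_mod_self_right, Nat.mod_eq_of_lt j.2,
    ← Fin.sum_univ_eq_sum_range (fun k => ((lane A (i.1 * 248 + k) * lane B (k * 248 + j.1) : ℕ) : ZMod 3)) 248]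
  exact Finset.sum_congr rfl fun k _ => Nat.cast_mul _ _

theorem one_eq : one = pk (fun q => if q % 248 = q / 248 then 1 else 0) entries := by
  rw [entries_eq, pk_prod, one, pattern_eq]
  suffices ∀ m ≤ 248, (Nat.rec 0 (fun r s => s + 2 ^ (2490 * r) * 1) m : ℕ) =
      Nat.rec 0 (fun r s => s + 2 ^ (10 * (r * 248)) *
        pk (fun i => if (r * 248 + i) % 248 = (r * 248 + i) / 248 then 1 else 0) 248) m from this 248 le_rfl
  intro m
  induction m with
  | zero => intro _; rfl
  | succ m ih =>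
    intro hm
    show _ + _ = _ + _
    rw [ih (by omega), pk_congr (g := fun i => if i = m then 1 else 0) fun i hi => by
      rw [Nat.add_comm, Nat.add_mul_mod_self_right, Nat.mod_eq_of_lt hi,
        Nat.add_mul_div_right _ _ (by norm_num), Nat.div_eq_of_lt hi, Nat.zero_add],
      pk_unit (by omega), Nat.one_mul, Nat.mul_one, ← pow_add]
    congr 2
    ring

theorem one_matOK : matOK one = true := by decide +kernel

theorem toM_one : toM one = 1 := by
  ext i j
  have hq : i.1 * 248 + j.1 < entries := by rw [entries_eq]; have := i.2; have := j.2; omega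
  show (lane one (i.1 * 248 + j.1) : ZMod 3) = _
  rw [one_eq, lane_pk (fun q _ => by split <;> norm_num) hq, Nat.add_comm, Nat.add_mul_mod_self_right,
    Nat.mod_eq_of_lt j.2, Nat.add_mul_div_right _ _ (by norm_num), Nat.div_eq_of_lt j.2, Nat.zero_add,
    Matrix.one_apply]
  by_cases e : i = j
  · subst e; simp
  · simp [e, Ne.symm (Fin.val_ne_of_ne e)]

theorem toM_inj {A B : ℕ} (hA : matOK A = true) (hB : matOK B = true) (h : toM A = toM B) : A = B := by
  obtain ⟨hA1, hA2⟩ := matOK_spec hA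
  obtain ⟨hB1, hB2⟩ := matOK_spec hB
  rw [eq_pk_lane hA1, eq_pk_lane hB1]
  refine pk_congr fun q hq => ?_
  rw [entries_eq] at hq
  have e : (lane A (q / 248 * 248 + q % 248) : ZMod 3) = (lane B (q / 248 * 248 + q % 248) : ZMod 3) :=
    congrFun (congrFun h ⟨q / 248, by omega⟩) ⟨q % 248, by omega⟩
  rw [show q / 248 * 248 + q % 248 = q by omega, ZMod.natCast_eq_natCast_iff',
    Nat.mod_eq_of_lt (hA2 q), Nat.mod_eq_of_lt (hB2 q)] at e
  exact e

end

end Cfsg.Agent.ThRep
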