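import Cfsg.Prelude.Def_Spor_Th
import Cfsg.Agent.Lib.ThRep.Base
import Cfsg.Agent.Lib.ThRep.Gen0
import Cfsg.Agent.Lib.ThRep.Gen1
import Cfsg.Agent.Lib.ThRep.Gen2
import Cfsg.Agent.Lib.ThRep.Gen3
import Cfsg.Agent.Lib.ThRep.Gen4
import Cfsg.Agent.Lib.ThRep.Gen5
import Cfsg.Agent.Lib.ThRep.Gen6
import Cfsg.Agent.Lib.ThRep.Gen7

/-! The matrices of the generators `a, b, c, d, e, s, t, u` of the presented Thompson group. -/

set_option autoImplicit false
set_option maxRecDepth 100000

namespace Cfsg.Agent.ThRep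

open Cfsg.Spor.Th (Gen)

noncomputable section

/-- The matrix of a generator. -/
def genN : Gen → ℕ
  | .a => gen0
  | .b => gen1
  | .c => gen2
  | .d => gen3
  | .e => gen4
  | .s => gen5
  | .t => gen6
  | .u => gen7

/-- The powers that give the inverses. -/
def invN : Gen → ℕ
  | .a => gen0
  | .b => gen1
  | .c => gen2
  | .d => gen3
  | .e => gen4
  | .s => mulP (mulP gen5 (mulP gen5 gen5)) (mulP gen5 (mulP gen5 gen5))
  | .t => mulP gen6 gen6
  | .u => mulP gen7 (mulP gen7 gen7)

/-- The check on one generator. -/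
def genOK (x : Gen) : Bool :=
  matOK (genN x) && matOK (invN x) && Nat.beq (mulP (genN x) (invN x)) one &&
    Nat.beq (mulP (invN x) (genN x)) one

theorem ok_a : genOK .a = true := by decide +kernel
theorem ok_b : genOK .b = true := by decide +kernel
theorem ok_c : genOK .c = true := by decide +kernel
theorem ok_d : genOK .d = true := by decide +kernel
theorem ok_e : genOK .e = true := by decide +kernel
theorem ok_s : genOK .s = true := by decide +kernel
theorem ok_t : genOK .t = true := by decide +kernel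
theorem ok_u : genOK .u = true := by decide +kernel

theorem gen_ok : ∀ x, genOK x = true
  | .a => ok_a
  | .b => ok_b
  | .c => ok_c
  | .d => ok_d
  | .e => ok_e
  | .s => ok_s
  | .t => ok_t
  | .u => ok_u

/-- A number represents a unit. -/
def IsMat (A : ℕ) (u : M248ˣ) : Prop := matOK A = true ∧ toM A = (u : M248)

theorem IsMat.mul {A B : ℕ} {u w : M248ˣ} (hA : IsMat A u) (hB : IsMat B w) : IsMat (mulP A B) (u * w) :=
  ⟨mulP_matOK hA.1 hB.1, by rw [toM_mulP hA.1 hB.1, hA.2, hB.2, Units.val_mul]⟩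

theorem isMat_one : IsMat one 1 := ⟨one_matOK, toM_one⟩

theorem IsMat.unique {A : ℕ} {u w : M248ˣ} (hA : IsMat A u) (hA' : IsMat A w) : u = w :=
  Units.ext (hA.2.symm.trans hA'.2)

theorem IsMat.ne_of_ne {A B : ℕ} {u w : M248ˣ} (hA : IsMat A u) (hB : IsMat B w) (h : Nat.beq A B = false) :
    u ≠ w := fun e => Nat.ne_of_beq_eq_false h (toM_inj hA.1 hB.1 (by rw [hA.2, hB.2, e]))

/-- The unit of a generator. -/
def genU (x : Gen) : M248ˣ where
  val := toM (genN x)
  inv := toM (invN x)
  val_inv := by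
    have h := gen_ok x
    simp only [genOK, Bool.and_eq_true, Nat.beq_eq] at h
    rw [← toM_mulP h.1.1.1 h.1.1.2, h.1.2, toM_one]
  inv_val := by
    have h := gen_ok x
    simp only [genOK, Bool.and_eq_true, Nat.beq_eq] at h
    rw [← toM_mulP h.1.1.2 h.1.1.1, h.2, toM_one]

theorem isMat_gen (x : Gen) : IsMat (genN x) (genU x) := by
  have h := gen_ok x
  simp only [genOK, Bool.and_eq_true] at h
  exact ⟨h.1.1.1, rfl⟩

theorem isMat_inv (x : Gen) : IsMat (invN x) (genU x)⁻¹ := by
  have h := gen_ok x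
  simp only [genOK, Bool.and_eq_true] at h
  exact ⟨h.1.1.2, rfl⟩

/-- The matrix of a letter. -/
def letN (y : Gen × Bool) : ℕ := bif y.2 then genN y.1 else invN y.1

/-- The unit of a letter. -/
def letU (y : Gen × Bool) : M248ˣ := bif y.2 then genU y.1 else (genU y.1)⁻¹

theorem isMat_let (y : Gen × Bool) : IsMat (letN y) (letU y) := by
  obtain ⟨x, _ | _⟩ := y
  · exact isMat_inv x
  · exact isMat_gen x

/-- The product along a word. -/
def wordN : List (Gen × Bool) → ℕ :=
  List.rec one (fun y l r => List.rec (letN y) (fun _ _ _ => mulP (letN y) r) l)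

theorem wordN_spec : ∀ L : List (Gen × Bool), IsMat (wordN L) (L.map letU).prod
  | [] => isMat_one
  | [y] => by
    rw [List.map_cons, List.map_nil, List.prod_cons, List.prod_nil, mul_one]
    exact isMat_let y
  | y :: y' :: l => by
    rw [List.map_cons, List.prod_cons]
    exact (isMat_let y).mul (wordN_spec (y' :: l))

theorem lift_mk (L : List (Gen × Bool)) : FreeGroup.lift genU (FreeGroup.mk L) = (L.map letU).prod := by
  rw [FreeGroup.lift_mk]; rfl

end

end Cfsg.Agent.ThRep
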