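import Cfsg.Agent.Lib.ThRep.Gens

/-! All relators hold for the matrices. -/

set_option autoImplicit false
set_option maxRecDepth 100000

namespace Cfsg.Agent.ThRep

noncomputable section

/-- The check of relator `k`. -/
def relOK (k : ℕ) : Bool := Nat.beq (wordN ((Cfsg.Spor.Th.extra.getD k 1).toWord)) one

/-- The checks of `n` relators from `b` on. -/
def relRange (b n : ℕ) : Bool := Nat.rec true (fun i r => r && relOK (b + i)) n

theorem relRange_spec {b : ℕ} : ∀ {n : ℕ}, relRange b n = true → ∀ i < n, relOK (b + i) = true := by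
  intro n
  induction n with
  | zero => intro _ i hi; omega
  | succ n ih =>
    intro h i hi
    change (relRange b n && relOK (b + n)) = true at h
    rw [Bool.and_eq_true] at h
    rcases Nat.lt_succ_iff_lt_or_eq.1 hi with h1 | rfl
    · exact ih h.1 i h1
    · exact h.2

theorem rel0 : relRange 0 15 = true := by decide +kernel

theorem rel1 : relRange 15 18 = true := by decide +kernel

theorem rel2 : relRange 33 6 = true := by decide +kernel

theorem rel_ok : ∀ k < 39, relOK k = true := by
  intro k hk
  by_cases h0 : k < 15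
  · have := relRange_spec rel0 (k - 0) (by omega)
    rwa [Nat.add_sub_cancel' (by omega)] at this
  by_cases h1 : k < 33
  · have := relRange_spec rel1 (k - 15) (by omega)
    rwa [Nat.add_sub_cancel' (by omega)] at this
  have := relRange_spec rel2 (k - 33) (by omega)
  rwa [Nat.add_sub_cancel' (by omega)] at this

theorem lift_extra : ∀ r ∈ Cfsg.Spor.Th.extra, FreeGroup.lift genU r = 1 := by
  intro r hr
  obtain ⟨k, hk, rfl⟩ := List.getElem_of_mem hr
  have h := rel_ok k (lt_of_lt_of_eq hk rfl)
  rw [relOK, Nat.beq_eq, List.getD_eq_getElem _ _ hk] at h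
  have hw := wordN_spec (Cfsg.Spor.Th.extra[k]).toWord
  rw [h, ← lift_mk, FreeGroup.mk_toWord] at hw
  exact hw.unique isMat_one

theorem relators_one : ∀ r ∈ Cfsg.Spor.coxRelators Cfsg.Spor.Th.edges ∪ {r | r ∈ Cfsg.Spor.Th.extra},
    FreeGroup.lift genU r = 1 := by
  rintro r (⟨x, hx, -⟩ | hr)
  · simp [Cfsg.Spor.coxNodes, Cfsg.Spor.Th.edges] at hx
  · exact lift_extra r hr

/-- The representation. -/
def hom : Cfsg.Spor.Th →* M248ˣ := PresentedGroup.toGroup relators_one

theorem hom_mk (w : FreeGroup Cfsg.Spor.Th.Gen) :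
    hom (PresentedGroup.mk _ w) = FreeGroup.lift genU w := rfl

end

end Cfsg.Agent.ThRep
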