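import Cfsg.Agent.Lib.ThRep.Sylow
import Cfsg.Agent.Lib.ThRep.MatNineteen6

/-! The elements lie in the image. -/

set_option autoImplicit false
set_option maxRecDepth 100000
set_option Elab.async false

namespace Cfsg.Agent.ThRep

theorem eq_nineteenMat6 : Nat.beq nineteenMat6 (mulP (mulP (mulP (genN .t) (genN .c)) (mulP (genN .a) (genN .d))) (mulP (mulP (invN .s) (genN .b)) (mulP (genN .u) (genN .a)))) = true := by decide +kernel

theorem inImg_nineteenMat6 : InImg nineteenMat6 :=
  Nat.eq_of_beq_eq_true eq_nineteenMat6 ▸ (InImg.mul (InImg.mul (InImg.mul (inImg_gen .t) (inImg_gen .c)) (InImg.mul (inImg_gen .a) (inImg_gen .d))) (InImg.mul (InImg.mul (inImg_inv .s) (inImg_gen .b)) (InImg.mul (inImg_gen .u) (inImg_gen .a))))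

end Cfsg.Agent.ThRep
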