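import Cfsg.Agent.Lib.ThRep.Sylow
import Cfsg.Agent.Lib.ThRep.MatThirtyone7

/-! The elements lie in the image. -/

set_option autoImplicit false
set_option maxRecDepth 100000
set_option Elab.async false

namespace Cfsg.Agent.ThRep

theorem eq_thirtyoneMat7 : Nat.beq thirtyoneMat7 (mulP (mulP (mulP (genN .c) (genN .t)) (mulP (genN .t) (invN .t))) (mulP (mulP (genN .s) (genN .u)) (mulP (genN .d) (mulP (genN .c) (genN .b))))) = true := by decide +kernel

theorem inImg_thirtyoneMat7 : InImg thirtyoneMat7 :=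
  Nat.eq_of_beq_eq_true eq_thirtyoneMat7 ▸ (InImg.mul (InImg.mul (InImg.mul (inImg_gen .c) (inImg_gen .t)) (InImg.mul (inImg_gen .t) (inImg_inv .t))) (InImg.mul (InImg.mul (inImg_gen .s) (inImg_gen .u)) (InImg.mul (inImg_gen .d) (InImg.mul (inImg_gen .c) (inImg_gen .b)))))

end Cfsg.Agent.ThRep
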