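import Cfsg.Agent.Lib.ThRep.StepsTwo
import Cfsg.Agent.Lib.ThRep.LevelsTwo

/-! A subgroup of order 2 ^ 15 in the image. -/

set_option autoImplicit false
set_option maxRecDepth 100000
set_option Elab.async false

namespace Cfsg.Agent.ThRep

theorem two_pow0 : powOK 2 twoLev0 [] = true := by decide +kernel

theorem two_sep0 : sepOK twoLev0 [] = true := by decide +kernel

theorem two_good0 : Good 2 [twoLev0] :=
  ⟨(inImg_gen .a), ⟨two_pow0, trivial⟩, two_sep0, trivial⟩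

theorem two_pow1 : powOK 2 twoLev1 [twoLev0.A] = true := by decide +kernel

theorem two_conj1_0 : conjOK twoLev1 [twoLev0.A] 0 = true := by decide +kernel

theorem two_sep1 : sepOK twoLev1 [twoLev0.A] = true := by decide +kernel

theorem two_good1 : Good 2 [twoLev1, twoLev0] :=
  ⟨(inImg_gen .c), ⟨two_pow1, ⟨trivial, two_conj1_0⟩⟩, two_sep1, two_good0⟩

theorem two_pow2 : powOK 2 twoLev2 [twoLev1.A, twoLev0.A] = true := by decide +kernel

theorem two_conj2_0 : conjOK twoLev2 [twoLev1.A, twoLev0.A] 0 = true := by decide +kernel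

theorem two_conj2_1 : conjOK twoLev2 [twoLev1.A, twoLev0.A] 1 = true := by decide +kernel

theorem two_sep2 : sepOK twoLev2 [twoLev1.A, twoLev0.A] = true := by decide +kernel

theorem two_good2 : Good 2 [twoLev2, twoLev1, twoLev0] :=
  ⟨inImg_twoMat1, ⟨two_pow2, ⟨⟨trivial, two_conj2_0⟩, two_conj2_1⟩⟩, two_sep2, two_good1⟩

theorem two_pow3 : powOK 2 twoLev3 [twoLev2.A, twoLev1.A, twoLev0.A] = true := by decide +kernel

theorem two_conj3_0 : conjOK twoLev3 [twoLev2.A, twoLev1.A, twoLev0.A] 0 = true := by decide +kernel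

theorem two_conj3_1 : conjOK twoLev3 [twoLev2.A, twoLev1.A, twoLev0.A] 1 = true := by decide +kernel

theorem two_conj3_2 : conjOK twoLev3 [twoLev2.A, twoLev1.A, twoLev0.A] 2 = true := by decide +kernel

theorem two_sep3 : sepOK twoLev3 [twoLev2.A, twoLev1.A, twoLev0.A] = true := by decide +kernel

theorem two_good3 : Good 2 [twoLev3, twoLev2, twoLev1, twoLev0] :=
  ⟨inImg_twoMat5, ⟨two_pow3, ⟨⟨⟨trivial, two_conj3_0⟩, two_conj3_1⟩, two_conj3_2⟩⟩, two_sep3, two_good2⟩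

theorem two_pow4 : powOK 2 twoLev4 [twoLev3.A, twoLev2.A, twoLev1.A, twoLev0.A] = true := by decide +kernel

theorem two_conj4_0 : conjOK twoLev4 [twoLev3.A, twoLev2.A, twoLev1.A, twoLev0.A] 0 = true := by decide +kernel

theorem two_conj4_1 : conjOK twoLev4 [twoLev3.A, twoLev2.A, twoLev1.A, twoLev0.A] 1 = true := by decide +kernel

theorem two_conj4_2 : conjOK twoLev4 [twoLev3.A, twoLev2.A, twoLev1.A, twoLev0.A] 2 = true := by decide +kernel

theorem two_conj4_3 : conjOK twoLev4 [twoLev3.A, twoLev2.A, twoLev1.A, twoLev0.A] 3 = true := by decide +kernel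

theorem two_sep4 : sepOK twoLev4 [twoLev3.A, twoLev2.A, twoLev1.A, twoLev0.A] = true := by decide +kernel

theorem two_good4 : Good 2 [twoLev4, twoLev3, twoLev2, twoLev1, twoLev0] :=
  ⟨inImg_twoMat9, ⟨two_pow4, ⟨⟨⟨⟨trivial, two_conj4_0⟩, two_conj4_1⟩, two_conj4_2⟩, two_conj4_3⟩⟩, two_sep4, two_good3⟩

theorem two_pow5 : powOK 2 twoLev5 [twoLev4.A, twoLev3.A, twoLev2.A, twoLev1.A, twoLev0.A] = true := by decide +kernel

theorem two_conj5_0 : conjOK twoLev5 [twoLev4.A, twoLev3.A, twoLev2.A, twoLev1.A, twoLev0.A] 0 = true := by decide +kernel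

theorem two_conj5_1 : conjOK twoLev5 [twoLev4.A, twoLev3.A, twoLev2.A, twoLev1.A, twoLev0.A] 1 = true := by decide +kernel

theorem two_conj5_2 : conjOK twoLev5 [twoLev4.A, twoLev3.A, twoLev2.A, twoLev1.A, twoLev0.A] 2 = true := by decide +kernel

theorem two_conj5_3 : conjOK twoLev5 [twoLev4.A, twoLev3.A, twoLev2.A, twoLev1.A, twoLev0.A] 3 = true := by decide +kernel

theorem two_conj5_4 : conjOK twoLev5 [twoLev4.A, twoLev3.A, twoLev2.A, twoLev1.A, twoLev0.A] 4 = true := by decide +kernel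

theorem two_sep5 : sepOK twoLev5 [twoLev4.A, twoLev3.A, twoLev2.A, twoLev1.A, twoLev0.A] = true := by decide +kernel

theorem two_good5 : Good 2 [twoLev5, twoLev4, twoLev3, twoLev2, twoLev1, twoLev0] :=
  ⟨inImg_twoMat13, ⟨two_pow5, ⟨⟨⟨⟨⟨trivial, two_conj5_0⟩, two_conj5_1⟩, two_conj5_2⟩, two_conj5_3⟩, two_conj5_4⟩⟩, two_sep5, two_good4⟩

theorem two_pow6 : powOK 2 twoLev6 [twoLev5.A, twoLev4.A, twoLev3.A, twoLev2.A, twoLev1.A, twoLev0.A] = true := by decide +kernel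

theorem two_conj6_0 : conjOK twoLev6 [twoLev5.A, twoLev4.A, twoLev3.A, twoLev2.A, twoLev1.A, twoLev0.A] 0 = true := by decide +kernel

theorem two_conj6_1 : conjOK twoLev6 [twoLev5.A, twoLev4.A, twoLev3.A, twoLev2.A, twoLev1.A, twoLev0.A] 1 = true := by decide +kernel

theorem two_conj6_2 : conjOK twoLev6 [twoLev5.A, twoLev4.A, twoLev3.A, twoLev2.A, twoLev1.A, twoLev0.A] 2 = true := by decide +kernel

theorem two_conj6_3 : conjOK twoLev6 [twoLev5.A, twoLev4.A, twoLev3.A, twoLev2.A, twoLev1.A, twoLev0.A] 3 = true := by decide +kernel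

theorem two_conj6_4 : conjOK twoLev6 [twoLev5.A, twoLev4.A, twoLev3.A, twoLev2.A, twoLev1.A, twoLev0.A] 4 = true := by decide +kernel

theorem two_conj6_5 : conjOK twoLev6 [twoLev5.A, twoLev4.A, twoLev3.A, twoLev2.A, twoLev1.A, twoLev0.A] 5 = true := by decide +kernel

theorem two_sep6 : sepOK twoLev6 [twoLev5.A, twoLev4.A, twoLev3.A, twoLev2.A, twoLev1.A, twoLev0.A] = true := by decide +kernel

theorem two_good6 : Good 2 [twoLev6, twoLev5, twoLev4, twoLev3, twoLev2, twoLev1, twoLev0] :=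
  ⟨inImg_twoMat17, ⟨two_pow6, ⟨⟨⟨⟨⟨⟨trivial, two_conj6_0⟩, two_conj6_1⟩, two_conj6_2⟩, two_conj6_3⟩, two_conj6_4⟩, two_conj6_5⟩⟩, two_sep6, two_good5⟩

theorem two_pow7 : powOK 2 twoLev7 [twoLev6.A, twoLev5.A, twoLev4.A, twoLev3.A, twoLev2.A, twoLev1.A, twoLev0.A] = true := by decide +kernel

theorem two_conj7_0 : conjOK twoLev7 [twoLev6.A, twoLev5.A, twoLev4.A, twoLev3.A, twoLev2.A, twoLev1.A, twoLev0.A] 0 = true := by decide +kernel

theorem two_conj7_1 : conjOK twoLev7 [twoLev6.A, twoLev5.A, twoLev4.A, twoLev3.A, twoLev2.A, twoLev1.A, twoLev0.A] 1 = true := by decide +kernel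

theorem two_conj7_2 : conjOK twoLev7 [twoLev6.A, twoLev5.A, twoLev4.A, twoLev3.A, twoLev2.A, twoLev1.A, twoLev0.A] 2 = true := by decide +kernel

theorem two_conj7_3 : conjOK twoLev7 [twoLev6.A, twoLev5.A, twoLev4.A, twoLev3.A, twoLev2.A, twoLev1.A, twoLev0.A] 3 = true := by decide +kernel

theorem two_conj7_4 : conjOK twoLev7 [twoLev6.A, twoLev5.A, twoLev4.A, twoLev3.A, twoLev2.A, twoLev1.A, twoLev0.A] 4 = true := by decide +kernel

theorem two_conj7_5 : conjOK twoLev7 [twoLev6.A, twoLev5.A, twoLev4.A, twoLev3.A, twoLev2.A, twoLev1.A, twoLev0.A] 5 = true := by decide +kernel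

theorem two_conj7_6 : conjOK twoLev7 [twoLev6.A, twoLev5.A, twoLev4.A, twoLev3.A, twoLev2.A, twoLev1.A, twoLev0.A] 6 = true := by decide +kernel

theorem two_sep7 : sepOK twoLev7 [twoLev6.A, twoLev5.A, twoLev4.A, twoLev3.A, twoLev2.A, twoLev1.A, twoLev0.A] = true := by decide +kernel

theorem two_good7 : Good 2 [twoLev7, twoLev6, twoLev5, twoLev4, twoLev3, twoLev2, twoLev1, twoLev0] :=
  ⟨inImg_twoMat23, ⟨two_pow7, ⟨⟨⟨⟨⟨⟨⟨trivial, two_conj7_0⟩, two_conj7_1⟩, two_conj7_2⟩, two_conj7_3⟩, two_conj7_4⟩, two_conj7_5⟩, two_conj7_6⟩⟩, two_sep7, two_good6⟩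

theorem two_pow8 : powOK 2 twoLev8 [twoLev7.A, twoLev6.A, twoLev5.A, twoLev4.A, twoLev3.A, twoLev2.A, twoLev1.A, twoLev0.A] = true := by decide +kernel

theorem two_conj8_0 : conjOK twoLev8 [twoLev7.A, twoLev6.A, twoLev5.A, twoLev4.A, twoLev3.A, twoLev2.A, twoLev1.A, twoLev0.A] 0 = true := by decide +kernel

theorem two_conj8_1 : conjOK twoLev8 [twoLev7.A, twoLev6.A, twoLev5.A, twoLev4.A, twoLev3.A, twoLev2.A, twoLev1.A, twoLev0.A] 1 = true := by decide +kernel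

theorem two_conj8_2 : conjOK twoLev8 [twoLev7.A, twoLev6.A, twoLev5.A, twoLev4.A, twoLev3.A, twoLev2.A, twoLev1.A, twoLev0.A] 2 = true := by decide +kernel

theorem two_conj8_3 : conjOK twoLev8 [twoLev7.A, twoLev6.A, twoLev5.A, twoLev4.A, twoLev3.A, twoLev2.A, twoLev1.A, twoLev0.A] 3 = true := by decide +kernel

theorem two_conj8_4 : conjOK twoLev8 [twoLev7.A, twoLev6.A, twoLev5.A, twoLev4.A, twoLev3.A, twoLev2.A, twoLev1.A, twoLev0.A] 4 = true := by decide +kernel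

theorem two_conj8_5 : conjOK twoLev8 [twoLev7.A, twoLev6.A, twoLev5.A, twoLev4.A, twoLev3.A, twoLev2.A, twoLev1.A, twoLev0.A] 5 = true := by decide +kernel

theorem two_conj8_6 : conjOK twoLev8 [twoLev7.A, twoLev6.A, twoLev5.A, twoLev4.A, twoLev3.A, twoLev2.A, twoLev1.A, twoLev0.A] 6 = true := by decide +kernel

theorem two_conj8_7 : conjOK twoLev8 [twoLev7.A, twoLev6.A, twoLev5.A, twoLev4.A, twoLev3.A, twoLev2.A, twoLev1.A, twoLev0.A] 7 = true := by decide +kernel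

theorem two_sep8 : sepOK twoLev8 [twoLev7.A, twoLev6.A, twoLev5.A, twoLev4.A, twoLev3.A, twoLev2.A, twoLev1.A, twoLev0.A] = true := by decide +kernel

theorem two_good8 : Good 2 [twoLev8, twoLev7, twoLev6, twoLev5, twoLev4, twoLev3, twoLev2, twoLev1, twoLev0] :=
  ⟨inImg_twoMat29, ⟨two_pow8, ⟨⟨⟨⟨⟨⟨⟨⟨trivial, two_conj8_0⟩, two_conj8_1⟩, two_conj8_2⟩, two_conj8_3⟩, two_conj8_4⟩, two_conj8_5⟩, two_conj8_6⟩, two_conj8_7⟩⟩, two_sep8, two_good7⟩

theorem two_pow9 : powOK 2 twoLev9 [twoLev8.A, twoLev7.A, twoLev6.A, twoLev5.A, twoLev4.A, twoLev3.A, twoLev2.A, twoLev1.A, twoLev0.A] = true := by decide +kernel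

theorem two_conj9_0 : conjOK twoLev9 [twoLev8.A, twoLev7.A, twoLev6.A, twoLev5.A, twoLev4.A, twoLev3.A, twoLev2.A, twoLev1.A, twoLev0.A] 0 = true := by decide +kernel

theorem two_conj9_1 : conjOK twoLev9 [twoLev8.A, twoLev7.A, twoLev6.A, twoLev5.A, twoLev4.A, twoLev3.A, twoLev2.A, twoLev1.A, twoLev0.A] 1 = true := by decide +kernel

theorem two_conj9_2 : conjOK twoLev9 [twoLev8.A, twoLev7.A, twoLev6.A, twoLev5.A, twoLev4.A, twoLev3.A, twoLev2.A, twoLev1.A, twoLev0.A] 2 = true := by decide +kernel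

theorem two_conj9_3 : conjOK twoLev9 [twoLev8.A, twoLev7.A, twoLev6.A, twoLev5.A, twoLev4.A, twoLev3.A, twoLev2.A, twoLev1.A, twoLev0.A] 3 = true := by decide +kernel

theorem two_conj9_4 : conjOK twoLev9 [twoLev8.A, twoLev7.A, twoLev6.A, twoLev5.A, twoLev4.A, twoLev3.A, twoLev2.A, twoLev1.A, twoLev0.A] 4 = true := by decide +kernel

theorem two_conj9_5 : conjOK twoLev9 [twoLev8.A, twoLev7.A, twoLev6.A, twoLev5.A, twoLev4.A, twoLev3.A, twoLev2.A, twoLev1.A, twoLev0.A] 5 = true := by decide +kernel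

theorem two_conj9_6 : conjOK twoLev9 [twoLev8.A, twoLev7.A, twoLev6.A, twoLev5.A, twoLev4.A, twoLev3.A, twoLev2.A, twoLev1.A, twoLev0.A] 6 = true := by decide +kernel

theorem two_conj9_7 : conjOK twoLev9 [twoLev8.A, twoLev7.A, twoLev6.A, twoLev5.A, twoLev4.A, twoLev3.A, twoLev2.A, twoLev1.A, twoLev0.A] 7 = true := by decide +kernel

theorem two_conj9_8 : conjOK twoLev9 [twoLev8.A, twoLev7.A, twoLev6.A, twoLev5.A, twoLev4.A, twoLev3.A, twoLev2.A, twoLev1.A, twoLev0.A] 8 = true := by decide +kernel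

theorem two_sep9 : sepOK twoLev9 [twoLev8.A, twoLev7.A, twoLev6.A, twoLev5.A, twoLev4.A, twoLev3.A, twoLev2.A, twoLev1.A, twoLev0.A] = true := by decide +kernel

theorem two_good9 : Good 2 [twoLev9, twoLev8, twoLev7, twoLev6, twoLev5, twoLev4, twoLev3, twoLev2, twoLev1, twoLev0] :=
  ⟨inImg_twoMat36, ⟨two_pow9, ⟨⟨⟨⟨⟨⟨⟨⟨⟨trivial, two_conj9_0⟩, two_conj9_1⟩, two_conj9_2⟩, two_conj9_3⟩, two_conj9_4⟩, two_conj9_5⟩, two_conj9_6⟩, two_conj9_7⟩, two_conj9_8⟩⟩, two_sep9, two_good8⟩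

theorem two_pow10 : powOK 2 twoLev10 [twoLev9.A, twoLev8.A, twoLev7.A, twoLev6.A, twoLev5.A, twoLev4.A, twoLev3.A, twoLev2.A, twoLev1.A, twoLev0.A] = true := by decide +kernel

theorem two_conj10_0 : conjOK twoLev10 [twoLev9.A, twoLev8.A, twoLev7.A, twoLev6.A, twoLev5.A, twoLev4.A, twoLev3.A, twoLev2.A, twoLev1.A, twoLev0.A] 0 = true := by decide +kernel

theorem two_conj10_1 : conjOK twoLev10 [twoLev9.A, twoLev8.A, twoLev7.A, twoLev6.A, twoLev5.A, twoLev4.A, twoLev3.A, twoLev2.A, twoLev1.A, twoLev0.A] 1 = true := by decide +kernel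

theorem two_conj10_2 : conjOK twoLev10 [twoLev9.A, twoLev8.A, twoLev7.A, twoLev6.A, twoLev5.A, twoLev4.A, twoLev3.A, twoLev2.A, twoLev1.A, twoLev0.A] 2 = true := by decide +kernel

theorem two_conj10_3 : conjOK twoLev10 [twoLev9.A, twoLev8.A, twoLev7.A, twoLev6.A, twoLev5.A, twoLev4.A, twoLev3.A, twoLev2.A, twoLev1.A, twoLev0.A] 3 = true := by decide +kernel

theorem two_conj10_4 : conjOK twoLev10 [twoLev9.A, twoLev8.A, twoLev7.A, twoLev6.A, twoLev5.A, twoLev4.A, twoLev3.A, twoLev2.A, twoLev1.A, twoLev0.A] 4 = true := by decide +kernel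

theorem two_conj10_5 : conjOK twoLev10 [twoLev9.A, twoLev8.A, twoLev7.A, twoLev6.A, twoLev5.A, twoLev4.A, twoLev3.A, twoLev2.A, twoLev1.A, twoLev0.A] 5 = true := by decide +kernel

theorem two_conj10_6 : conjOK twoLev10 [twoLev9.A, twoLev8.A, twoLev7.A, twoLev6.A, twoLev5.A, twoLev4.A, twoLev3.A, twoLev2.A, twoLev1.A, twoLev0.A] 6 = true := by decide +kernel

theorem two_conj10_7 : conjOK twoLev10 [twoLev9.A, twoLev8.A, twoLev7.A, twoLev6.A, twoLev5.A, twoLev4.A, twoLev3.A, twoLev2.A, twoLev1.A, twoLev0.A] 7 = true := by decide +kernel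

theorem two_conj10_8 : conjOK twoLev10 [twoLev9.A, twoLev8.A, twoLev7.A, twoLev6.A, twoLev5.A, twoLev4.A, twoLev3.A, twoLev2.A, twoLev1.A, twoLev0.A] 8 = true := by decide +kernel

theorem two_conj10_9 : conjOK twoLev10 [twoLev9.A, twoLev8.A, twoLev7.A, twoLev6.A, twoLev5.A, twoLev4.A, twoLev3.A, twoLev2.A, twoLev1.A, twoLev0.A] 9 = true := by decide +kernel

theorem two_sep10 : sepOK twoLev10 [twoLev9.A, twoLev8.A, twoLev7.A, twoLev6.A, twoLev5.A, twoLev4.A, twoLev3.A, twoLev2.A, twoLev1.A, twoLev0.A] = true := by decide +kernel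

theorem two_good10 : Good 2 [twoLev10, twoLev9, twoLev8, twoLev7, twoLev6, twoLev5, twoLev4, twoLev3, twoLev2, twoLev1, twoLev0] :=
  ⟨inImg_twoMat37, ⟨two_pow10, ⟨⟨⟨⟨⟨⟨⟨⟨⟨⟨trivial, two_conj10_0⟩, two_conj10_1⟩, two_conj10_2⟩, two_conj10_3⟩, two_conj10_4⟩, two_conj10_5⟩, two_conj10_6⟩, two_conj10_7⟩, two_conj10_8⟩, two_conj10_9⟩⟩, two_sep10, two_good9⟩

theorem two_pow11 : powOK 2 twoLev11 [twoLev10.A, twoLev9.A, twoLev8.A, twoLev7.A, twoLev6.A, twoLev5.A, twoLev4.A, twoLev3.A, twoLev2.A, twoLev1.A, twoLev0.A] = true := by decide +kernel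

theorem two_conj11_0 : conjOK twoLev11 [twoLev10.A, twoLev9.A, twoLev8.A, twoLev7.A, twoLev6.A, twoLev5.A, twoLev4.A, twoLev3.A, twoLev2.A, twoLev1.A, twoLev0.A] 0 = true := by decide +kernel

theorem two_conj11_1 : conjOK twoLev11 [twoLev10.A, twoLev9.A, twoLev8.A, twoLev7.A, twoLev6.A, twoLev5.A, twoLev4.A, twoLev3.A, twoLev2.A, twoLev1.A, twoLev0.A] 1 = true := by decide +kernel

theorem two_conj11_2 : conjOK twoLev11 [twoLev10.A, twoLev9.A, twoLev8.A, twoLev7.A, twoLev6.A, twoLev5.A, twoLev4.A, twoLev3.A, twoLev2.A, twoLev1.A, twoLev0.A] 2 = true := by decide +kernel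

theorem two_conj11_3 : conjOK twoLev11 [twoLev10.A, twoLev9.A, twoLev8.A, twoLev7.A, twoLev6.A, twoLev5.A, twoLev4.A, twoLev3.A, twoLev2.A, twoLev1.A, twoLev0.A] 3 = true := by decide +kernel

theorem two_conj11_4 : conjOK twoLev11 [twoLev10.A, twoLev9.A, twoLev8.A, twoLev7.A, twoLev6.A, twoLev5.A, twoLev4.A, twoLev3.A, twoLev2.A, twoLev1.A, twoLev0.A] 4 = true := by decide +kernel

theorem two_conj11_5 : conjOK twoLev11 [twoLev10.A, twoLev9.A, twoLev8.A, twoLev7.A, twoLev6.A, twoLev5.A, twoLev4.A, twoLev3.A, twoLev2.A, twoLev1.A, twoLev0.A] 5 = true := by decide +kernel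

theorem two_conj11_6 : conjOK twoLev11 [twoLev10.A, twoLev9.A, twoLev8.A, twoLev7.A, twoLev6.A, twoLev5.A, twoLev4.A, twoLev3.A, twoLev2.A, twoLev1.A, twoLev0.A] 6 = true := by decide +kernel

theorem two_conj11_7 : conjOK twoLev11 [twoLev10.A, twoLev9.A, twoLev8.A, twoLev7.A, twoLev6.A, twoLev5.A, twoLev4.A, twoLev3.A, twoLev2.A, twoLev1.A, twoLev0.A] 7 = true := by decide +kernel

theorem two_conj11_8 : conjOK twoLev11 [twoLev10.A, twoLev9.A, twoLev8.A, twoLev7.A, twoLev6.A, twoLev5.A, twoLev4.A, twoLev3.A, twoLev2.A, twoLev1.A, twoLev0.A] 8 = true := by decide +kernel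

theorem two_conj11_9 : conjOK twoLev11 [twoLev10.A, twoLev9.A, twoLev8.A, twoLev7.A, twoLev6.A, twoLev5.A, twoLev4.A, twoLev3.A, twoLev2.A, twoLev1.A, twoLev0.A] 9 = true := by decide +kernel

theorem two_conj11_10 : conjOK twoLev11 [twoLev10.A, twoLev9.A, twoLev8.A, twoLev7.A, twoLev6.A, twoLev5.A, twoLev4.A, twoLev3.A, twoLev2.A, twoLev1.A, twoLev0.A] 10 = true := by decide +kernel

theorem two_sep11 : sepOK twoLev11 [twoLev10.A, twoLev9.A, twoLev8.A, twoLev7.A, twoLev6.A, twoLev5.A, twoLev4.A, twoLev3.A, twoLev2.A, twoLev1.A, twoLev0.A] = true := by decide +kernel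

theorem two_good11 : Good 2 [twoLev11, twoLev10, twoLev9, twoLev8, twoLev7, twoLev6, twoLev5, twoLev4, twoLev3, twoLev2, twoLev1, twoLev0] :=
  ⟨inImg_twoMat43, ⟨two_pow11, ⟨⟨⟨⟨⟨⟨⟨⟨⟨⟨⟨trivial, two_conj11_0⟩, two_conj11_1⟩, two_conj11_2⟩, two_conj11_3⟩, two_conj11_4⟩, two_conj11_5⟩, two_conj11_6⟩, two_conj11_7⟩, two_conj11_8⟩, two_conj11_9⟩, two_conj11_10⟩⟩, two_sep11, two_good10⟩

theorem two_pow12 : powOK 2 twoLev12 [twoLev11.A, twoLev10.A, twoLev9.A, twoLev8.A, twoLev7.A, twoLev6.A, twoLev5.A, twoLev4.A, twoLev3.A, twoLev2.A, twoLev1.A, twoLev0.A] = true := by decide +kernel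

theorem two_conj12_0 : conjOK twoLev12 [twoLev11.A, twoLev10.A, twoLev9.A, twoLev8.A, twoLev7.A, twoLev6.A, twoLev5.A, twoLev4.A, twoLev3.A, twoLev2.A, twoLev1.A, twoLev0.A] 0 = true := by decide +kernel

theorem two_conj12_1 : conjOK twoLev12 [twoLev11.A, twoLev10.A, twoLev9.A, twoLev8.A, twoLev7.A, twoLev6.A, twoLev5.A, twoLev4.A, twoLev3.A, twoLev2.A, twoLev1.A, twoLev0.A] 1 = true := by decide +kernel

theorem two_conj12_2 : conjOK twoLev12 [twoLev11.A, twoLev10.A, twoLev9.A, twoLev8.A, twoLev7.A, twoLev6.A, twoLev5.A, twoLev4.A, twoLev3.A, twoLev2.A, twoLev1.A, twoLev0.A] 2 = true := by decide +kernel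

theorem two_conj12_3 : conjOK twoLev12 [twoLev11.A, twoLev10.A, twoLev9.A, twoLev8.A, twoLev7.A, twoLev6.A, twoLev5.A, twoLev4.A, twoLev3.A, twoLev2.A, twoLev1.A, twoLev0.A] 3 = true := by decide +kernel

theorem two_conj12_4 : conjOK twoLev12 [twoLev11.A, twoLev10.A, twoLev9.A, twoLev8.A, twoLev7.A, twoLev6.A, twoLev5.A, twoLev4.A, twoLev3.A, twoLev2.A, twoLev1.A, twoLev0.A] 4 = true := by decide +kernel

theorem two_conj12_5 : conjOK twoLev12 [twoLev11.A, twoLev10.A, twoLev9.A, twoLev8.A, twoLev7.A, twoLev6.A, twoLev5.A, twoLev4.A, twoLev3.A, twoLev2.A, twoLev1.A, twoLev0.A] 5 = true := by decide +kernel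

theorem two_conj12_6 : conjOK twoLev12 [twoLev11.A, twoLev10.A, twoLev9.A, twoLev8.A, twoLev7.A, twoLev6.A, twoLev5.A, twoLev4.A, twoLev3.A, twoLev2.A, twoLev1.A, twoLev0.A] 6 = true := by decide +kernel

theorem two_conj12_7 : conjOK twoLev12 [twoLev11.A, twoLev10.A, twoLev9.A, twoLev8.A, twoLev7.A, twoLev6.A, twoLev5.A, twoLev4.A, twoLev3.A, twoLev2.A, twoLev1.A, twoLev0.A] 7 = true := by decide +kernel

theorem two_conj12_8 : conjOK twoLev12 [twoLev11.A, twoLev10.A, twoLev9.A, twoLev8.A, twoLev7.A, twoLev6.A, twoLev5.A, twoLev4.A, twoLev3.A, twoLev2.A, twoLev1.A, twoLev0.A] 8 = true := by decide +kernel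

theorem two_conj12_9 : conjOK twoLev12 [twoLev11.A, twoLev10.A, twoLev9.A, twoLev8.A, twoLev7.A, twoLev6.A, twoLev5.A, twoLev4.A, twoLev3.A, twoLev2.A, twoLev1.A, twoLev0.A] 9 = true := by decide +kernel

theorem two_conj12_10 : conjOK twoLev12 [twoLev11.A, twoLev10.A, twoLev9.A, twoLev8.A, twoLev7.A, twoLev6.A, twoLev5.A, twoLev4.A, twoLev3.A, twoLev2.A, twoLev1.A, twoLev0.A] 10 = true := by decide +kernel

theorem two_conj12_11 : conjOK twoLev12 [twoLev11.A, twoLev10.A, twoLev9.A, twoLev8.A, twoLev7.A, twoLev6.A, twoLev5.A, twoLev4.A, twoLev3.A, twoLev2.A, twoLev1.A, twoLev0.A] 11 = true := by decide +kernel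

theorem two_sep12 : sepOK twoLev12 [twoLev11.A, twoLev10.A, twoLev9.A, twoLev8.A, twoLev7.A, twoLev6.A, twoLev5.A, twoLev4.A, twoLev3.A, twoLev2.A, twoLev1.A, twoLev0.A] = true := by decide +kernel

theorem two_good12 : Good 2 [twoLev12, twoLev11, twoLev10, twoLev9, twoLev8, twoLev7, twoLev6, twoLev5, twoLev4, twoLev3, twoLev2, twoLev1, twoLev0] :=
  ⟨inImg_twoMat49, ⟨two_pow12, ⟨⟨⟨⟨⟨⟨⟨⟨⟨⟨⟨⟨trivial, two_conj12_0⟩, two_conj12_1⟩, two_conj12_2⟩, two_conj12_3⟩, two_conj12_4⟩, two_conj12_5⟩, two_conj12_6⟩, two_conj12_7⟩, two_conj12_8⟩, two_conj12_9⟩, two_conj12_10⟩, two_conj12_11⟩⟩, two_sep12, two_good11⟩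

theorem two_pow13 : powOK 2 twoLev13 [twoLev12.A, twoLev11.A, twoLev10.A, twoLev9.A, twoLev8.A, twoLev7.A, twoLev6.A, twoLev5.A, twoLev4.A, twoLev3.A, twoLev2.A, twoLev1.A, twoLev0.A] = true := by decide +kernel

theorem two_conj13_0 : conjOK twoLev13 [twoLev12.A, twoLev11.A, twoLev10.A, twoLev9.A, twoLev8.A, twoLev7.A, twoLev6.A, twoLev5.A, twoLev4.A, twoLev3.A, twoLev2.A, twoLev1.A, twoLev0.A] 0 = true := by decide +kernel

theorem two_conj13_1 : conjOK twoLev13 [twoLev12.A, twoLev11.A, twoLev10.A, twoLev9.A, twoLev8.A, twoLev7.A, twoLev6.A, twoLev5.A, twoLev4.A, twoLev3.A, twoLev2.A, twoLev1.A, twoLev0.A] 1 = true := by decide +kernel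

theorem two_conj13_2 : conjOK twoLev13 [twoLev12.A, twoLev11.A, twoLev10.A, twoLev9.A, twoLev8.A, twoLev7.A, twoLev6.A, twoLev5.A, twoLev4.A, twoLev3.A, twoLev2.A, twoLev1.A, twoLev0.A] 2 = true := by decide +kernel

theorem two_conj13_3 : conjOK twoLev13 [twoLev12.A, twoLev11.A, twoLev10.A, twoLev9.A, twoLev8.A, twoLev7.A, twoLev6.A, twoLev5.A, twoLev4.A, twoLev3.A, twoLev2.A, twoLev1.A, twoLev0.A] 3 = true := by decide +kernel

theorem two_conj13_4 : conjOK twoLev13 [twoLev12.A, twoLev11.A, twoLev10.A, twoLev9.A, twoLev8.A, twoLev7.A, twoLev6.A, twoLev5.A, twoLev4.A, twoLev3.A, twoLev2.A, twoLev1.A, twoLev0.A] 4 = true := by decide +kernel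

theorem two_conj13_5 : conjOK twoLev13 [twoLev12.A, twoLev11.A, twoLev10.A, twoLev9.A, twoLev8.A, twoLev7.A, twoLev6.A, twoLev5.A, twoLev4.A, twoLev3.A, twoLev2.A, twoLev1.A, twoLev0.A] 5 = true := by decide +kernel

theorem two_conj13_6 : conjOK twoLev13 [twoLev12.A, twoLev11.A, twoLev10.A, twoLev9.A, twoLev8.A, twoLev7.A, twoLev6.A, twoLev5.A, twoLev4.A, twoLev3.A, twoLev2.A, twoLev1.A, twoLev0.A] 6 = true := by decide +kernel

theorem two_conj13_7 : conjOK twoLev13 [twoLev12.A, twoLev11.A, twoLev10.A, twoLev9.A, twoLev8.A, twoLev7.A, twoLev6.A, twoLev5.A, twoLev4.A, twoLev3.A, twoLev2.A, twoLev1.A, twoLev0.A] 7 = true := by decide +kernel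

theorem two_conj13_8 : conjOK twoLev13 [twoLev12.A, twoLev11.A, twoLev10.A, twoLev9.A, twoLev8.A, twoLev7.A, twoLev6.A, twoLev5.A, twoLev4.A, twoLev3.A, twoLev2.A, twoLev1.A, twoLev0.A] 8 = true := by decide +kernel

theorem two_conj13_9 : conjOK twoLev13 [twoLev12.A, twoLev11.A, twoLev10.A, twoLev9.A, twoLev8.A, twoLev7.A, twoLev6.A, twoLev5.A, twoLev4.A, twoLev3.A, twoLev2.A, twoLev1.A, twoLev0.A] 9 = true := by decide +kernel

theorem two_conj13_10 : conjOK twoLev13 [twoLev12.A, twoLev11.A, twoLev10.A, twoLev9.A, twoLev8.A, twoLev7.A, twoLev6.A, twoLev5.A, twoLev4.A, twoLev3.A, twoLev2.A, twoLev1.A, twoLev0.A] 10 = true := by decide +kernel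

theorem two_conj13_11 : conjOK twoLev13 [twoLev12.A, twoLev11.A, twoLev10.A, twoLev9.A, twoLev8.A, twoLev7.A, twoLev6.A, twoLev5.A, twoLev4.A, twoLev3.A, twoLev2.A, twoLev1.A, twoLev0.A] 11 = true := by decide +kernel

theorem two_conj13_12 : conjOK twoLev13 [twoLev12.A, twoLev11.A, twoLev10.A, twoLev9.A, twoLev8.A, twoLev7.A, twoLev6.A, twoLev5.A, twoLev4.A, twoLev3.A, twoLev2.A, twoLev1.A, twoLev0.A] 12 = true := by decide +kernel

theorem two_sep13 : sepOK twoLev13 [twoLev12.A, twoLev11.A, twoLev10.A, twoLev9.A, twoLev8.A, twoLev7.A, twoLev6.A, twoLev5.A, twoLev4.A, twoLev3.A, twoLev2.A, twoLev1.A, twoLev0.A] = true := by decide +kernel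

theorem two_good13 : Good 2 [twoLev13, twoLev12, twoLev11, twoLev10, twoLev9, twoLev8, twoLev7, twoLev6, twoLev5, twoLev4, twoLev3, twoLev2, twoLev1, twoLev0] :=
  ⟨inImg_twoMat55, ⟨two_pow13, ⟨⟨⟨⟨⟨⟨⟨⟨⟨⟨⟨⟨⟨trivial, two_conj13_0⟩, two_conj13_1⟩, two_conj13_2⟩, two_conj13_3⟩, two_conj13_4⟩, two_conj13_5⟩, two_conj13_6⟩, two_conj13_7⟩, two_conj13_8⟩, two_conj13_9⟩, two_conj13_10⟩, two_conj13_11⟩, two_conj13_12⟩⟩, two_sep13, two_good12⟩

theorem two_pow14 : powOK 2 twoLev14 [twoLev13.A, twoLev12.A, twoLev11.A, twoLev10.A, twoLev9.A, twoLev8.A, twoLev7.A, twoLev6.A, twoLev5.A, twoLev4.A, twoLev3.A, twoLev2.A, twoLev1.A, twoLev0.A] = true := by decide +kernel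

theorem two_conj14_0 : conjOK twoLev14 [twoLev13.A, twoLev12.A, twoLev11.A, twoLev10.A, twoLev9.A, twoLev8.A, twoLev7.A, twoLev6.A, twoLev5.A, twoLev4.A, twoLev3.A, twoLev2.A, twoLev1.A, twoLev0.A] 0 = true := by decide +kernel

theorem two_conj14_1 : conjOK twoLev14 [twoLev13.A, twoLev12.A, twoLev11.A, twoLev10.A, twoLev9.A, twoLev8.A, twoLev7.A, twoLev6.A, twoLev5.A, twoLev4.A, twoLev3.A, twoLev2.A, twoLev1.A, twoLev0.A] 1 = true := by decide +kernel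

theorem two_conj14_2 : conjOK twoLev14 [twoLev13.A, twoLev12.A, twoLev11.A, twoLev10.A, twoLev9.A, twoLev8.A, twoLev7.A, twoLev6.A, twoLev5.A, twoLev4.A, twoLev3.A, twoLev2.A, twoLev1.A, twoLev0.A] 2 = true := by decide +kernel

theorem two_conj14_3 : conjOK twoLev14 [twoLev13.A, twoLev12.A, twoLev11.A, twoLev10.A, twoLev9.A, twoLev8.A, twoLev7.A, twoLev6.A, twoLev5.A, twoLev4.A, twoLev3.A, twoLev2.A, twoLev1.A, twoLev0.A] 3 = true := by decide +kernel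

theorem two_conj14_4 : conjOK twoLev14 [twoLev13.A, twoLev12.A, twoLev11.A, twoLev10.A, twoLev9.A, twoLev8.A, twoLev7.A, twoLev6.A, twoLev5.A, twoLev4.A, twoLev3.A, twoLev2.A, twoLev1.A, twoLev0.A] 4 = true := by decide +kernel

theorem two_conj14_5 : conjOK twoLev14 [twoLev13.A, twoLev12.A, twoLev11.A, twoLev10.A, twoLev9.A, twoLev8.A, twoLev7.A, twoLev6.A, twoLev5.A, twoLev4.A, twoLev3.A, twoLev2.A, twoLev1.A, twoLev0.A] 5 = true := by decide +kernel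

theorem two_conj14_6 : conjOK twoLev14 [twoLev13.A, twoLev12.A, twoLev11.A, twoLev10.A, twoLev9.A, twoLev8.A, twoLev7.A, twoLev6.A, twoLev5.A, twoLev4.A, twoLev3.A, twoLev2.A, twoLev1.A, twoLev0.A] 6 = true := by decide +kernel

theorem two_conj14_7 : conjOK twoLev14 [twoLev13.A, twoLev12.A, twoLev11.A, twoLev10.A, twoLev9.A, twoLev8.A, twoLev7.A, twoLev6.A, twoLev5.A, twoLev4.A, twoLev3.A, twoLev2.A, twoLev1.A, twoLev0.A] 7 = true := by decide +kernel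

theorem two_conj14_8 : conjOK twoLev14 [twoLev13.A, twoLev12.A, twoLev11.A, twoLev10.A, twoLev9.A, twoLev8.A, twoLev7.A, twoLev6.A, twoLev5.A, twoLev4.A, twoLev3.A, twoLev2.A, twoLev1.A, twoLev0.A] 8 = true := by decide +kernel

theorem two_conj14_9 : conjOK twoLev14 [twoLev13.A, twoLev12.A, twoLev11.A, twoLev10.A, twoLev9.A, twoLev8.A, twoLev7.A, twoLev6.A, twoLev5.A, twoLev4.A, twoLev3.A, twoLev2.A, twoLev1.A, twoLev0.A] 9 = true := by decide +kernel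

theorem two_conj14_10 : conjOK twoLev14 [twoLev13.A, twoLev12.A, twoLev11.A, twoLev10.A, twoLev9.A, twoLev8.A, twoLev7.A, twoLev6.A, twoLev5.A, twoLev4.A, twoLev3.A, twoLev2.A, twoLev1.A, twoLev0.A] 10 = true := by decide +kernel

theorem two_conj14_11 : conjOK twoLev14 [twoLev13.A, twoLev12.A, twoLev11.A, twoLev10.A, twoLev9.A, twoLev8.A, twoLev7.A, twoLev6.A, twoLev5.A, twoLev4.A, twoLev3.A, twoLev2.A, twoLev1.A, twoLev0.A] 11 = true := by decide +kernel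

theorem two_conj14_12 : conjOK twoLev14 [twoLev13.A, twoLev12.A, twoLev11.A, twoLev10.A, twoLev9.A, twoLev8.A, twoLev7.A, twoLev6.A, twoLev5.A, twoLev4.A, twoLev3.A, twoLev2.A, twoLev1.A, twoLev0.A] 12 = true := by decide +kernel

theorem two_conj14_13 : conjOK twoLev14 [twoLev13.A, twoLev12.A, twoLev11.A, twoLev10.A, twoLev9.A, twoLev8.A, twoLev7.A, twoLev6.A, twoLev5.A, twoLev4.A, twoLev3.A, twoLev2.A, twoLev1.A, twoLev0.A] 13 = true := by decide +kernel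

theorem two_sep14 : sepOK twoLev14 [twoLev13.A, twoLev12.A, twoLev11.A, twoLev10.A, twoLev9.A, twoLev8.A, twoLev7.A, twoLev6.A, twoLev5.A, twoLev4.A, twoLev3.A, twoLev2.A, twoLev1.A, twoLev0.A] = true := by decide +kernel

theorem two_good14 : Good 2 [twoLev14, twoLev13, twoLev12, twoLev11, twoLev10, twoLev9, twoLev8, twoLev7, twoLev6, twoLev5, twoLev4, twoLev3, twoLev2, twoLev1, twoLev0] :=
  ⟨inImg_twoMat62, ⟨two_pow14, ⟨⟨⟨⟨⟨⟨⟨⟨⟨⟨⟨⟨⟨⟨trivial, two_conj14_0⟩, two_conj14_1⟩, two_conj14_2⟩, two_conj14_3⟩, two_conj14_4⟩, two_conj14_5⟩, two_conj14_6⟩, two_conj14_7⟩, two_conj14_8⟩, two_conj14_9⟩, two_conj14_10⟩, two_conj14_11⟩, two_conj14_12⟩, two_conj14_13⟩⟩, two_sep14, two_good13⟩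

theorem two_subgroup : ∃ K : Subgroup M248ˣ, K ≤ hom.range ∧ Nat.card K = 2 ^ 15 :=
  two_good14.exists_subgroup (by norm_num)

end Cfsg.Agent.ThRep
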