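import Mathlib.Data.Nat.Notation

/-!
Matrices of size 248 over the field with three elements as single numbers, ten bits to the entry, row by row,
for evaluation in the kernel.  A product is 248 multiplications of a column by a row and one parallel reduction.
-/

set_option autoImplicit false

namespace Cfsg.Agent.ThRep

noncomputable section

/-- The pattern with `c` at the positions `0, stride, …` (`n` of them), in bits. -/
def pattern (c stride n : ℕ) : ℕ :=
  Nat.rec 0 (fun _ r => Nat.add c (Nat.shiftLeft r stride)) n

/-- The rows glued into one number. -/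
def glue : List ℕ → ℕ :=
  List.rec 0 (fun r _ acc => Nat.add r (Nat.shiftLeft acc 2480))

/-- All lanes filled with `c`. -/
def fill (c : ℕ) : ℕ := pattern (pattern c 10 248) 2480 248

/-- The lanes at the starts of the rows. -/
def colMask : ℕ := pattern 1023 2480 248

/-- One row. -/
def rowMask : ℕ := pattern 1023 10 248

/-- The identity. -/
def one : ℕ := pattern 1 2490 248

/-- The product before reduction, up to term `n`. -/
def accum (A B n : ℕ) : ℕ :=
  Nat.rec 0 (fun i r => Nat.add r (Nat.mul (Nat.land (Nat.shiftRight A (Nat.mul 10 i)) colMask)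
    (Nat.land (Nat.shiftRight B (Nat.mul 2480 i)) rowMask))) n

/-- One folding step in every lane: the low `k` bits plus the rest. -/
def foldK (lo hi k x : ℕ) : ℕ := Nat.add (Nat.land x lo) (Nat.land (Nat.shiftRight x k) hi)

/-- The value three is replaced by zero in every lane. -/
def clearThree (x : ℕ) : ℕ :=
  Nat.sub x (Nat.mul 3 (Nat.land (Nat.land x (Nat.shiftRight x 1)) (fill 1)))

/-- Reduction modulo three in every lane. -/
def reduce (x : ℕ) : ℕ :=
  clearThree (foldK (fill 3) (fill 255) 2 (foldK (fill 3) (fill 255) 2 (foldK (fill 3) (fill 255) 2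
    (foldK (fill 15) (fill 63) 4 (foldK (fill 15) (fill 63) 4 (foldK (fill 15) (fill 63) 4 x))))))

/-- The product. -/
def mulP (A B : ℕ) : ℕ := reduce (accum A B 248)

/-- A matrix in normal form. -/
def matOK (A : ℕ) : Bool :=
  Nat.beq (Nat.land A (fill 3)) A && Nat.beq (Nat.land (Nat.land A (Nat.shiftRight A 1)) (fill 1)) 0

end

end Cfsg.Agent.ThRep
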