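import Cfsg.Agent.Lib.ThRep.Kernel
import Mathlib.Algebra.BigOperators.Fin
import Mathlib.Algebra.Order.BigOperators.Group.Finset
import Mathlib.Data.Nat.Bitwise
import Mathlib.Tactic.Ring
import Mathlib.Tactic.Linarith

/-! Numbers as sequences of lanes of ten bits. -/

set_option autoImplicit false
set_option exponentiation.threshold 64

namespace Cfsg.Agent.ThRep

/-- Pack `f 0, …, f (n-1)` into lanes. -/
def pk (f : ℕ → ℕ) : ℕ → ℕ
  | 0 => 0
  | n + 1 => pk f n + f n * 2 ^ (10 * n)

/-- Lane `q`. -/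
def lane (x q : ℕ) : ℕ := x / 2 ^ (10 * q) % 1024

theorem pk_lt {f : ℕ → ℕ} : ∀ {n : ℕ}, (∀ i < n, f i < 1024) → pk f n < 2 ^ (10 * n) := by
  intro n
  induction n with
  | zero => intro _; simp [pk]
  | succ n ih =>
    intro h
    have h1 := ih fun i hi => h i (by omega)
    have h2 : f n * 2 ^ (10 * n) ≤ 1023 * 2 ^ (10 * n) :=
      Nat.mul_le_mul_right _ (Nat.le_of_lt_succ (h n (by omega)))
    have e : 2 ^ (10 * (n + 1)) = 1024 * 2 ^ (10 * n) := by
      rw [show 10 * (n + 1) = 10 * n + 10 by ring, pow_add]; ring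
    rw [pk, e]
    omega

theorem testBit_pk {f : ℕ → ℕ} : ∀ {n : ℕ}, (∀ i < n, f i < 1024) → ∀ b,
    (pk f n).testBit b = (decide (b / 10 < n) && (f (b / 10)).testBit (b % 10)) := by
  intro n
  induction n with
  | zero => intro _ b; simp [pk]
  | succ n ih =>
    intro h b
    have hlt := pk_lt fun i hi => h i (Nat.lt_succ_of_lt hi)
    rw [pk, Nat.add_comm, Nat.mul_comm, Nat.testBit_two_pow_mul_add _ hlt]
    by_cases hb : b < 10 * n
    · rw [if_pos hb, ih (fun i hi => h i (by omega)) b]
      simp [show b / 10 < n by omega, show b / 10 < n + 1 by omega]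
    · rw [if_neg hb]
      by_cases hb' : b / 10 < n + 1
      · have e : b / 10 = n := by omega
        rw [e, show b - 10 * n = b % 10 by omega]
        simp
      · have : (f n).testBit (b - 10 * n) = false := by
          refine Nat.testBit_lt_two_pow (lt_of_lt_of_le (h n (by omega)) ?_)
          calc 1024 = 2 ^ 10 := by norm_num
            _ ≤ _ := Nat.pow_le_pow_right (by norm_num) (by omega)
        rw [this]
        simp [hb']

theorem pk_congr {f g : ℕ → ℕ} : ∀ {n : ℕ}, (∀ i < n, f i = g i) → pk f n = pk g n := by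
  intro n
  induction n with
  | zero => intro _; rfl
  | succ n ih => intro h; rw [pk, pk, ih fun i hi => h i (by omega), h n (by omega)]

theorem lane_lt (x q : ℕ) : lane x q < 1024 := Nat.mod_lt _ (by norm_num)

theorem testBit_lane (x q j : ℕ) : (lane x q).testBit j = (decide (j < 10) && x.testBit (10 * q + j)) := by
  rw [lane, show (1024 : ℕ) = 2 ^ 10 by norm_num, Nat.testBit_mod_two_pow, Nat.testBit_div_two_pow,
    Nat.add_comm]

theorem eq_pk_lane {x n : ℕ} (h : x < 2 ^ (10 * n)) : x = pk (lane x) n := by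
  refine Nat.eq_of_testBit_eq fun b => ?_
  rw [testBit_pk fun i _ => lane_lt x i]
  by_cases hb : b / 10 < n
  · rw [testBit_lane, show 10 * (b / 10) + b % 10 = b from Nat.div_add_mod b 10]
    simp [hb, Nat.mod_lt b (show 10 > 0 by norm_num)]
  · rw [Nat.testBit_lt_two_pow (lt_of_lt_of_le h (Nat.pow_le_pow_right (by norm_num) (by omega)))]
    simp [hb]

theorem lane_pk {f : ℕ → ℕ} {n : ℕ} (h : ∀ i < n, f i < 1024) {q : ℕ} (hq : q < n) :
    lane (pk f n) q = f q := by
  refine Nat.eq_of_testBit_eq fun b => ?_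
  rw [testBit_lane, testBit_pk h]
  by_cases hb : b < 10
  · rw [show (10 * q + b) / 10 = q by omega, show (10 * q + b) % 10 = b by omega]
    simp [hb, hq]
  · rw [Nat.testBit_lt_two_pow (lt_of_lt_of_le (h q hq) (by
      calc 1024 = 2 ^ 10 := by norm_num
        _ ≤ _ := Nat.pow_le_pow_right (by norm_num) (by omega)))]
    simp [hb]

theorem lane_pk_of_le {f : ℕ → ℕ} {n : ℕ} (h : ∀ i < n, f i < 1024) {q : ℕ} (hq : n ≤ q) :
    lane (pk f n) q = 0 := by
  rw [lane, Nat.div_eq_of_lt (lt_of_lt_of_le (pk_lt h) (Nat.pow_le_pow_right (by norm_num) (by omega)))]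

theorem pk_extend {f : ℕ → ℕ} {n : ℕ} : ∀ d : ℕ, (∀ i, n ≤ i → f i = 0) → pk f (n + d) = pk f n := by
  intro d h
  induction d with
  | zero => rfl
  | succ d ih => rw [← Nat.add_assoc, pk, ih, h _ (Nat.le_add_right n d), Nat.zero_mul, Nat.add_zero]

theorem and_pk {f g : ℕ → ℕ} {n : ℕ} (hf : ∀ i < n, f i < 1024) (hg : ∀ i < n, g i < 1024) :
    Nat.land (pk f n) (pk g n) = pk (fun i => f i &&& g i) n := by
  refine Nat.eq_of_testBit_eq fun b => ?_
  show (pk f n &&& pk g n).testBit b = _
  rw [Nat.testBit_land, testBit_pk hf, testBit_pk hg,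
    testBit_pk fun i hi => lt_of_le_of_lt Nat.and_le_left (hf i hi), Nat.testBit_land]
  cases decide (b / 10 < n) <;> simp

/-- Masking a shifted number masks every shifted lane. -/
theorem shift_and_pk {f g : ℕ → ℕ} {n : ℕ} (k : ℕ) (hf : ∀ i < n, f i < 1024)
    (hg : ∀ i < n, g i < 2 ^ (10 - k)) :
    Nat.land (Nat.shiftRight (pk f n) k) (pk g n) = pk (fun i => (f i >>> k) &&& g i) n := by
  have hg' : ∀ i < n, g i < 1024 := fun i hi =>
    lt_of_lt_of_le (hg i hi) (by
      calc 2 ^ (10 - k) ≤ 2 ^ 10 := Nat.pow_le_pow_right (by norm_num) (by omega)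
        _ = 1024 := by norm_num)
  refine Nat.eq_of_testBit_eq fun b => ?_
  show ((pk f n >>> k) &&& pk g n).testBit b = _
  rw [Nat.testBit_land, Nat.testBit_shiftRight, testBit_pk hg',
    testBit_pk fun i hi => lt_of_le_of_lt Nat.and_le_right (hg' i hi), Nat.testBit_land,
    Nat.testBit_shiftRight, testBit_pk hf]
  by_cases hb : b / 10 < n
  · by_cases hk : b % 10 + k < 10
    · rw [show (k + b) / 10 = b / 10 by omega, show (k + b) % 10 = k + b % 10 by omega]
      simp [hb]
    · rw [Nat.testBit_lt_two_pow (lt_of_lt_of_le (hg _ hb) (Nat.pow_le_pow_right (by norm_num) (by omega)))]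
      simp
  · simp [hb]

theorem shiftRight_pk {f : ℕ → ℕ} {n : ℕ} (m : ℕ) (hf : ∀ i < n + m, f i < 1024) :
    Nat.shiftRight (pk f (n + m)) (10 * m) = pk (fun i => f (i + m)) n := by
  refine Nat.eq_of_testBit_eq fun b => ?_
  show (pk f (n + m) >>> (10 * m)).testBit b = _
  rw [Nat.testBit_shiftRight, testBit_pk hf, testBit_pk fun i hi => hf (i + m) (by omega),
    show (10 * m + b) / 10 = b / 10 + m by omega, show (10 * m + b) % 10 = b % 10 by omega]
  simp

theorem pk_add (f g : ℕ → ℕ) : ∀ n, pk f n + pk g n = pk (fun i => f i + g i) n := by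
  intro n
  induction n with
  | zero => rfl
  | succ n ih => rw [pk, pk, pk, ← ih, Nat.add_mul]; omega

theorem mul_pk (c : ℕ) (f : ℕ → ℕ) : ∀ n, c * pk f n = pk (fun i => c * f i) n := by
  intro n
  induction n with
  | zero => rfl
  | succ n ih => rw [pk, pk, Nat.mul_add, ih, Nat.mul_assoc]

theorem pk_zero : ∀ n, pk (fun _ => 0) n = 0 := by
  intro n
  induction n with
  | zero => rfl
  | succ n ih => rw [pk, ih, Nat.zero_mul]

theorem pk_append (f : ℕ → ℕ) (a : ℕ) : ∀ b, pk f (a + b) = pk f a + 2 ^ (10 * a) * pk (fun i => f (a + i)) b := by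
  intro b
  induction b with
  | zero => simp [pk]
  | succ b ih => rw [← Nat.add_assoc, pk, ih, pk, Nat.mul_add (10 : ℕ) a b, pow_add]; ring

theorem pk_cons (f : ℕ → ℕ) (n : ℕ) : pk f (n + 1) = f 0 + 1024 * pk (fun i => f (i + 1)) n := by
  rw [Nat.add_comm n 1, pk_append]
  simp [pk, Nat.add_comm 1]

theorem pk_prod (f : ℕ → ℕ) (w : ℕ) : ∀ m, pk f (m * w) =
    Nat.rec 0 (fun r s => s + 2 ^ (10 * (r * w)) * pk (fun i => f (r * w + i)) w) m := by
  intro m
  induction m with
  | zero => simp [pk]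
  | succ m ih => rw [Nat.succ_mul, pk_append, ih]

theorem pattern_eq (c stride : ℕ) : ∀ n,
    pattern c stride n = Nat.rec 0 (fun r s => s + 2 ^ (stride * r) * c) n := by
  intro n
  induction n with
  | zero => rfl
  | succ n ih =>
    show c + pattern c stride n <<< stride = _
    rw [ih, Nat.shiftLeft_eq]
    clear ih
    induction n with
    | zero => simp
    | succ n ih =>
      show c + ((Nat.rec 0 (fun r s => s + 2 ^ (stride * r) * c) n : ℕ) + 2 ^ (stride * n) * c) * 2 ^ stride = _
      rw [Nat.add_mul, ← Nat.add_assoc, ih]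
      show _ = (Nat.rec 0 (fun r s => s + 2 ^ (stride * r) * c) (n + 1) : ℕ) + 2 ^ (stride * (n + 1)) * c
      rw [show stride * (n + 1) = stride * n + stride from Nat.mul_succ _ _, pow_add]
      ring

theorem pattern_lanes (c : ℕ) (n : ℕ) : pattern c 10 n = pk (fun _ => c) n := by
  rw [pattern_eq]
  induction n with
  | zero => rfl
  | succ n ih => rw [pk, ← ih, Nat.mul_comm c]

theorem pattern_rows {c w m : ℕ} (g : ℕ → ℕ) (hg : ∀ r < m, ∀ i < w, g (r * w + i) = g i)
    (hc : pk g w = c) : pattern c (10 * w) m = pk g (m * w) := by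
  rw [pattern_eq, pk_prod]
  induction m with
  | zero => rfl
  | succ m ih =>
    show _ + _ = _ + _
    rw [ih fun r hr => hg r (by omega), pk_congr (fun i hi => hg m (by omega) i hi), hc,
      show 10 * w * m = 10 * (m * w) by ring]

theorem pk_unit {w c : ℕ} : ∀ {n : ℕ}, w < n →
    pk (fun i => if i = w then c else 0) n = c * 2 ^ (10 * w) := by
  intro n
  induction n with
  | zero => intro h; omega
  | succ n ih =>
    intro h
    rw [pk]
    by_cases e : n = w
    · subst e
      rw [pk_congr (g := fun _ => 0) fun i hi => if_neg (by omega), pk_zero, if_pos rfl, Nat.zero_add]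
    · rw [if_neg e, ih (by omega), Nat.zero_mul, Nat.add_zero]

end Cfsg.Agent.ThRep
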