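import Cfsg.Agent.Lib.ONan.PCGroup
import Mathlib.Data.Nat.Prime.Basic
import Mathlib.GroupTheory.OrderOfElement

/-! A polycyclic sequence in which no entry lies in the span of the later ones has full order. -/

set_option autoImplicit false

namespace Cfsg.Agent.ThRep

open Cfsg.Agent.ONan.PC

variable {G : Type*} [Group G]

/-- Every entry is outside the span of the later ones. -/
def Proper : List G → Prop
  | [] => True
  | e :: l => e ∉ span l ∧ Proper l

theorem card_eq_of_proper {p : ℕ} (hp : p.Prime) : ∀ {l : List G}, IsPC p l → Proper l →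
    Nat.card (span l) = p ^ l.length := by
  intro l
  induction l with
  | nil =>
    intro _ _
    have h : span ([] : List G) = ⊥ := by simp [span]
    rw [h]
    simp
  | cons e l ih =>
    rintro h ⟨he, hl⟩
    obtain ⟨hfin, hle⟩ := card_le_of_isPC hp.pos h
    obtain ⟨hpow, -, h3⟩ := h
    refine le_antisymm hle ?_
    have hcard := ih h3 hl
    have hmono : span l ≤ span (e :: l) := Subgroup.closure_mono fun z hz => List.mem_cons_of_mem _ hz
    have hem : e ∈ span (e :: l) := Subgroup.subset_closure List.mem_cons_self
    have key : ∀ i j : ℕ, i < j → j < p → ∀ a ∈ span l, ∀ b ∈ span l, e ^ i * a ≠ e ^ j * b := by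
      intro i j hij hj a ha b hb hab
      have hd : e ^ (j - i) ∈ span l := by
        have : e ^ (j - i) = a * b⁻¹ := by
          rw [show j = i + (j - i) by omega, pow_add, mul_assoc] at hab
          rw [mul_left_cancel hab, mul_inv_cancel_right]
        rw [this]; exact mul_mem ha (inv_mem hb)
      have hco : Nat.Coprime (j - i) p :=
        (hp.coprime_iff_not_dvd.2 fun hdvd => absurd (Nat.le_of_dvd (by omega) hdvd) (by omega)).symm
      refine he ?_
      have hb' := Nat.gcd_eq_gcd_ab (j - i) p
      rw [hco.gcd_eq_one] at hb'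
      have : e = (e ^ (j - i)) ^ (Nat.gcdA (j - i) p) * (e ^ p) ^ (Nat.gcdB (j - i) p) := by
        rw [← zpow_natCast, ← zpow_natCast, ← zpow_mul, ← zpow_mul, ← zpow_add, ← hb', Nat.cast_one, zpow_one]
      rw [this]
      exact mul_mem (zpow_mem hd _) (zpow_mem hpow _)
    let F : Fin p × span l → span (e :: l) := fun x =>
      ⟨e ^ (x.1 : ℕ) * x.2, mul_mem (pow_mem hem _) (hmono x.2.2)⟩
    have hF : Function.Injective F := by
      rintro ⟨i, a⟩ ⟨j, b⟩ hab
      have hab' : e ^ (i : ℕ) * (a : G) = e ^ (j : ℕ) * b := congrArg Subtype.val hab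
      rcases lt_trichotomy (i : ℕ) j with hij | hij | hij
      · exact absurd hab' (key _ _ hij j.2 _ a.2 _ b.2)
      · rw [hij] at hab'
        exact Prod.ext (Fin.ext hij) (Subtype.ext (mul_left_cancel hab'))
      · exact absurd hab'.symm (key _ _ hij i.2 _ b.2 _ a.2)
    have := Nat.card_le_card_of_injective F hF
    rw [Nat.card_prod, Nat.card_fin, hcard] at this
    rw [List.length_cons, pow_succ']
    exact this

end Cfsg.Agent.ThRep
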