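import Cfsg.Agent.Lib.ThRep.Sylow
import Cfsg.Agent.Lib.ThRep.MatFive3
import Cfsg.Agent.Lib.ThRep.MatFive30
import Cfsg.Agent.Lib.ThRep.MatFive44
import Cfsg.Agent.Lib.ThRep.MatFive47
import Cfsg.Agent.Lib.ThRep.MatFive60
import Cfsg.Agent.Lib.ThRep.MatFive76
import Cfsg.Agent.Lib.ThRep.MatFive88
import Cfsg.Agent.Lib.ThRep.MatFive93
import Cfsg.Agent.Lib.ThRep.MatFive96
import Cfsg.Agent.Lib.ThRep.MatFive108
import Cfsg.Agent.Lib.ThRep.MatFive117
import Cfsg.Agent.Lib.ThRep.MatFive127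
import Cfsg.Agent.Lib.ThRep.MatFive133
import Cfsg.Agent.Lib.ThRep.MatFive144
import Cfsg.Agent.Lib.ThRep.MatFive154
import Cfsg.Agent.Lib.ThRep.MatFive174
import Cfsg.Agent.Lib.ThRep.MatFive177
import Cfsg.Agent.Lib.ThRep.MatFive179
import Cfsg.Agent.Lib.ThRep.MatFive184

/-! The elements lie in the image. -/

set_option autoImplicit false
set_option maxRecDepth 100000
set_option Elab.async false

namespace Cfsg.Agent.ThRep

theorem eq_fiveMat3 : Nat.beq fiveMat3 (mulP (mulP (genN .d) (genN .u)) (mulP (genN .d) (mulP (genN .u) (genN .s)))) = true := by decide +kernel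

theorem inImg_fiveMat3 : InImg fiveMat3 :=
  Nat.eq_of_beq_eq_true eq_fiveMat3 ▸ (InImg.mul (InImg.mul (inImg_gen .d) (inImg_gen .u)) (InImg.mul (inImg_gen .d) (InImg.mul (inImg_gen .u) (inImg_gen .s))))

theorem eq_fiveMat30 : Nat.beq fiveMat30 (mulP (mulP (mulP (mulP (mulP (invN .d) (invN .s)) (invN .e)) (mulP (invN .d) (invN .c))) (mulP (mulP (genN .d) (genN .e)) (mulP (genN .s) (genN .d)))) (mulP (mulP (mulP (mulP (invN .s) (invN .u)) (invN .d)) (mulP (invN .c) (genN .d))) (mulP (mulP (genN .u) (genN .s)) (mulP (invN .u) (invN .d))))) = true := by decide +kernel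

theorem inImg_fiveMat30 : InImg fiveMat30 :=
  Nat.eq_of_beq_eq_true eq_fiveMat30 ▸ (InImg.mul (InImg.mul (InImg.mul (InImg.mul (InImg.mul (inImg_inv .d) (inImg_inv .s)) (inImg_inv .e)) (InImg.mul (inImg_inv .d) (inImg_inv .c))) (InImg.mul (InImg.mul (inImg_gen .d) (inImg_gen .e)) (InImg.mul (inImg_gen .s) (inImg_gen .d)))) (InImg.mul (InImg.mul (InImg.mul (InImg.mul (inImg_inv .s) (inImg_inv .u)) (inImg_inv .d)) (InImg.mul (inImg_inv .c) (inImg_gen .d))) (InImg.mul (InImg.mul (inImg_gen .u) (inImg_gen .s)) (InImg.mul (inImg_inv .u) (inImg_inv .d)))))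

theorem eq_fiveMat44 : Nat.beq fiveMat44 (mulP (mulP (mulP (mulP (mulP (invN .c) (genN .d)) (genN .u)) (mulP (invN .d) (invN .c))) (mulP (mulP (genN .d) (invN .c)) (mulP (genN .s) (invN .d)))) (mulP (mulP (mulP (mulP (invN .e) (invN .s)) (invN .u)) (mulP (invN .d) (invN .u))) (mulP (mulP (genN .s) (invN .e)) (mulP (genN .s) (invN .d))))) = true := by decide +kernel

theorem inImg_fiveMat44 : InImg fiveMat44 :=
  Nat.eq_of_beq_eq_true eq_fiveMat44 ▸ (InImg.mul (InImg.mul (InImg.mul (InImg.mul (InImg.mul (inImg_inv .c) (inImg_gen .d)) (inImg_gen .u)) (InImg.mul (inImg_inv .d) (inImg_inv .c))) (InImg.mul (InImg.mul (inImg_gen .d) (inImg_inv .c)) (InImg.mul (inImg_gen .s) (inImg_inv .d)))) (InImg.mul (InImg.mul (InImg.mul (InImg.mul (inImg_inv .e) (inImg_inv .s)) (inImg_inv .u)) (InImg.mul (inImg_inv .d) (inImg_inv .u))) (InImg.mul (InImg.mul (inImg_gen .s) (inImg_inv .e)) (InImg.mul (inImg_gen .s) (inImg_inv .d)))))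

theorem eq_fiveMat47 : Nat.beq fiveMat47 (mulP (mulP (mulP (mulP (mulP (mulP (invN .e) (invN .d)) (invN .c)) (mulP (invN .e) (invN .b))) (mulP (invN .a) (mulP (mulP (genN .b) (genN .e)) (mulP (genN .c) (mulP (genN .d) (genN .e)))))) (mulP fiveMat30 fiveMat44)) (mulP (mulP (mulP (mulP (mulP (invN .e) (invN .d)) (invN .c)) (mulP (invN .e) (invN .b))) (mulP (invN .a) (mulP (mulP (genN .b) (genN .e)) (mulP (genN .c) (mulP (genN .d) (genN .e)))))) (mulP fiveMat30 fiveMat44))) = true := by decide +kernel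

theorem inImg_fiveMat47 : InImg fiveMat47 :=
  Nat.eq_of_beq_eq_true eq_fiveMat47 ▸ (InImg.mul (InImg.mul (InImg.mul (InImg.mul (InImg.mul (InImg.mul (inImg_inv .e) (inImg_inv .d)) (inImg_inv .c)) (InImg.mul (inImg_inv .e) (inImg_inv .b))) (InImg.mul (inImg_inv .a) (InImg.mul (InImg.mul (inImg_gen .b) (inImg_gen .e)) (InImg.mul (inImg_gen .c) (InImg.mul (inImg_gen .d) (inImg_gen .e)))))) (InImg.mul inImg_fiveMat30 inImg_fiveMat44)) (InImg.mul (InImg.mul (InImg.mul (InImg.mul (InImg.mul (inImg_inv .e) (inImg_inv .d)) (inImg_inv .c)) (InImg.mul (inImg_inv .e) (inImg_inv .b))) (InImg.mul (inImg_inv .a) (InImg.mul (InImg.mul (inImg_gen .b) (inImg_gen .e)) (InImg.mul (inImg_gen .c) (InImg.mul (inImg_gen .d) (inImg_gen .e)))))) (InImg.mul inImg_fiveMat30 inImg_fiveMat44)))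

theorem eq_fiveMat60 : Nat.beq fiveMat60 (mulP (mulP (mulP (genN .d) (mulP (invN .s) (genN .u))) (mulP (genN .s) (mulP (genN .e) (invN .t)))) (mulP (mulP (genN .s) (mulP (genN .c) (invN .u))) (mulP (mulP (invN .d) (genN .c)) (mulP (genN .d) (genN .u))))) = true := by decide +kernel

theorem inImg_fiveMat60 : InImg fiveMat60 :=
  Nat.eq_of_beq_eq_true eq_fiveMat60 ▸ (InImg.mul (InImg.mul (InImg.mul (inImg_gen .d) (InImg.mul (inImg_inv .s) (inImg_gen .u))) (InImg.mul (inImg_gen .s) (InImg.mul (inImg_gen .e) (inImg_inv .t)))) (InImg.mul (InImg.mul (inImg_gen .s) (InImg.mul (inImg_gen .c) (inImg_inv .u))) (InImg.mul (InImg.mul (inImg_inv .d) (inImg_gen .c)) (InImg.mul (inImg_gen .d) (inImg_gen .u)))))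

theorem eq_fiveMat76 : Nat.beq fiveMat76 (mulP (mulP (mulP (mulP (genN .d) (invN .s)) (mulP (genN .e) (invN .s))) (mulP (mulP (genN .u) (genN .d)) (mulP (genN .u) (mulP (genN .s) (genN .e))))) (mulP (mulP (mulP (genN .d) (invN .s)) (mulP (genN .c) (invN .d))) (mulP (mulP (genN .c) (genN .d)) (mulP (invN .u) (mulP (invN .d) (genN .c)))))) = true := by decide +kernel

theorem inImg_fiveMat76 : InImg fiveMat76 :=
  Nat.eq_of_beq_eq_true eq_fiveMat76 ▸ (InImg.mul (InImg.mul (InImg.mul (InImg.mul (inImg_gen .d) (inImg_inv .s)) (InImg.mul (inImg_gen .e) (inImg_inv .s))) (InImg.mul (InImg.mul (inImg_gen .u) (inImg_gen .d)) (InImg.mul (inImg_gen .u) (InImg.mul (inImg_gen .s) (inImg_gen .e))))) (InImg.mul (InImg.mul (InImg.mul (inImg_gen .d) (inImg_inv .s)) (InImg.mul (inImg_gen .c) (inImg_inv .d))) (InImg.mul (InImg.mul (inImg_gen .c) (inImg_gen .d)) (InImg.mul (inImg_inv .u) (InImg.mul (inImg_inv .d) (inImg_gen .c))))))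

theorem eq_fiveMat88 : Nat.beq fiveMat88 (mulP (mulP (mulP (mulP (genN .d) (genN .u)) (mulP (invN .s) (invN .u))) (mulP (mulP (invN .d) (genN .c)) (mulP (genN .d) (mulP (genN .u) (genN .s))))) (mulP (mulP (mulP (invN .d) (invN .s)) (mulP (invN .e) (invN .d))) (mulP (mulP (genN .c) (genN .d)) (mulP (genN .e) (mulP (genN .s) (genN .d)))))) = true := by decide +kernel

theorem inImg_fiveMat88 : InImg fiveMat88 :=
  Nat.eq_of_beq_eq_true eq_fiveMat88 ▸ (InImg.mul (InImg.mul (InImg.mul (InImg.mul (inImg_gen .d) (inImg_gen .u)) (InImg.mul (inImg_inv .s) (inImg_inv .u))) (InImg.mul (InImg.mul (inImg_inv .d) (inImg_gen .c)) (InImg.mul (inImg_gen .d) (InImg.mul (inImg_gen .u) (inImg_gen .s))))) (InImg.mul (InImg.mul (InImg.mul (inImg_inv .d) (inImg_inv .s)) (InImg.mul (inImg_inv .e) (inImg_inv .d))) (InImg.mul (InImg.mul (inImg_gen .c) (inImg_gen .d)) (InImg.mul (inImg_gen .e) (InImg.mul (inImg_gen .s) (inImg_gen .d))))))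

theorem eq_fiveMat93 : Nat.beq fiveMat93 (mulP (mulP (mulP fiveMat76 fiveMat88) (mulP (mulP (mulP (mulP (mulP (invN .e) (invN .d)) (invN .c)) (mulP (invN .e) (invN .b))) (genN .a)) (mulP (mulP (genN .b) (genN .e)) (mulP (genN .c) (mulP (genN .d) (genN .e)))))) (mulP (mulP fiveMat76 fiveMat88) (mulP (mulP (mulP (mulP (mulP (invN .e) (invN .d)) (invN .c)) (mulP (invN .e) (invN .b))) (genN .a)) (mulP (mulP (genN .b) (genN .e)) (mulP (genN .c) (mulP (genN .d) (genN .e))))))) = true := by decide +kernel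

theorem inImg_fiveMat93 : InImg fiveMat93 :=
  Nat.eq_of_beq_eq_true eq_fiveMat93 ▸ (InImg.mul (InImg.mul (InImg.mul inImg_fiveMat76 inImg_fiveMat88) (InImg.mul (InImg.mul (InImg.mul (InImg.mul (InImg.mul (inImg_inv .e) (inImg_inv .d)) (inImg_inv .c)) (InImg.mul (inImg_inv .e) (inImg_inv .b))) (inImg_gen .a)) (InImg.mul (InImg.mul (inImg_gen .b) (inImg_gen .e)) (InImg.mul (inImg_gen .c) (InImg.mul (inImg_gen .d) (inImg_gen .e)))))) (InImg.mul (InImg.mul inImg_fiveMat76 inImg_fiveMat88) (InImg.mul (InImg.mul (InImg.mul (InImg.mul (InImg.mul (inImg_inv .e) (inImg_inv .d)) (inImg_inv .c)) (InImg.mul (inImg_inv .e) (inImg_inv .b))) (inImg_gen .a)) (InImg.mul (InImg.mul (inImg_gen .b) (inImg_gen .e)) (InImg.mul (inImg_gen .c) (InImg.mul (inImg_gen .d) (inImg_gen .e)))))))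

theorem eq_fiveMat96 : Nat.beq fiveMat96 (mulP (mulP (mulP (mulP fiveMat47 fiveMat47) (mulP (mulP (mulP (invN .e) (invN .d)) (invN .c)) (mulP (invN .e) (invN .b)))) fiveMat60) (mulP (mulP (mulP (genN .b) (genN .e)) (mulP (genN .c) (mulP (genN .d) (genN .e)))) (mulP fiveMat93 fiveMat93))) = true := by decide +kernel

theorem inImg_fiveMat96 : InImg fiveMat96 :=
  Nat.eq_of_beq_eq_true eq_fiveMat96 ▸ (InImg.mul (InImg.mul (InImg.mul (InImg.mul inImg_fiveMat47 inImg_fiveMat47) (InImg.mul (InImg.mul (InImg.mul (inImg_inv .e) (inImg_inv .d)) (inImg_inv .c)) (InImg.mul (inImg_inv .e) (inImg_inv .b)))) inImg_fiveMat60) (InImg.mul (InImg.mul (InImg.mul (inImg_gen .b) (inImg_gen .e)) (InImg.mul (inImg_gen .c) (InImg.mul (inImg_gen .d) (inImg_gen .e)))) (InImg.mul inImg_fiveMat93 inImg_fiveMat93)))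

theorem eq_fiveMat108 : Nat.beq fiveMat108 (mulP (mulP (mulP (mulP (genN .u) (genN .t)) (mulP (invN .e) (invN .b))) (mulP (mulP (invN .t) (genN .u)) (invN .b))) (mulP (invN .a) (mulP (mulP (genN .b) (mulP (invN .u) (genN .t))) (mulP (mulP (genN .b) (genN .e)) (mulP (invN .t) (invN .u)))))) = true := by decide +kernel

theorem inImg_fiveMat108 : InImg fiveMat108 :=
  Nat.eq_of_beq_eq_true eq_fiveMat108 ▸ (InImg.mul (InImg.mul (InImg.mul (InImg.mul (inImg_gen .u) (inImg_gen .t)) (InImg.mul (inImg_inv .e) (inImg_inv .b))) (InImg.mul (InImg.mul (inImg_inv .t) (inImg_gen .u)) (inImg_inv .b))) (InImg.mul (inImg_inv .a) (InImg.mul (InImg.mul (inImg_gen .b) (InImg.mul (inImg_inv .u) (inImg_gen .t))) (InImg.mul (InImg.mul (inImg_gen .b) (inImg_gen .e)) (InImg.mul (inImg_inv .t) (inImg_inv .u))))))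

theorem eq_fiveMat117 : Nat.beq fiveMat117 (mulP (mulP (mulP (mulP (invN .s) (invN .u)) (mulP (invN .d) (invN .c))) (mulP (mulP (genN .d) (genN .u)) (genN .s))) (mulP (mulP (mulP (invN .s) (invN .e)) (mulP (invN .d) (invN .c))) (mulP (mulP (genN .d) (genN .e)) (genN .s)))) = true := by decide +kernel

theorem inImg_fiveMat117 : InImg fiveMat117 :=
  Nat.eq_of_beq_eq_true eq_fiveMat117 ▸ (InImg.mul (InImg.mul (InImg.mul (InImg.mul (inImg_inv .s) (inImg_inv .u)) (InImg.mul (inImg_inv .d) (inImg_inv .c))) (InImg.mul (InImg.mul (inImg_gen .d) (inImg_gen .u)) (inImg_gen .s))) (InImg.mul (InImg.mul (InImg.mul (inImg_inv .s) (inImg_inv .e)) (InImg.mul (inImg_inv .d) (inImg_inv .c))) (InImg.mul (InImg.mul (inImg_gen .d) (inImg_gen .e)) (inImg_gen .s))))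

theorem eq_fiveMat127 : Nat.beq fiveMat127 (mulP (mulP (mulP (mulP (invN .d) (invN .c)) (mulP (genN .d) (invN .u))) (mulP (mulP (invN .e) (invN .s)) (invN .e))) (mulP (mulP (mulP (invN .s) (invN .d)) (invN .e)) (mulP (mulP (genN .s) (invN .u)) (invN .e)))) = true := by decide +kernel

theorem inImg_fiveMat127 : InImg fiveMat127 :=
  Nat.eq_of_beq_eq_true eq_fiveMat127 ▸ (InImg.mul (InImg.mul (InImg.mul (InImg.mul (inImg_inv .d) (inImg_inv .c)) (InImg.mul (inImg_gen .d) (inImg_inv .u))) (InImg.mul (InImg.mul (inImg_inv .e) (inImg_inv .s)) (inImg_inv .e))) (InImg.mul (InImg.mul (InImg.mul (inImg_inv .s) (inImg_inv .d)) (inImg_inv .e)) (InImg.mul (InImg.mul (inImg_gen .s) (inImg_inv .u)) (inImg_inv .e))))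

theorem eq_fiveMat133 : Nat.beq fiveMat133 (mulP (mulP (mulP (mulP (mulP fiveMat108 (mulP fiveMat117 fiveMat127)) (mulP fiveMat108 (mulP fiveMat117 fiveMat127))) (mulP (mulP fiveMat108 (mulP fiveMat117 fiveMat127)) (mulP fiveMat108 (mulP fiveMat117 fiveMat127)))) (mulP (mulP (mulP fiveMat108 (mulP fiveMat117 fiveMat127)) (mulP fiveMat108 (mulP fiveMat117 fiveMat127))) (mulP (mulP fiveMat108 (mulP fiveMat117 fiveMat127)) (mulP fiveMat108 (mulP fiveMat117 fiveMat127))))) (mulP (mulP fiveMat108 (mulP fiveMat117 fiveMat127)) (mulP fiveMat108 (mulP fiveMat117 fiveMat127)))) = true := by decide +kernel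

theorem inImg_fiveMat133 : InImg fiveMat133 :=
  Nat.eq_of_beq_eq_true eq_fiveMat133 ▸ (InImg.mul (InImg.mul (InImg.mul (InImg.mul (InImg.mul inImg_fiveMat108 (InImg.mul inImg_fiveMat117 inImg_fiveMat127)) (InImg.mul inImg_fiveMat108 (InImg.mul inImg_fiveMat117 inImg_fiveMat127))) (InImg.mul (InImg.mul inImg_fiveMat108 (InImg.mul inImg_fiveMat117 inImg_fiveMat127)) (InImg.mul inImg_fiveMat108 (InImg.mul inImg_fiveMat117 inImg_fiveMat127)))) (InImg.mul (InImg.mul (InImg.mul inImg_fiveMat108 (InImg.mul inImg_fiveMat117 inImg_fiveMat127)) (InImg.mul inImg_fiveMat108 (InImg.mul inImg_fiveMat117 inImg_fiveMat127))) (InImg.mul (InImg.mul inImg_fiveMat108 (InImg.mul inImg_fiveMat117 inImg_fiveMat127)) (InImg.mul inImg_fiveMat108 (InImg.mul inImg_fiveMat117 inImg_fiveMat127))))) (InImg.mul (InImg.mul inImg_fiveMat108 (InImg.mul inImg_fiveMat117 inImg_fiveMat127)) (InImg.mul inImg_fiveMat108 (InImg.mul inImg_fiveMat117 inImg_fiveMat127))))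

theorem eq_fiveMat144 : Nat.beq fiveMat144 (mulP (mulP (mulP (mulP (genN .d) (genN .u)) (mulP (genN .t) (invN .s))) (mulP (mulP (genN .u) (genN .d)) (mulP (genN .u) (genN .a)))) (mulP (mulP (mulP (invN .s) (invN .u)) (mulP (invN .d) (genN .c))) (mulP (mulP (genN .d) (genN .u)) (mulP (genN .s) (invN .d))))) = true := by decide +kernel

theorem inImg_fiveMat144 : InImg fiveMat144 :=
  Nat.eq_of_beq_eq_true eq_fiveMat144 ▸ (InImg.mul (InImg.mul (InImg.mul (InImg.mul (inImg_gen .d) (inImg_gen .u)) (InImg.mul (inImg_gen .t) (inImg_inv .s))) (InImg.mul (InImg.mul (inImg_gen .u) (inImg_gen .d)) (InImg.mul (inImg_gen .u) (inImg_gen .a)))) (InImg.mul (InImg.mul (InImg.mul (inImg_inv .s) (inImg_inv .u)) (InImg.mul (inImg_inv .d) (inImg_gen .c))) (InImg.mul (InImg.mul (inImg_gen .d) (inImg_gen .u)) (InImg.mul (inImg_gen .s) (inImg_inv .d)))))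

theorem eq_fiveMat154 : Nat.beq fiveMat154 (mulP (mulP (mulP (mulP (invN .s) (invN .e)) (mulP (invN .d) (genN .c))) (mulP (mulP (genN .d) (genN .e)) (mulP (genN .s) (genN .d)))) (mulP (mulP (mulP (invN .e) (invN .s)) (mulP (invN .e) (invN .d))) (mulP (mulP (genN .c) (genN .d)) (mulP (genN .e) (mulP (genN .s) (genN .e)))))) = true := by decide +kernel

theorem inImg_fiveMat154 : InImg fiveMat154 :=
  Nat.eq_of_beq_eq_true eq_fiveMat154 ▸ (InImg.mul (InImg.mul (InImg.mul (InImg.mul (inImg_inv .s) (inImg_inv .e)) (InImg.mul (inImg_inv .d) (inImg_gen .c))) (InImg.mul (InImg.mul (inImg_gen .d) (inImg_gen .e)) (InImg.mul (inImg_gen .s) (inImg_gen .d)))) (InImg.mul (InImg.mul (InImg.mul (inImg_inv .e) (inImg_inv .s)) (InImg.mul (inImg_inv .e) (inImg_inv .d))) (InImg.mul (InImg.mul (inImg_gen .c) (inImg_gen .d)) (InImg.mul (inImg_gen .e) (InImg.mul (inImg_gen .s) (inImg_gen .e))))))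

theorem eq_fiveMat174 : Nat.beq fiveMat174 (mulP (mulP (mulP (invN .s) (mulP (invN .e) (invN .d))) (mulP (mulP (genN .c) (genN .d)) (mulP (genN .e) (genN .s)))) (mulP (mulP (invN .s) (mulP (invN .u) (invN .d))) (mulP (mulP (genN .c) (genN .d)) (mulP (genN .u) (genN .s))))) = true := by decide +kernel

theorem inImg_fiveMat174 : InImg fiveMat174 :=
  Nat.eq_of_beq_eq_true eq_fiveMat174 ▸ (InImg.mul (InImg.mul (InImg.mul (inImg_inv .s) (InImg.mul (inImg_inv .e) (inImg_inv .d))) (InImg.mul (InImg.mul (inImg_gen .c) (inImg_gen .d)) (InImg.mul (inImg_gen .e) (inImg_gen .s)))) (InImg.mul (InImg.mul (inImg_inv .s) (InImg.mul (inImg_inv .u) (inImg_inv .d))) (InImg.mul (InImg.mul (inImg_gen .c) (inImg_gen .d)) (InImg.mul (inImg_gen .u) (inImg_gen .s)))))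

theorem eq_fiveMat177 : Nat.beq fiveMat177 (mulP (mulP (mulP (mulP (mulP (genN .u) (genN .t)) (mulP (invN .e) (invN .b))) (mulP (mulP (invN .t) (genN .u)) (invN .b))) (genN .a)) (mulP (mulP (genN .b) (mulP (invN .u) (genN .t))) (mulP (mulP (genN .b) (genN .e)) (mulP (invN .t) (invN .u))))) = true := by decide +kernel

theorem inImg_fiveMat177 : InImg fiveMat177 :=
  Nat.eq_of_beq_eq_true eq_fiveMat177 ▸ (InImg.mul (InImg.mul (InImg.mul (InImg.mul (InImg.mul (inImg_gen .u) (inImg_gen .t)) (InImg.mul (inImg_inv .e) (inImg_inv .b))) (InImg.mul (InImg.mul (inImg_inv .t) (inImg_gen .u)) (inImg_inv .b))) (inImg_gen .a)) (InImg.mul (InImg.mul (inImg_gen .b) (InImg.mul (inImg_inv .u) (inImg_gen .t))) (InImg.mul (InImg.mul (inImg_gen .b) (inImg_gen .e)) (InImg.mul (inImg_inv .t) (inImg_inv .u)))))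

theorem eq_fiveMat179 : Nat.beq fiveMat179 (mulP (mulP (mulP (mulP (mulP (mulP (genN .e) (mulP (genN .u) (invN .s))) (mulP (genN .e) (mulP (genN .d) (genN .s)))) (mulP (mulP (genN .e) (mulP (genN .s) (genN .e))) (mulP (mulP (genN .u) (invN .d)) (mulP (genN .c) (genN .d))))) fiveMat174) fiveMat177) (mulP (mulP (mulP (mulP (mulP (genN .e) (mulP (genN .u) (invN .s))) (mulP (genN .e) (mulP (genN .d) (genN .s)))) (mulP (mulP (genN .e) (mulP (genN .s) (genN .e))) (mulP (mulP (genN .u) (invN .d)) (mulP (genN .c) (genN .d))))) fiveMat174) fiveMat177)) = true := by decide +kernel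

theorem inImg_fiveMat179 : InImg fiveMat179 :=
  Nat.eq_of_beq_eq_true eq_fiveMat179 ▸ (InImg.mul (InImg.mul (InImg.mul (InImg.mul (InImg.mul (InImg.mul (inImg_gen .e) (InImg.mul (inImg_gen .u) (inImg_inv .s))) (InImg.mul (inImg_gen .e) (InImg.mul (inImg_gen .d) (inImg_gen .s)))) (InImg.mul (InImg.mul (inImg_gen .e) (InImg.mul (inImg_gen .s) (inImg_gen .e))) (InImg.mul (InImg.mul (inImg_gen .u) (inImg_inv .d)) (InImg.mul (inImg_gen .c) (inImg_gen .d))))) inImg_fiveMat174) inImg_fiveMat177) (InImg.mul (InImg.mul (InImg.mul (InImg.mul (InImg.mul (inImg_gen .e) (InImg.mul (inImg_gen .u) (inImg_inv .s))) (InImg.mul (inImg_gen .e) (InImg.mul (inImg_gen .d) (inImg_gen .s)))) (InImg.mul (InImg.mul (inImg_gen .e) (InImg.mul (inImg_gen .s) (inImg_gen .e))) (InImg.mul (InImg.mul (inImg_gen .u) (inImg_inv .d)) (InImg.mul (inImg_gen .c) (inImg_gen .d))))) inImg_fiveMat174) inImg_fiveMat177))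

theorem eq_fiveMat184 : Nat.beq fiveMat184 (mulP (mulP (mulP fiveMat133 (mulP (mulP (mulP (genN .u) (genN .t)) (mulP (invN .e) (invN .b))) (mulP (mulP (invN .t) (genN .u)) (invN .b)))) (mulP fiveMat144 fiveMat154)) (mulP (mulP (mulP (genN .b) (mulP (invN .u) (genN .t))) (mulP (mulP (genN .b) (genN .e)) (mulP (invN .t) (invN .u)))) (mulP fiveMat179 (mulP (mulP fiveMat179 fiveMat179) (mulP fiveMat179 fiveMat179))))) = true := by decide +kernel

theorem inImg_fiveMat184 : InImg fiveMat184 :=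
  Nat.eq_of_beq_eq_true eq_fiveMat184 ▸ (InImg.mul (InImg.mul (InImg.mul inImg_fiveMat133 (InImg.mul (InImg.mul (InImg.mul (inImg_gen .u) (inImg_gen .t)) (InImg.mul (inImg_inv .e) (inImg_inv .b))) (InImg.mul (InImg.mul (inImg_inv .t) (inImg_gen .u)) (inImg_inv .b)))) (InImg.mul inImg_fiveMat144 inImg_fiveMat154)) (InImg.mul (InImg.mul (InImg.mul (inImg_gen .b) (InImg.mul (inImg_inv .u) (inImg_gen .t))) (InImg.mul (InImg.mul (inImg_gen .b) (inImg_gen .e)) (InImg.mul (inImg_inv .t) (inImg_inv .u)))) (InImg.mul inImg_fiveMat179 (InImg.mul (InImg.mul inImg_fiveMat179 inImg_fiveMat179) (InImg.mul inImg_fiveMat179 inImg_fiveMat179)))))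

end Cfsg.Agent.ThRep
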