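import Cfsg.Agent.Lib.ThRep.Sylow
import Cfsg.Agent.Lib.ThRep.MatSeven4

/-! The elements lie in the image. -/

set_option autoImplicit false
set_option maxRecDepth 100000
set_option Elab.async false

namespace Cfsg.Agent.ThRep

theorem eq_sevenMat4 : Nat.beq sevenMat4 (mulP (mulP (mulP (invN .s) (genN .c)) (mulP (invN .d) (mulP (genN .c) (genN .d)))) (genN .b)) = true := by decide +kernel

theorem inImg_sevenMat4 : InImg sevenMat4 :=
  Nat.eq_of_beq_eq_true eq_sevenMat4 ▸ (InImg.mul (InImg.mul (InImg.mul (inImg_inv .s) (inImg_gen .c)) (InImg.mul (inImg_inv .d) (InImg.mul (inImg_gen .c) (inImg_gen .d)))) (inImg_gen .b))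

end Cfsg.Agent.ThRep
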