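import Cfsg.Agent.Lib.ThRep.Sylow
import Cfsg.Agent.Lib.ThRep.MatThirteen10
import Cfsg.Agent.Lib.ThRep.MatThirteen21
import Cfsg.Agent.Lib.ThRep.MatThirteen22

/-! The elements lie in the image. -/

set_option autoImplicit false
set_option maxRecDepth 100000
set_option Elab.async false

namespace Cfsg.Agent.ThRep

theorem eq_thirteenMat10 : Nat.beq thirteenMat10 (mulP (mulP (mulP (genN .d) (mulP (invN .t) (genN .s))) (mulP (genN .b) (mulP (genN .a) (invN .u)))) (mulP (mulP (invN .t) (mulP (invN .s) (genN .d))) (mulP (invN .t) (mulP (genN .s) (genN .b))))) = true := by decide +kernel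

theorem inImg_thirteenMat10 : InImg thirteenMat10 :=
  Nat.eq_of_beq_eq_true eq_thirteenMat10 ▸ (InImg.mul (InImg.mul (InImg.mul (inImg_gen .d) (InImg.mul (inImg_inv .t) (inImg_gen .s))) (InImg.mul (inImg_gen .b) (InImg.mul (inImg_gen .a) (inImg_inv .u)))) (InImg.mul (InImg.mul (inImg_inv .t) (InImg.mul (inImg_inv .s) (inImg_gen .d))) (InImg.mul (inImg_inv .t) (InImg.mul (inImg_gen .s) (inImg_gen .b)))))

theorem eq_thirteenMat21 : Nat.beq thirteenMat21 (mulP (mulP (mulP (genN .a) (mulP (invN .u) (invN .t))) (mulP (invN .s) (mulP (genN .d) (invN .t)))) (mulP (mulP (genN .s) (mulP (genN .b) (genN .a))) (mulP (invN .u) (mulP (invN .t) (invN .s))))) = true := by decide +kernel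

theorem inImg_thirteenMat21 : InImg thirteenMat21 :=
  Nat.eq_of_beq_eq_true eq_thirteenMat21 ▸ (InImg.mul (InImg.mul (InImg.mul (inImg_gen .a) (InImg.mul (inImg_inv .u) (inImg_inv .t))) (InImg.mul (inImg_inv .s) (InImg.mul (inImg_gen .d) (inImg_inv .t)))) (InImg.mul (InImg.mul (inImg_gen .s) (InImg.mul (inImg_gen .b) (inImg_gen .a))) (InImg.mul (inImg_inv .u) (InImg.mul (inImg_inv .t) (inImg_inv .s)))))

theorem eq_thirteenMat22 : Nat.beq thirteenMat22 (mulP thirteenMat10 thirteenMat21) = true := by decide +kernel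

theorem inImg_thirteenMat22 : InImg thirteenMat22 :=
  Nat.eq_of_beq_eq_true eq_thirteenMat22 ▸ (InImg.mul inImg_thirteenMat10 inImg_thirteenMat21)

end Cfsg.Agent.ThRep
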