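import Cfsg.Agent.Lib.ThRep.Sylow
import Cfsg.Agent.Lib.ThRep.MatThree7
import Cfsg.Agent.Lib.ThRep.MatThree57
import Cfsg.Agent.Lib.ThRep.MatThree107
import Cfsg.Agent.Lib.ThRep.MatThree144
import Cfsg.Agent.Lib.ThRep.MatThree168
import Cfsg.Agent.Lib.ThRep.MatThree207
import Cfsg.Agent.Lib.ThRep.MatThree210
import Cfsg.Agent.Lib.ThRep.MatThree252
import Cfsg.Agent.Lib.ThRep.MatThree279
import Cfsg.Agent.Lib.ThRep.MatThree298
import Cfsg.Agent.Lib.ThRep.MatThree318
import Cfsg.Agent.Lib.ThRep.MatThree363
import Cfsg.Agent.Lib.ThRep.MatThree373
import Cfsg.Agent.Lib.ThRep.MatThree426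
import Cfsg.Agent.Lib.ThRep.MatThree465
import Cfsg.Agent.Lib.ThRep.MatThree491
import Cfsg.Agent.Lib.ThRep.MatThree510
import Cfsg.Agent.Lib.ThRep.MatThree523
import Cfsg.Agent.Lib.ThRep.MatThree534
import Cfsg.Agent.Lib.ThRep.MatThree536
import Cfsg.Agent.Lib.ThRep.MatThree577
import Cfsg.Agent.Lib.ThRep.MatThree606
import Cfsg.Agent.Lib.ThRep.MatThree655
import Cfsg.Agent.Lib.ThRep.MatThree670
import Cfsg.Agent.Lib.ThRep.MatThree678
import Cfsg.Agent.Lib.ThRep.MatThree685
import Cfsg.Agent.Lib.ThRep.MatThree702
import Cfsg.Agent.Lib.ThRep.MatThree722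
import Cfsg.Agent.Lib.ThRep.MatThree745
import Cfsg.Agent.Lib.ThRep.MatThree767
import Cfsg.Agent.Lib.ThRep.MatThree784
import Cfsg.Agent.Lib.ThRep.MatThree792
import Cfsg.Agent.Lib.ThRep.MatThree807
import Cfsg.Agent.Lib.ThRep.MatThree825
import Cfsg.Agent.Lib.ThRep.MatThree839
import Cfsg.Agent.Lib.ThRep.MatThree841
import Cfsg.Agent.Lib.ThRep.MatThree860
import Cfsg.Agent.Lib.ThRep.MatThree874
import Cfsg.Agent.Lib.ThRep.MatThree876
import Cfsg.Agent.Lib.ThRep.MatThree878
import Cfsg.Agent.Lib.ThRep.MatThree897
import Cfsg.Agent.Lib.ThRep.MatThree920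
import Cfsg.Agent.Lib.ThRep.MatThree924
import Cfsg.Agent.Lib.ThRep.MatThree936
import Cfsg.Agent.Lib.ThRep.MatThree939
import Cfsg.Agent.Lib.ThRep.MatThree941
import Cfsg.Agent.Lib.ThRep.MatThree954
import Cfsg.Agent.Lib.ThRep.MatThree985
import Cfsg.Agent.Lib.ThRep.MatThree995
import Cfsg.Agent.Lib.ThRep.MatThree1023
import Cfsg.Agent.Lib.ThRep.MatThree1043
import Cfsg.Agent.Lib.ThRep.MatThree1061
import Cfsg.Agent.Lib.ThRep.MatThree1081
import Cfsg.Agent.Lib.ThRep.MatThree1100
import Cfsg.Agent.Lib.ThRep.MatThree1114
import Cfsg.Agent.Lib.ThRep.MatThree1116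
import Cfsg.Agent.Lib.ThRep.MatThree1117
import Cfsg.Agent.Lib.ThRep.MatThree1130
import Cfsg.Agent.Lib.ThRep.MatThree1132
import Cfsg.Agent.Lib.ThRep.MatThree1161
import Cfsg.Agent.Lib.ThRep.MatThree1162
import Cfsg.Agent.Lib.ThRep.MatThree1176
import Cfsg.Agent.Lib.ThRep.MatThree1178
import Cfsg.Agent.Lib.ThRep.MatThree1187
import Cfsg.Agent.Lib.ThRep.MatThree1189
import Cfsg.Agent.Lib.ThRep.MatThree1203
import Cfsg.Agent.Lib.ThRep.MatThree1205
import Cfsg.Agent.Lib.ThRep.MatThree1206

/-! The elements lie in the image. -/

set_option autoImplicit false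
set_option maxRecDepth 100000
set_option Elab.async false

namespace Cfsg.Agent.ThRep

noncomputable section

/-- step 0 -/
def threeStep0 : ℕ := mulP (genN .d) (genN .e)

theorem inImg_threeStep0 : InImg threeStep0 := (InImg.mul (inImg_gen .d) (inImg_gen .e))

/-- step 1 -/
def threeStep1 : ℕ := mulP (genN .d) (invN .s)

theorem inImg_threeStep1 : InImg threeStep1 := (InImg.mul (inImg_gen .d) (inImg_inv .s))

/-- step 2 -/
def threeStep2 : ℕ := mulP threeStep0 threeStep1

theorem inImg_threeStep2 : InImg threeStep2 := (InImg.mul inImg_threeStep0 inImg_threeStep1)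

/-- step 3 -/
def threeStep3 : ℕ := mulP (genN .e) (genN .d)

theorem inImg_threeStep3 : InImg threeStep3 := (InImg.mul (inImg_gen .e) (inImg_gen .d))

/-- step 4 -/
def threeStep4 : ℕ := mulP (genN .e) (genN .s)

theorem inImg_threeStep4 : InImg threeStep4 := (InImg.mul (inImg_gen .e) (inImg_gen .s))

/-- step 5 -/
def threeStep5 : ℕ := mulP (genN .s) threeStep4

theorem inImg_threeStep5 : InImg threeStep5 := (InImg.mul (inImg_gen .s) inImg_threeStep4)

/-- step 6 -/
def threeStep6 : ℕ := mulP threeStep3 threeStep5

theorem inImg_threeStep6 : InImg threeStep6 := (InImg.mul inImg_threeStep3 inImg_threeStep5)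

theorem eq_threeMat7 : Nat.beq threeMat7 (mulP threeStep2 threeStep6) = true := by decide +kernel

theorem inImg_threeMat7 : InImg threeMat7 :=
  Nat.eq_of_beq_eq_true eq_threeMat7 ▸ (InImg.mul inImg_threeStep2 inImg_threeStep6)

/-- step 8 -/
def threeStep8 : ℕ := mulP (invN .u) (invN .d)

theorem inImg_threeStep8 : InImg threeStep8 := (InImg.mul (inImg_inv .u) (inImg_inv .d))

/-- step 9 -/
def threeStep9 : ℕ := mulP (genN .u) (invN .b)

theorem inImg_threeStep9 : InImg threeStep9 := (InImg.mul (inImg_gen .u) (inImg_inv .b))

/-- step 10 -/
def threeStep10 : ℕ := mulP threeStep8 threeStep9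

theorem inImg_threeStep10 : InImg threeStep10 := (InImg.mul inImg_threeStep8 inImg_threeStep9)

/-- step 11 -/
def threeStep11 : ℕ := mulP (genN .b) (invN .u)

theorem inImg_threeStep11 : InImg threeStep11 := (InImg.mul (inImg_gen .b) (inImg_inv .u))

/-- step 12 -/
def threeStep12 : ℕ := mulP (genN .d) (genN .u)

theorem inImg_threeStep12 : InImg threeStep12 := (InImg.mul (inImg_gen .d) (inImg_gen .u))

/-- step 13 -/
def threeStep13 : ℕ := mulP threeStep11 threeStep12

theorem inImg_threeStep13 : InImg threeStep13 := (InImg.mul inImg_threeStep11 inImg_threeStep12)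

/-- step 14 -/
def threeStep14 : ℕ := mulP (invN .a) threeStep13

theorem inImg_threeStep14 : InImg threeStep14 := (InImg.mul (inImg_inv .a) inImg_threeStep13)

/-- step 15 -/
def threeStep15 : ℕ := mulP threeStep10 threeStep14

theorem inImg_threeStep15 : InImg threeStep15 := (InImg.mul inImg_threeStep10 inImg_threeStep14)

/-- step 16 -/
def threeStep16 : ℕ := mulP (invN .s) (invN .e)

theorem inImg_threeStep16 : InImg threeStep16 := (InImg.mul (inImg_inv .s) (inImg_inv .e))

/-- step 17 -/
def threeStep17 : ℕ := mulP (invN .s) (invN .d)

theorem inImg_threeStep17 : InImg threeStep17 := (InImg.mul (inImg_inv .s) (inImg_inv .d))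

/-- step 18 -/
def threeStep18 : ℕ := mulP threeStep16 threeStep17

theorem inImg_threeStep18 : InImg threeStep18 := (InImg.mul inImg_threeStep16 inImg_threeStep17)

/-- step 19 -/
def threeStep19 : ℕ := mulP (invN .e) (invN .s)

theorem inImg_threeStep19 : InImg threeStep19 := (InImg.mul (inImg_inv .e) (inImg_inv .s))

/-- step 20 -/
def threeStep20 : ℕ := mulP (invN .e) (invN .d)

theorem inImg_threeStep20 : InImg threeStep20 := (InImg.mul (inImg_inv .e) (inImg_inv .d))

/-- step 21 -/
def threeStep21 : ℕ := mulP threeStep19 threeStep20

theorem inImg_threeStep21 : InImg threeStep21 := (InImg.mul inImg_threeStep19 inImg_threeStep20)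

/-- step 22 -/
def threeStep22 : ℕ := mulP threeStep18 threeStep21

theorem inImg_threeStep22 : InImg threeStep22 := (InImg.mul inImg_threeStep18 inImg_threeStep21)

/-- step 23 -/
def threeStep23 : ℕ := mulP threeStep15 threeStep22

theorem inImg_threeStep23 : InImg threeStep23 := (InImg.mul inImg_threeStep15 inImg_threeStep22)

/-- step 24 -/
def threeStep24 : ℕ := mulP threeStep23 threeStep23

theorem inImg_threeStep24 : InImg threeStep24 := (InImg.mul inImg_threeStep23 inImg_threeStep23)

/-- step 25 -/
def threeStep25 : ℕ := mulP threeStep24 threeStep24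

theorem inImg_threeStep25 : InImg threeStep25 := (InImg.mul inImg_threeStep24 inImg_threeStep24)

/-- step 26 -/
def threeStep26 : ℕ := mulP threeStep25 threeStep25

theorem inImg_threeStep26 : InImg threeStep26 := (InImg.mul inImg_threeStep25 inImg_threeStep25)

/-- step 27 -/
def threeStep27 : ℕ := mulP threeStep26 threeStep24

theorem inImg_threeStep27 : InImg threeStep27 := (InImg.mul inImg_threeStep26 inImg_threeStep24)

/-- step 28 -/
def threeStep28 : ℕ := mulP threeStep27 threeStep10

theorem inImg_threeStep28 : InImg threeStep28 := (InImg.mul inImg_threeStep27 inImg_threeStep10)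

/-- step 29 -/
def threeStep29 : ℕ := mulP (genN .u) (genN .d)

theorem inImg_threeStep29 : InImg threeStep29 := (InImg.mul (inImg_gen .u) (inImg_gen .d))

/-- step 30 -/
def threeStep30 : ℕ := mulP threeStep29 threeStep4

theorem inImg_threeStep30 : InImg threeStep30 := (InImg.mul inImg_threeStep29 inImg_threeStep4)

/-- step 31 -/
def threeStep31 : ℕ := mulP (genN .s) (genN .e)

theorem inImg_threeStep31 : InImg threeStep31 := (InImg.mul (inImg_gen .s) (inImg_gen .e))

/-- step 32 -/
def threeStep32 : ℕ := mulP threeStep29 threeStep31

theorem inImg_threeStep32 : InImg threeStep32 := (InImg.mul inImg_threeStep29 inImg_threeStep31)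

/-- step 33 -/
def threeStep33 : ℕ := mulP threeStep30 threeStep32

theorem inImg_threeStep33 : InImg threeStep33 := (InImg.mul inImg_threeStep30 inImg_threeStep32)

/-- step 34 -/
def threeStep34 : ℕ := mulP (invN .s) (genN .t)

theorem inImg_threeStep34 : InImg threeStep34 := (InImg.mul (inImg_inv .s) (inImg_gen .t))

/-- step 35 -/
def threeStep35 : ℕ := mulP (genN .u) (genN .a)

theorem inImg_threeStep35 : InImg threeStep35 := (InImg.mul (inImg_gen .u) (inImg_gen .a))

/-- step 36 -/
def threeStep36 : ℕ := mulP threeStep34 threeStep35

theorem inImg_threeStep36 : InImg threeStep36 := (InImg.mul inImg_threeStep34 inImg_threeStep35)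

/-- step 37 -/
def threeStep37 : ℕ := mulP (invN .d) (genN .c)

theorem inImg_threeStep37 : InImg threeStep37 := (InImg.mul (inImg_inv .d) (inImg_gen .c))

/-- step 38 -/
def threeStep38 : ℕ := mulP (invN .u) (invN .d)

theorem inImg_threeStep38 : InImg threeStep38 := (InImg.mul (inImg_inv .u) (inImg_inv .d))

/-- step 39 -/
def threeStep39 : ℕ := mulP (genN .d) threeStep38

theorem inImg_threeStep39 : InImg threeStep39 := (InImg.mul (inImg_gen .d) inImg_threeStep38)

/-- step 40 -/
def threeStep40 : ℕ := mulP threeStep37 threeStep39

theorem inImg_threeStep40 : InImg threeStep40 := (InImg.mul inImg_threeStep37 inImg_threeStep39)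

/-- step 41 -/
def threeStep41 : ℕ := mulP threeStep36 threeStep40

theorem inImg_threeStep41 : InImg threeStep41 := (InImg.mul inImg_threeStep36 inImg_threeStep40)

/-- step 42 -/
def threeStep42 : ℕ := mulP threeStep33 threeStep41

theorem inImg_threeStep42 : InImg threeStep42 := (InImg.mul inImg_threeStep33 inImg_threeStep41)

/-- step 43 -/
def threeStep43 : ℕ := mulP (genN .c) (genN .d)

theorem inImg_threeStep43 : InImg threeStep43 := (InImg.mul (inImg_gen .c) (inImg_gen .d))

/-- step 44 -/
def threeStep44 : ℕ := mulP (genN .u) (invN .s)

theorem inImg_threeStep44 : InImg threeStep44 := (InImg.mul (inImg_gen .u) (inImg_inv .s))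

/-- step 45 -/
def threeStep45 : ℕ := mulP threeStep43 threeStep44

theorem inImg_threeStep45 : InImg threeStep45 := (InImg.mul inImg_threeStep43 inImg_threeStep44)

/-- step 46 -/
def threeStep46 : ℕ := mulP (invN .e) (invN .d)

theorem inImg_threeStep46 : InImg threeStep46 := (InImg.mul (inImg_inv .e) (inImg_inv .d))

/-- step 47 -/
def threeStep47 : ℕ := mulP threeStep46 threeStep43

theorem inImg_threeStep47 : InImg threeStep47 := (InImg.mul inImg_threeStep46 inImg_threeStep43)

/-- step 48 -/
def threeStep48 : ℕ := mulP threeStep45 threeStep47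

theorem inImg_threeStep48 : InImg threeStep48 := (InImg.mul inImg_threeStep45 inImg_threeStep47)

/-- step 49 -/
def threeStep49 : ℕ := mulP (invN .s) (invN .u)

theorem inImg_threeStep49 : InImg threeStep49 := (InImg.mul (inImg_inv .s) (inImg_inv .u))

/-- step 50 -/
def threeStep50 : ℕ := mulP threeStep4 threeStep49

theorem inImg_threeStep50 : InImg threeStep50 := (InImg.mul inImg_threeStep4 inImg_threeStep49)

/-- step 51 -/
def threeStep51 : ℕ := mulP (genN .u) (genN .s)

theorem inImg_threeStep51 : InImg threeStep51 := (InImg.mul (inImg_gen .u) (inImg_gen .s))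

/-- step 52 -/
def threeStep52 : ℕ := mulP (genN .d) threeStep51

theorem inImg_threeStep52 : InImg threeStep52 := (InImg.mul (inImg_gen .d) inImg_threeStep51)

/-- step 53 -/
def threeStep53 : ℕ := mulP threeStep37 threeStep52

theorem inImg_threeStep53 : InImg threeStep53 := (InImg.mul inImg_threeStep37 inImg_threeStep52)

/-- step 54 -/
def threeStep54 : ℕ := mulP threeStep50 threeStep53

theorem inImg_threeStep54 : InImg threeStep54 := (InImg.mul inImg_threeStep50 inImg_threeStep53)

/-- step 55 -/
def threeStep55 : ℕ := mulP threeStep48 threeStep54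

theorem inImg_threeStep55 : InImg threeStep55 := (InImg.mul inImg_threeStep48 inImg_threeStep54)

/-- step 56 -/
def threeStep56 : ℕ := mulP threeStep42 threeStep55

theorem inImg_threeStep56 : InImg threeStep56 := (InImg.mul inImg_threeStep42 inImg_threeStep55)

theorem eq_threeMat57 : Nat.beq threeMat57 (mulP threeStep28 threeStep56) = true := by decide +kernel

theorem inImg_threeMat57 : InImg threeMat57 :=
  Nat.eq_of_beq_eq_true eq_threeMat57 ▸ (InImg.mul inImg_threeStep28 inImg_threeStep56)

/-- step 58 -/
def threeStep58 : ℕ := mulP threeStep0 threeStep31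

theorem inImg_threeStep58 : InImg threeStep58 := (InImg.mul inImg_threeStep0 inImg_threeStep31)

/-- step 59 -/
def threeStep59 : ℕ := mulP (genN .d) (genN .s)

theorem inImg_threeStep59 : InImg threeStep59 := (InImg.mul (inImg_gen .d) (inImg_gen .s))

/-- step 60 -/
def threeStep60 : ℕ := mulP threeStep59 threeStep4

theorem inImg_threeStep60 : InImg threeStep60 := (InImg.mul inImg_threeStep59 inImg_threeStep4)

/-- step 61 -/
def threeStep61 : ℕ := mulP threeStep58 threeStep60

theorem inImg_threeStep61 : InImg threeStep61 := (InImg.mul inImg_threeStep58 inImg_threeStep60)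

/-- step 62 -/
def threeStep62 : ℕ := mulP threeStep10 (genN .a)

theorem inImg_threeStep62 : InImg threeStep62 := (InImg.mul inImg_threeStep10 (inImg_gen .a))

/-- step 63 -/
def threeStep63 : ℕ := mulP threeStep62 threeStep13

theorem inImg_threeStep63 : InImg threeStep63 := (InImg.mul inImg_threeStep62 inImg_threeStep13)

/-- step 64 -/
def threeStep64 : ℕ := mulP threeStep61 threeStep63

theorem inImg_threeStep64 : InImg threeStep64 := (InImg.mul inImg_threeStep61 inImg_threeStep63)

/-- step 65 -/
def threeStep65 : ℕ := mulP threeStep64 threeStep64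

theorem inImg_threeStep65 : InImg threeStep65 := (InImg.mul inImg_threeStep64 inImg_threeStep64)

/-- step 66 -/
def threeStep66 : ℕ := mulP threeStep65 threeStep65

theorem inImg_threeStep66 : InImg threeStep66 := (InImg.mul inImg_threeStep65 inImg_threeStep65)

/-- step 67 -/
def threeStep67 : ℕ := mulP threeStep66 threeStep66

theorem inImg_threeStep67 : InImg threeStep67 := (InImg.mul inImg_threeStep66 inImg_threeStep66)

/-- step 68 -/
def threeStep68 : ℕ := mulP threeStep65 threeStep67

theorem inImg_threeStep68 : InImg threeStep68 := (InImg.mul inImg_threeStep65 inImg_threeStep67)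

/-- step 69 -/
def threeStep69 : ℕ := mulP threeStep13 threeStep68

theorem inImg_threeStep69 : InImg threeStep69 := (InImg.mul inImg_threeStep13 inImg_threeStep68)

/-- step 70 -/
def threeStep70 : ℕ := mulP threeMat57 threeStep69

theorem inImg_threeStep70 : InImg threeStep70 := (InImg.mul inImg_threeMat57 inImg_threeStep69)

/-- step 71 -/
def threeStep71 : ℕ := mulP (invN .b) (invN .a)

theorem inImg_threeStep71 : InImg threeStep71 := (InImg.mul (inImg_inv .b) (inImg_inv .a))

/-- step 72 -/
def threeStep72 : ℕ := mulP threeStep71 (invN .u)

theorem inImg_threeStep72 : InImg threeStep72 := (InImg.mul inImg_threeStep71 (inImg_inv .u))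

/-- step 73 -/
def threeStep73 : ℕ := mulP (invN .t) (invN .b)

theorem inImg_threeStep73 : InImg threeStep73 := (InImg.mul (inImg_inv .t) (inImg_inv .b))

/-- step 74 -/
def threeStep74 : ℕ := mulP threeStep73 (invN .s)

theorem inImg_threeStep74 : InImg threeStep74 := (InImg.mul inImg_threeStep73 (inImg_inv .s))

/-- step 75 -/
def threeStep75 : ℕ := mulP threeStep72 threeStep74

theorem inImg_threeStep75 : InImg threeStep75 := (InImg.mul inImg_threeStep72 inImg_threeStep74)

/-- step 76 -/
def threeStep76 : ℕ := mulP (genN .b) (genN .t)

theorem inImg_threeStep76 : InImg threeStep76 := (InImg.mul (inImg_gen .b) (inImg_gen .t))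

/-- step 77 -/
def threeStep77 : ℕ := mulP (genN .s) threeStep76

theorem inImg_threeStep77 : InImg threeStep77 := (InImg.mul (inImg_gen .s) inImg_threeStep76)

/-- step 78 -/
def threeStep78 : ℕ := mulP (genN .a) (genN .b)

theorem inImg_threeStep78 : InImg threeStep78 := (InImg.mul (inImg_gen .a) (inImg_gen .b))

/-- step 79 -/
def threeStep79 : ℕ := mulP (genN .u) threeStep78

theorem inImg_threeStep79 : InImg threeStep79 := (InImg.mul (inImg_gen .u) inImg_threeStep78)

/-- step 80 -/
def threeStep80 : ℕ := mulP threeStep77 threeStep79

theorem inImg_threeStep80 : InImg threeStep80 := (InImg.mul inImg_threeStep77 inImg_threeStep79)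

/-- step 81 -/
def threeStep81 : ℕ := mulP (invN .a) threeStep80

theorem inImg_threeStep81 : InImg threeStep81 := (InImg.mul (inImg_inv .a) inImg_threeStep80)

/-- step 82 -/
def threeStep82 : ℕ := mulP threeStep75 threeStep81

theorem inImg_threeStep82 : InImg threeStep82 := (InImg.mul inImg_threeStep75 inImg_threeStep81)

/-- step 83 -/
def threeStep83 : ℕ := mulP threeStep19 (invN .e)

theorem inImg_threeStep83 : InImg threeStep83 := (InImg.mul inImg_threeStep19 (inImg_inv .e))

/-- step 84 -/
def threeStep84 : ℕ := mulP (invN .d) (invN .c)

theorem inImg_threeStep84 : InImg threeStep84 := (InImg.mul (inImg_inv .d) (inImg_inv .c))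

/-- step 85 -/
def threeStep85 : ℕ := mulP threeStep83 threeStep84

theorem inImg_threeStep85 : InImg threeStep85 := (InImg.mul inImg_threeStep83 inImg_threeStep84)

/-- step 86 -/
def threeStep86 : ℕ := mulP (genN .d) (genN .e)

theorem inImg_threeStep86 : InImg threeStep86 := (InImg.mul (inImg_gen .d) (inImg_gen .e))

/-- step 87 -/
def threeStep87 : ℕ := mulP (genN .s) (genN .e)

theorem inImg_threeStep87 : InImg threeStep87 := (InImg.mul (inImg_gen .s) (inImg_gen .e))

/-- step 88 -/
def threeStep88 : ℕ := mulP threeStep86 threeStep87

theorem inImg_threeStep88 : InImg threeStep88 := (InImg.mul inImg_threeStep86 inImg_threeStep87)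

/-- step 89 -/
def threeStep89 : ℕ := mulP threeStep85 threeStep88

theorem inImg_threeStep89 : InImg threeStep89 := (InImg.mul inImg_threeStep85 inImg_threeStep88)

/-- step 90 -/
def threeStep90 : ℕ := mulP (invN .c) (genN .d)

theorem inImg_threeStep90 : InImg threeStep90 := (InImg.mul (inImg_inv .c) (inImg_gen .d))

/-- step 91 -/
def threeStep91 : ℕ := mulP threeStep8 threeStep90

theorem inImg_threeStep91 : InImg threeStep91 := (InImg.mul inImg_threeStep8 inImg_threeStep90)

/-- step 92 -/
def threeStep92 : ℕ := mulP (genN .u) (invN .e)

theorem inImg_threeStep92 : InImg threeStep92 := (InImg.mul (inImg_gen .u) (inImg_inv .e))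

/-- step 93 -/
def threeStep93 : ℕ := mulP threeStep92 threeStep84

theorem inImg_threeStep93 : InImg threeStep93 := (InImg.mul inImg_threeStep92 inImg_threeStep84)

/-- step 94 -/
def threeStep94 : ℕ := mulP threeStep91 threeStep93

theorem inImg_threeStep94 : InImg threeStep94 := (InImg.mul inImg_threeStep91 inImg_threeStep93)

/-- step 95 -/
def threeStep95 : ℕ := mulP threeStep89 threeStep94

theorem inImg_threeStep95 : InImg threeStep95 := (InImg.mul inImg_threeStep89 inImg_threeStep94)

/-- step 96 -/
def threeStep96 : ℕ := mulP threeStep86 threeStep84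

theorem inImg_threeStep96 : InImg threeStep96 := (InImg.mul inImg_threeStep86 inImg_threeStep84)

/-- step 97 -/
def threeStep97 : ℕ := mulP (genN .d) (invN .c)

theorem inImg_threeStep97 : InImg threeStep97 := (InImg.mul (inImg_gen .d) (inImg_inv .c))

/-- step 98 -/
def threeStep98 : ℕ := mulP (genN .s) (genN .s)

theorem inImg_threeStep98 : InImg threeStep98 := (InImg.mul (inImg_gen .s) (inImg_gen .s))

/-- step 99 -/
def threeStep99 : ℕ := mulP threeStep97 threeStep98

theorem inImg_threeStep99 : InImg threeStep99 := (InImg.mul inImg_threeStep97 inImg_threeStep98)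

/-- step 100 -/
def threeStep100 : ℕ := mulP threeStep96 threeStep99

theorem inImg_threeStep100 : InImg threeStep100 := (InImg.mul inImg_threeStep96 inImg_threeStep99)

/-- step 101 -/
def threeStep101 : ℕ := mulP (invN .u) (invN .s)

theorem inImg_threeStep101 : InImg threeStep101 := (InImg.mul (inImg_inv .u) (inImg_inv .s))

/-- step 102 -/
def threeStep102 : ℕ := mulP threeStep101 threeStep20

theorem inImg_threeStep102 : InImg threeStep102 := (InImg.mul inImg_threeStep101 inImg_threeStep20)

/-- step 103 -/
def threeStep103 : ℕ := mulP threeStep101 threeStep16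

theorem inImg_threeStep103 : InImg threeStep103 := (InImg.mul inImg_threeStep101 inImg_threeStep16)

/-- step 104 -/
def threeStep104 : ℕ := mulP threeStep102 threeStep103

theorem inImg_threeStep104 : InImg threeStep104 := (InImg.mul inImg_threeStep102 inImg_threeStep103)

/-- step 105 -/
def threeStep105 : ℕ := mulP threeStep100 threeStep104

theorem inImg_threeStep105 : InImg threeStep105 := (InImg.mul inImg_threeStep100 inImg_threeStep104)

/-- step 106 -/
def threeStep106 : ℕ := mulP threeStep95 threeStep105

theorem inImg_threeStep106 : InImg threeStep106 := (InImg.mul inImg_threeStep95 inImg_threeStep105)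

theorem eq_threeMat107 : Nat.beq threeMat107 (mulP threeStep82 threeStep106) = true := by decide +kernel

theorem inImg_threeMat107 : InImg threeMat107 :=
  Nat.eq_of_beq_eq_true eq_threeMat107 ▸ (InImg.mul inImg_threeStep82 inImg_threeStep106)

/-- step 108 -/
def threeStep108 : ℕ := mulP threeMat107 threeMat107

theorem inImg_threeStep108 : InImg threeStep108 := (InImg.mul inImg_threeMat107 inImg_threeMat107)

/-- step 109 -/
def threeStep109 : ℕ := mulP threeStep108 threeStep108

theorem inImg_threeStep109 : InImg threeStep109 := (InImg.mul inImg_threeStep108 inImg_threeStep108)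

/-- step 110 -/
def threeStep110 : ℕ := mulP threeStep109 threeStep109

theorem inImg_threeStep110 : InImg threeStep110 := (InImg.mul inImg_threeStep109 inImg_threeStep109)

/-- step 111 -/
def threeStep111 : ℕ := mulP threeStep110 threeMat107

theorem inImg_threeStep111 : InImg threeStep111 := (InImg.mul inImg_threeStep110 inImg_threeMat107)

/-- step 112 -/
def threeStep112 : ℕ := mulP threeStep111 threeStep75

theorem inImg_threeStep112 : InImg threeStep112 := (InImg.mul inImg_threeStep111 inImg_threeStep75)

/-- step 113 -/
def threeStep113 : ℕ := mulP (genN .e) (genN .t)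

theorem inImg_threeStep113 : InImg threeStep113 := (InImg.mul (inImg_gen .e) (inImg_gen .t))

/-- step 114 -/
def threeStep114 : ℕ := mulP (genN .d) threeStep113

theorem inImg_threeStep114 : InImg threeStep114 := (InImg.mul (inImg_gen .d) inImg_threeStep113)

/-- step 115 -/
def threeStep115 : ℕ := mulP (genN .s) threeStep51

theorem inImg_threeStep115 : InImg threeStep115 := (InImg.mul (inImg_gen .s) inImg_threeStep51)

/-- step 116 -/
def threeStep116 : ℕ := mulP threeStep114 threeStep115

theorem inImg_threeStep116 : InImg threeStep116 := (InImg.mul inImg_threeStep114 inImg_threeStep115)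

/-- step 117 -/
def threeStep117 : ℕ := mulP (genN .s) threeStep31

theorem inImg_threeStep117 : InImg threeStep117 := (InImg.mul (inImg_gen .s) inImg_threeStep31)

/-- step 118 -/
def threeStep118 : ℕ := mulP (genN .d) threeStep35

theorem inImg_threeStep118 : InImg threeStep118 := (InImg.mul (inImg_gen .d) inImg_threeStep35)

/-- step 119 -/
def threeStep119 : ℕ := mulP threeStep117 threeStep118

theorem inImg_threeStep119 : InImg threeStep119 := (InImg.mul inImg_threeStep117 inImg_threeStep118)

/-- step 120 -/
def threeStep120 : ℕ := mulP threeStep116 threeStep119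

theorem inImg_threeStep120 : InImg threeStep120 := (InImg.mul inImg_threeStep116 inImg_threeStep119)

/-- step 121 -/
def threeStep121 : ℕ := mulP (genN .c) threeStep37

theorem inImg_threeStep121 : InImg threeStep121 := (InImg.mul (inImg_gen .c) inImg_threeStep37)

/-- step 122 -/
def threeStep122 : ℕ := mulP (invN .s) (invN .e)

theorem inImg_threeStep122 : InImg threeStep122 := (InImg.mul (inImg_inv .s) (inImg_inv .e))

/-- step 123 -/
def threeStep123 : ℕ := mulP (genN .d) threeStep122

theorem inImg_threeStep123 : InImg threeStep123 := (InImg.mul (inImg_gen .d) inImg_threeStep122)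

/-- step 124 -/
def threeStep124 : ℕ := mulP threeStep121 threeStep123

theorem inImg_threeStep124 : InImg threeStep124 := (InImg.mul inImg_threeStep121 inImg_threeStep123)

/-- step 125 -/
def threeStep125 : ℕ := mulP (invN .d) threeStep43

theorem inImg_threeStep125 : InImg threeStep125 := (InImg.mul (inImg_inv .d) inImg_threeStep43)

/-- step 126 -/
def threeStep126 : ℕ := mulP (genN .s) (invN .s)

theorem inImg_threeStep126 : InImg threeStep126 := (InImg.mul (inImg_gen .s) (inImg_inv .s))

/-- step 127 -/
def threeStep127 : ℕ := mulP (genN .e) threeStep126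

theorem inImg_threeStep127 : InImg threeStep127 := (InImg.mul (inImg_gen .e) inImg_threeStep126)

/-- step 128 -/
def threeStep128 : ℕ := mulP threeStep125 threeStep127

theorem inImg_threeStep128 : InImg threeStep128 := (InImg.mul inImg_threeStep125 inImg_threeStep127)

/-- step 129 -/
def threeStep129 : ℕ := mulP threeStep124 threeStep128

theorem inImg_threeStep129 : InImg threeStep129 := (InImg.mul inImg_threeStep124 inImg_threeStep128)

/-- step 130 -/
def threeStep130 : ℕ := mulP threeStep120 threeStep129

theorem inImg_threeStep130 : InImg threeStep130 := (InImg.mul inImg_threeStep120 inImg_threeStep129)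

/-- step 131 -/
def threeStep131 : ℕ := mulP (invN .u) threeStep37

theorem inImg_threeStep131 : InImg threeStep131 := (InImg.mul (inImg_inv .u) inImg_threeStep37)

/-- step 132 -/
def threeStep132 : ℕ := mulP threeStep131 threeStep52

theorem inImg_threeStep132 : InImg threeStep132 := (InImg.mul inImg_threeStep131 inImg_threeStep52)

/-- step 133 -/
def threeStep133 : ℕ := mulP (invN .d) threeStep122

theorem inImg_threeStep133 : InImg threeStep133 := (InImg.mul (inImg_inv .d) inImg_threeStep122)

/-- step 134 -/
def threeStep134 : ℕ := mulP threeStep133 threeStep125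

theorem inImg_threeStep134 : InImg threeStep134 := (InImg.mul inImg_threeStep133 inImg_threeStep125)

/-- step 135 -/
def threeStep135 : ℕ := mulP threeStep132 threeStep134

theorem inImg_threeStep135 : InImg threeStep135 := (InImg.mul inImg_threeStep132 inImg_threeStep134)

/-- step 136 -/
def threeStep136 : ℕ := mulP (genN .s) (genN .d)

theorem inImg_threeStep136 : InImg threeStep136 := (InImg.mul (inImg_gen .s) (inImg_gen .d))

/-- step 137 -/
def threeStep137 : ℕ := mulP (genN .e) threeStep136

theorem inImg_threeStep137 : InImg threeStep137 := (InImg.mul (inImg_gen .e) inImg_threeStep136)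

/-- step 138 -/
def threeStep138 : ℕ := mulP (invN .e) threeStep122

theorem inImg_threeStep138 : InImg threeStep138 := (InImg.mul (inImg_inv .e) inImg_threeStep122)

/-- step 139 -/
def threeStep139 : ℕ := mulP threeStep137 threeStep138

theorem inImg_threeStep139 : InImg threeStep139 := (InImg.mul inImg_threeStep137 inImg_threeStep138)

/-- step 140 -/
def threeStep140 : ℕ := mulP (genN .e) threeStep31

theorem inImg_threeStep140 : InImg threeStep140 := (InImg.mul (inImg_gen .e) inImg_threeStep31)

/-- step 141 -/
def threeStep141 : ℕ := mulP threeStep125 threeStep140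

theorem inImg_threeStep141 : InImg threeStep141 := (InImg.mul inImg_threeStep125 inImg_threeStep140)

/-- step 142 -/
def threeStep142 : ℕ := mulP threeStep139 threeStep141

theorem inImg_threeStep142 : InImg threeStep142 := (InImg.mul inImg_threeStep139 inImg_threeStep141)

/-- step 143 -/
def threeStep143 : ℕ := mulP threeStep135 threeStep142

theorem inImg_threeStep143 : InImg threeStep143 := (InImg.mul inImg_threeStep135 inImg_threeStep142)

theorem eq_threeMat144 : Nat.beq threeMat144 (mulP threeStep130 threeStep143) = true := by decide +kernel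

theorem inImg_threeMat144 : InImg threeMat144 :=
  Nat.eq_of_beq_eq_true eq_threeMat144 ▸ (InImg.mul inImg_threeStep130 inImg_threeStep143)

/-- step 145 -/
def threeStep145 : ℕ := mulP threeStep112 threeMat144

theorem inImg_threeStep145 : InImg threeStep145 := (InImg.mul inImg_threeStep112 inImg_threeMat144)

/-- step 146 -/
def threeStep146 : ℕ := mulP (genN .s) (genN .u)

theorem inImg_threeStep146 : InImg threeStep146 := (InImg.mul (inImg_gen .s) (inImg_gen .u))

/-- step 147 -/
def threeStep147 : ℕ := mulP threeStep4 threeStep146

theorem inImg_threeStep147 : InImg threeStep147 := (InImg.mul inImg_threeStep4 inImg_threeStep146)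

/-- step 148 -/
def threeStep148 : ℕ := mulP threeStep0 threeStep146

theorem inImg_threeStep148 : InImg threeStep148 := (InImg.mul inImg_threeStep0 inImg_threeStep146)

/-- step 149 -/
def threeStep149 : ℕ := mulP threeStep147 threeStep148

theorem inImg_threeStep149 : InImg threeStep149 := (InImg.mul inImg_threeStep147 inImg_threeStep148)

/-- step 150 -/
def threeStep150 : ℕ := mulP (invN .s) (invN .s)

theorem inImg_threeStep150 : InImg threeStep150 := (InImg.mul (inImg_inv .s) (inImg_inv .s))

/-- step 151 -/
def threeStep151 : ℕ := mulP (genN .c) (invN .d)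

theorem inImg_threeStep151 : InImg threeStep151 := (InImg.mul (inImg_gen .c) (inImg_inv .d))

/-- step 152 -/
def threeStep152 : ℕ := mulP threeStep150 threeStep151

theorem inImg_threeStep152 : InImg threeStep152 := (InImg.mul inImg_threeStep150 inImg_threeStep151)

/-- step 153 -/
def threeStep153 : ℕ := mulP threeStep43 threeStep46

theorem inImg_threeStep153 : InImg threeStep153 := (InImg.mul inImg_threeStep43 inImg_threeStep46)

/-- step 154 -/
def threeStep154 : ℕ := mulP threeStep152 threeStep153

theorem inImg_threeStep154 : InImg threeStep154 := (InImg.mul inImg_threeStep152 inImg_threeStep153)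

/-- step 155 -/
def threeStep155 : ℕ := mulP threeStep149 threeStep154

theorem inImg_threeStep155 : InImg threeStep155 := (InImg.mul inImg_threeStep149 inImg_threeStep154)

/-- step 156 -/
def threeStep156 : ℕ := mulP (genN .e) (invN .u)

theorem inImg_threeStep156 : InImg threeStep156 := (InImg.mul (inImg_gen .e) (inImg_inv .u))

/-- step 157 -/
def threeStep157 : ℕ := mulP threeStep43 threeStep156

theorem inImg_threeStep157 : InImg threeStep157 := (InImg.mul inImg_threeStep43 inImg_threeStep156)

/-- step 158 -/
def threeStep158 : ℕ := mulP threeStep37 threeStep12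

theorem inImg_threeStep158 : InImg threeStep158 := (InImg.mul inImg_threeStep37 inImg_threeStep12)

/-- step 159 -/
def threeStep159 : ℕ := mulP threeStep157 threeStep158

theorem inImg_threeStep159 : InImg threeStep159 := (InImg.mul inImg_threeStep157 inImg_threeStep158)

/-- step 160 -/
def threeStep160 : ℕ := mulP (invN .e) (invN .s)

theorem inImg_threeStep160 : InImg threeStep160 := (InImg.mul (inImg_inv .e) (inImg_inv .s))

/-- step 161 -/
def threeStep161 : ℕ := mulP threeStep160 threeStep46

theorem inImg_threeStep161 : InImg threeStep161 := (InImg.mul inImg_threeStep160 inImg_threeStep46)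

/-- step 162 -/
def threeStep162 : ℕ := mulP threeStep43 threeStep140

theorem inImg_threeStep162 : InImg threeStep162 := (InImg.mul inImg_threeStep43 inImg_threeStep140)

/-- step 163 -/
def threeStep163 : ℕ := mulP threeStep161 threeStep162

theorem inImg_threeStep163 : InImg threeStep163 := (InImg.mul inImg_threeStep161 inImg_threeStep162)

/-- step 164 -/
def threeStep164 : ℕ := mulP threeStep159 threeStep163

theorem inImg_threeStep164 : InImg threeStep164 := (InImg.mul inImg_threeStep159 inImg_threeStep163)

/-- step 165 -/
def threeStep165 : ℕ := mulP threeStep155 threeStep164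

theorem inImg_threeStep165 : InImg threeStep165 := (InImg.mul inImg_threeStep155 inImg_threeStep164)

/-- step 166 -/
def threeStep166 : ℕ := mulP threeStep75 (genN .a)

theorem inImg_threeStep166 : InImg threeStep166 := (InImg.mul inImg_threeStep75 (inImg_gen .a))

/-- step 167 -/
def threeStep167 : ℕ := mulP threeStep166 threeStep80

theorem inImg_threeStep167 : InImg threeStep167 := (InImg.mul inImg_threeStep166 inImg_threeStep80)

theorem eq_threeMat168 : Nat.beq threeMat168 (mulP threeStep165 threeStep167) = true := by decide +kernel

theorem inImg_threeMat168 : InImg threeMat168 :=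
  Nat.eq_of_beq_eq_true eq_threeMat168 ▸ (InImg.mul inImg_threeStep165 inImg_threeStep167)

/-- step 169 -/
def threeStep169 : ℕ := mulP threeMat168 threeMat168

theorem inImg_threeStep169 : InImg threeStep169 := (InImg.mul inImg_threeMat168 inImg_threeMat168)

/-- step 170 -/
def threeStep170 : ℕ := mulP threeStep169 threeStep169

theorem inImg_threeStep170 : InImg threeStep170 := (InImg.mul inImg_threeStep169 inImg_threeStep169)

/-- step 171 -/
def threeStep171 : ℕ := mulP threeStep170 threeStep170

theorem inImg_threeStep171 : InImg threeStep171 := (InImg.mul inImg_threeStep170 inImg_threeStep170)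

/-- step 172 -/
def threeStep172 : ℕ := mulP threeMat168 threeStep171

theorem inImg_threeStep172 : InImg threeStep172 := (InImg.mul inImg_threeMat168 inImg_threeStep171)

/-- step 173 -/
def threeStep173 : ℕ := mulP threeStep80 threeStep172

theorem inImg_threeStep173 : InImg threeStep173 := (InImg.mul inImg_threeStep80 inImg_threeStep172)

/-- step 174 -/
def threeStep174 : ℕ := mulP threeStep145 threeStep173

theorem inImg_threeStep174 : InImg threeStep174 := (InImg.mul inImg_threeStep145 inImg_threeStep173)

/-- step 175 -/
def threeStep175 : ℕ := mulP (genN .s) (genN .t)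

theorem inImg_threeStep175 : InImg threeStep175 := (InImg.mul (inImg_gen .s) (inImg_gen .t))

/-- step 176 -/
def threeStep176 : ℕ := mulP (genN .s) (genN .b)

theorem inImg_threeStep176 : InImg threeStep176 := (InImg.mul (inImg_gen .s) (inImg_gen .b))

/-- step 177 -/
def threeStep177 : ℕ := mulP threeStep175 threeStep176

theorem inImg_threeStep177 : InImg threeStep177 := (InImg.mul inImg_threeStep175 inImg_threeStep176)

/-- step 178 -/
def threeStep178 : ℕ := mulP (genN .a) (invN .b)

theorem inImg_threeStep178 : InImg threeStep178 := (InImg.mul (inImg_gen .a) (inImg_inv .b))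

/-- step 179 -/
def threeStep179 : ℕ := mulP (genN .b) (invN .a)

theorem inImg_threeStep179 : InImg threeStep179 := (InImg.mul (inImg_gen .b) (inImg_inv .a))

/-- step 180 -/
def threeStep180 : ℕ := mulP (genN .a) threeStep179

theorem inImg_threeStep180 : InImg threeStep180 := (InImg.mul (inImg_gen .a) inImg_threeStep179)

/-- step 181 -/
def threeStep181 : ℕ := mulP threeStep178 threeStep180

theorem inImg_threeStep181 : InImg threeStep181 := (InImg.mul inImg_threeStep178 inImg_threeStep180)

/-- step 182 -/
def threeStep182 : ℕ := mulP threeStep177 threeStep181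

theorem inImg_threeStep182 : InImg threeStep182 := (InImg.mul inImg_threeStep177 inImg_threeStep181)

/-- step 183 -/
def threeStep183 : ℕ := mulP (genN .b) (invN .t)

theorem inImg_threeStep183 : InImg threeStep183 := (InImg.mul (inImg_gen .b) (inImg_inv .t))

/-- step 184 -/
def threeStep184 : ℕ := mulP (genN .c) (genN .s)

theorem inImg_threeStep184 : InImg threeStep184 := (InImg.mul (inImg_gen .c) (inImg_gen .s))

/-- step 185 -/
def threeStep185 : ℕ := mulP threeStep183 threeStep184

theorem inImg_threeStep185 : InImg threeStep185 := (InImg.mul inImg_threeStep183 inImg_threeStep184)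

/-- step 186 -/
def threeStep186 : ℕ := mulP (genN .d) (invN .e)

theorem inImg_threeStep186 : InImg threeStep186 := (InImg.mul (inImg_gen .d) (inImg_inv .e))

/-- step 187 -/
def threeStep187 : ℕ := mulP threeStep186 threeStep137

theorem inImg_threeStep187 : InImg threeStep187 := (InImg.mul inImg_threeStep186 inImg_threeStep137)

/-- step 188 -/
def threeStep188 : ℕ := mulP threeStep185 threeStep187

theorem inImg_threeStep188 : InImg threeStep188 := (InImg.mul inImg_threeStep185 inImg_threeStep187)

/-- step 189 -/
def threeStep189 : ℕ := mulP threeStep182 threeStep188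

theorem inImg_threeStep189 : InImg threeStep189 := (InImg.mul inImg_threeStep182 inImg_threeStep188)

/-- step 190 -/
def threeStep190 : ℕ := mulP (invN .a) (invN .t)

theorem inImg_threeStep190 : InImg threeStep190 := (InImg.mul (inImg_inv .a) (inImg_inv .t))

/-- step 191 -/
def threeStep191 : ℕ := mulP (invN .d) (genN .s)

theorem inImg_threeStep191 : InImg threeStep191 := (InImg.mul (inImg_inv .d) (inImg_gen .s))

/-- step 192 -/
def threeStep192 : ℕ := mulP threeStep190 threeStep191

theorem inImg_threeStep192 : InImg threeStep192 := (InImg.mul inImg_threeStep190 inImg_threeStep191)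

/-- step 193 -/
def threeStep193 : ℕ := mulP (genN .d) (invN .t)

theorem inImg_threeStep193 : InImg threeStep193 := (InImg.mul (inImg_gen .d) (inImg_inv .t))

/-- step 194 -/
def threeStep194 : ℕ := mulP (genN .c) (invN .b)

theorem inImg_threeStep194 : InImg threeStep194 := (InImg.mul (inImg_gen .c) (inImg_inv .b))

/-- step 195 -/
def threeStep195 : ℕ := mulP (invN .s) threeStep194

theorem inImg_threeStep195 : InImg threeStep195 := (InImg.mul (inImg_inv .s) inImg_threeStep194)

/-- step 196 -/
def threeStep196 : ℕ := mulP threeStep193 threeStep195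

theorem inImg_threeStep196 : InImg threeStep196 := (InImg.mul inImg_threeStep193 inImg_threeStep195)

/-- step 197 -/
def threeStep197 : ℕ := mulP threeStep192 threeStep196

theorem inImg_threeStep197 : InImg threeStep197 := (InImg.mul inImg_threeStep192 inImg_threeStep196)

/-- step 198 -/
def threeStep198 : ℕ := mulP (invN .t) (genN .t)

theorem inImg_threeStep198 : InImg threeStep198 := (InImg.mul (inImg_inv .t) (inImg_gen .t))

/-- step 199 -/
def threeStep199 : ℕ := mulP (invN .b) (genN .c)

theorem inImg_threeStep199 : InImg threeStep199 := (InImg.mul (inImg_inv .b) (inImg_gen .c))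

/-- step 200 -/
def threeStep200 : ℕ := mulP threeStep198 threeStep199

theorem inImg_threeStep200 : InImg threeStep200 := (InImg.mul inImg_threeStep198 inImg_threeStep199)

/-- step 201 -/
def threeStep201 : ℕ := mulP (genN .t) (genN .t)

theorem inImg_threeStep201 : InImg threeStep201 := (InImg.mul (inImg_gen .t) (inImg_gen .t))

/-- step 202 -/
def threeStep202 : ℕ := mulP (genN .a) (genN .c)

theorem inImg_threeStep202 : InImg threeStep202 := (InImg.mul (inImg_gen .a) (inImg_gen .c))

/-- step 203 -/
def threeStep203 : ℕ := mulP (genN .s) threeStep202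

theorem inImg_threeStep203 : InImg threeStep203 := (InImg.mul (inImg_gen .s) inImg_threeStep202)

/-- step 204 -/
def threeStep204 : ℕ := mulP threeStep201 threeStep203

theorem inImg_threeStep204 : InImg threeStep204 := (InImg.mul inImg_threeStep201 inImg_threeStep203)

/-- step 205 -/
def threeStep205 : ℕ := mulP threeStep200 threeStep204

theorem inImg_threeStep205 : InImg threeStep205 := (InImg.mul inImg_threeStep200 inImg_threeStep204)

/-- step 206 -/
def threeStep206 : ℕ := mulP threeStep197 threeStep205

theorem inImg_threeStep206 : InImg threeStep206 := (InImg.mul inImg_threeStep197 inImg_threeStep205)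

theorem eq_threeMat207 : Nat.beq threeMat207 (mulP threeStep189 threeStep206) = true := by decide +kernel

theorem inImg_threeMat207 : InImg threeMat207 :=
  Nat.eq_of_beq_eq_true eq_threeMat207 ▸ (InImg.mul inImg_threeStep189 inImg_threeStep206)

/-- step 208 -/
def threeStep208 : ℕ := mulP threeMat207 threeMat207

theorem inImg_threeStep208 : InImg threeStep208 := (InImg.mul inImg_threeMat207 inImg_threeMat207)

/-- step 209 -/
def threeStep209 : ℕ := mulP threeStep174 threeStep208

theorem inImg_threeStep209 : InImg threeStep209 := (InImg.mul inImg_threeStep174 inImg_threeStep208)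

theorem eq_threeMat210 : Nat.beq threeMat210 (mulP threeStep70 threeStep209) = true := by decide +kernel

theorem inImg_threeMat210 : InImg threeMat210 :=
  Nat.eq_of_beq_eq_true eq_threeMat210 ▸ (InImg.mul inImg_threeStep70 inImg_threeStep209)

/-- step 211 -/
def threeStep211 : ℕ := mulP (invN .s) (genN .u)

theorem inImg_threeStep211 : InImg threeStep211 := (InImg.mul (inImg_inv .s) (inImg_gen .u))

/-- step 212 -/
def threeStep212 : ℕ := mulP (invN .t) (invN .c)

theorem inImg_threeStep212 : InImg threeStep212 := (InImg.mul (inImg_inv .t) (inImg_inv .c))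

/-- step 213 -/
def threeStep213 : ℕ := mulP threeStep211 threeStep212

theorem inImg_threeStep213 : InImg threeStep213 := (InImg.mul inImg_threeStep211 inImg_threeStep212)

/-- step 214 -/
def threeStep214 : ℕ := mulP (genN .c) (genN .t)

theorem inImg_threeStep214 : InImg threeStep214 := (InImg.mul (inImg_gen .c) (inImg_gen .t))

/-- step 215 -/
def threeStep215 : ℕ := mulP (invN .u) (genN .s)

theorem inImg_threeStep215 : InImg threeStep215 := (InImg.mul (inImg_inv .u) (inImg_gen .s))

/-- step 216 -/
def threeStep216 : ℕ := mulP threeStep214 threeStep215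

theorem inImg_threeStep216 : InImg threeStep216 := (InImg.mul inImg_threeStep214 inImg_threeStep215)

/-- step 217 -/
def threeStep217 : ℕ := mulP (invN .a) threeStep216

theorem inImg_threeStep217 : InImg threeStep217 := (InImg.mul (inImg_inv .a) inImg_threeStep216)

/-- step 218 -/
def threeStep218 : ℕ := mulP threeStep213 threeStep217

theorem inImg_threeStep218 : InImg threeStep218 := (InImg.mul inImg_threeStep213 inImg_threeStep217)

/-- step 219 -/
def threeStep219 : ℕ := mulP (genN .s) (genN .t)

theorem inImg_threeStep219 : InImg threeStep219 := (InImg.mul (inImg_gen .s) (inImg_gen .t))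

/-- step 220 -/
def threeStep220 : ℕ := mulP threeStep219 (invN .c)

theorem inImg_threeStep220 : InImg threeStep220 := (InImg.mul inImg_threeStep219 (inImg_inv .c))

/-- step 221 -/
def threeStep221 : ℕ := mulP (genN .u) (invN .d)

theorem inImg_threeStep221 : InImg threeStep221 := (InImg.mul (inImg_gen .u) (inImg_inv .d))

/-- step 222 -/
def threeStep222 : ℕ := mulP threeStep221 (invN .a)

theorem inImg_threeStep222 : InImg threeStep222 := (InImg.mul inImg_threeStep221 (inImg_inv .a))

/-- step 223 -/
def threeStep223 : ℕ := mulP threeStep220 threeStep222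

theorem inImg_threeStep223 : InImg threeStep223 := (InImg.mul inImg_threeStep220 inImg_threeStep222)

/-- step 224 -/
def threeStep224 : ℕ := mulP (genN .d) (invN .u)

theorem inImg_threeStep224 : InImg threeStep224 := (InImg.mul (inImg_gen .d) (inImg_inv .u))

/-- step 225 -/
def threeStep225 : ℕ := mulP threeStep224 (genN .c)

theorem inImg_threeStep225 : InImg threeStep225 := (InImg.mul inImg_threeStep224 (inImg_gen .c))

/-- step 226 -/
def threeStep226 : ℕ := mulP (invN .t) (invN .s)

theorem inImg_threeStep226 : InImg threeStep226 := (InImg.mul (inImg_inv .t) (inImg_inv .s))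

/-- step 227 -/
def threeStep227 : ℕ := mulP threeStep225 threeStep226

theorem inImg_threeStep227 : InImg threeStep227 := (InImg.mul inImg_threeStep225 inImg_threeStep226)

/-- step 228 -/
def threeStep228 : ℕ := mulP threeStep223 threeStep227

theorem inImg_threeStep228 : InImg threeStep228 := (InImg.mul inImg_threeStep223 inImg_threeStep227)

/-- step 229 -/
def threeStep229 : ℕ := mulP (invN .b) (genN .s)

theorem inImg_threeStep229 : InImg threeStep229 := (InImg.mul (inImg_inv .b) (inImg_gen .s))

/-- step 230 -/
def threeStep230 : ℕ := mulP threeStep229 (genN .t)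

theorem inImg_threeStep230 : InImg threeStep230 := (InImg.mul inImg_threeStep229 (inImg_gen .t))

/-- step 231 -/
def threeStep231 : ℕ := mulP (invN .c) (genN .u)

theorem inImg_threeStep231 : InImg threeStep231 := (InImg.mul (inImg_inv .c) (inImg_gen .u))

/-- step 232 -/
def threeStep232 : ℕ := mulP threeStep231 (invN .d)

theorem inImg_threeStep232 : InImg threeStep232 := (InImg.mul inImg_threeStep231 (inImg_inv .d))

/-- step 233 -/
def threeStep233 : ℕ := mulP threeStep230 threeStep232

theorem inImg_threeStep233 : InImg threeStep233 := (InImg.mul inImg_threeStep230 inImg_threeStep232)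

/-- step 234 -/
def threeStep234 : ℕ := mulP threeStep233 threeStep85

theorem inImg_threeStep234 : InImg threeStep234 := (InImg.mul inImg_threeStep233 inImg_threeStep85)

/-- step 235 -/
def threeStep235 : ℕ := mulP threeStep228 threeStep234

theorem inImg_threeStep235 : InImg threeStep235 := (InImg.mul inImg_threeStep228 inImg_threeStep234)

/-- step 236 -/
def threeStep236 : ℕ := mulP threeStep86 (genN .s)

theorem inImg_threeStep236 : InImg threeStep236 := (InImg.mul inImg_threeStep86 (inImg_gen .s))

/-- step 237 -/
def threeStep237 : ℕ := mulP (genN .e) (invN .d)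

theorem inImg_threeStep237 : InImg threeStep237 := (InImg.mul (inImg_gen .e) (inImg_inv .d))

/-- step 238 -/
def threeStep238 : ℕ := mulP threeStep237 (invN .s)

theorem inImg_threeStep238 : InImg threeStep238 := (InImg.mul inImg_threeStep237 (inImg_inv .s))

/-- step 239 -/
def threeStep239 : ℕ := mulP threeStep236 threeStep238

theorem inImg_threeStep239 : InImg threeStep239 := (InImg.mul inImg_threeStep236 inImg_threeStep238)

/-- step 240 -/
def threeStep240 : ℕ := mulP threeStep20 (invN .c)

theorem inImg_threeStep240 : InImg threeStep240 := (InImg.mul inImg_threeStep20 (inImg_inv .c))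

/-- step 241 -/
def threeStep241 : ℕ := mulP threeStep240 threeStep86

theorem inImg_threeStep241 : InImg threeStep241 := (InImg.mul inImg_threeStep240 inImg_threeStep86)

/-- step 242 -/
def threeStep242 : ℕ := mulP threeStep239 threeStep241

theorem inImg_threeStep242 : InImg threeStep242 := (InImg.mul inImg_threeStep239 inImg_threeStep241)

/-- step 243 -/
def threeStep243 : ℕ := mulP (genN .s) (genN .d)

theorem inImg_threeStep243 : InImg threeStep243 := (InImg.mul (inImg_gen .s) (inImg_gen .d))

/-- step 244 -/
def threeStep244 : ℕ := mulP threeStep243 (invN .s)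

theorem inImg_threeStep244 : InImg threeStep244 := (InImg.mul inImg_threeStep243 (inImg_inv .s))

/-- step 245 -/
def threeStep245 : ℕ := mulP threeStep8 (invN .c)

theorem inImg_threeStep245 : InImg threeStep245 := (InImg.mul inImg_threeStep8 (inImg_inv .c))

/-- step 246 -/
def threeStep246 : ℕ := mulP threeStep244 threeStep245

theorem inImg_threeStep246 : InImg threeStep246 := (InImg.mul inImg_threeStep244 inImg_threeStep245)

/-- step 247 -/
def threeStep247 : ℕ := mulP (genN .d) (genN .u)

theorem inImg_threeStep247 : InImg threeStep247 := (InImg.mul (inImg_gen .d) (inImg_gen .u))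

/-- step 248 -/
def threeStep248 : ℕ := mulP threeStep247 (invN .e)

theorem inImg_threeStep248 : InImg threeStep248 := (InImg.mul inImg_threeStep247 (inImg_inv .e))

/-- step 249 -/
def threeStep249 : ℕ := mulP threeStep248 threeStep84

theorem inImg_threeStep249 : InImg threeStep249 := (InImg.mul inImg_threeStep248 inImg_threeStep84)

/-- step 250 -/
def threeStep250 : ℕ := mulP threeStep246 threeStep249

theorem inImg_threeStep250 : InImg threeStep250 := (InImg.mul inImg_threeStep246 inImg_threeStep249)

/-- step 251 -/
def threeStep251 : ℕ := mulP threeStep242 threeStep250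

theorem inImg_threeStep251 : InImg threeStep251 := (InImg.mul inImg_threeStep242 inImg_threeStep250)

theorem eq_threeMat252 : Nat.beq threeMat252 (mulP threeStep235 threeStep251) = true := by decide +kernel

theorem inImg_threeMat252 : InImg threeMat252 :=
  Nat.eq_of_beq_eq_true eq_threeMat252 ▸ (InImg.mul inImg_threeStep235 inImg_threeStep251)

/-- step 253 -/
def threeStep253 : ℕ := mulP threeStep236 threeStep245

theorem inImg_threeStep253 : InImg threeStep253 := (InImg.mul inImg_threeStep236 inImg_threeStep245)

/-- step 254 -/
def threeStep254 : ℕ := mulP threeStep253 threeStep249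

theorem inImg_threeStep254 : InImg threeStep254 := (InImg.mul inImg_threeStep253 inImg_threeStep249)

/-- step 255 -/
def threeStep255 : ℕ := mulP threeStep86 (invN .d)

theorem inImg_threeStep255 : InImg threeStep255 := (InImg.mul inImg_threeStep86 (inImg_inv .d))

/-- step 256 -/
def threeStep256 : ℕ := mulP threeStep90 (invN .c)

theorem inImg_threeStep256 : InImg threeStep256 := (InImg.mul inImg_threeStep90 (inImg_inv .c))

/-- step 257 -/
def threeStep257 : ℕ := mulP threeStep255 threeStep256

theorem inImg_threeStep257 : InImg threeStep257 := (InImg.mul inImg_threeStep255 inImg_threeStep256)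

/-- step 258 -/
def threeStep258 : ℕ := mulP (invN .a) (invN .s)

theorem inImg_threeStep258 : InImg threeStep258 := (InImg.mul (inImg_inv .a) (inImg_inv .s))

/-- step 259 -/
def threeStep259 : ℕ := mulP threeStep258 (invN .e)

theorem inImg_threeStep259 : InImg threeStep259 := (InImg.mul inImg_threeStep258 (inImg_inv .e))

/-- step 260 -/
def threeStep260 : ℕ := mulP threeStep259 threeStep98

theorem inImg_threeStep260 : InImg threeStep260 := (InImg.mul inImg_threeStep259 inImg_threeStep98)

/-- step 261 -/
def threeStep261 : ℕ := mulP threeStep257 threeStep260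

theorem inImg_threeStep261 : InImg threeStep261 := (InImg.mul inImg_threeStep257 inImg_threeStep260)

/-- step 262 -/
def threeStep262 : ℕ := mulP threeStep254 threeStep261

theorem inImg_threeStep262 : InImg threeStep262 := (InImg.mul inImg_threeStep254 inImg_threeStep261)

/-- step 263 -/
def threeStep263 : ℕ := mulP (invN .d) (invN .u)

theorem inImg_threeStep263 : InImg threeStep263 := (InImg.mul (inImg_inv .d) (inImg_inv .u))

/-- step 264 -/
def threeStep264 : ℕ := mulP threeStep263 (invN .t)

theorem inImg_threeStep264 : InImg threeStep264 := (InImg.mul inImg_threeStep263 (inImg_inv .t))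

/-- step 265 -/
def threeStep265 : ℕ := mulP (invN .e) (genN .d)

theorem inImg_threeStep265 : InImg threeStep265 := (InImg.mul (inImg_inv .e) (inImg_gen .d))

/-- step 266 -/
def threeStep266 : ℕ := mulP threeStep265 (invN .u)

theorem inImg_threeStep266 : InImg threeStep266 := (InImg.mul inImg_threeStep265 (inImg_inv .u))

/-- step 267 -/
def threeStep267 : ℕ := mulP threeStep264 threeStep266

theorem inImg_threeStep267 : InImg threeStep267 := (InImg.mul inImg_threeStep264 inImg_threeStep266)

/-- step 268 -/
def threeStep268 : ℕ := mulP (genN .c) (invN .t)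

theorem inImg_threeStep268 : InImg threeStep268 := (InImg.mul (inImg_gen .c) (inImg_inv .t))

/-- step 269 -/
def threeStep269 : ℕ := mulP threeStep268 (invN .s)

theorem inImg_threeStep269 : InImg threeStep269 := (InImg.mul inImg_threeStep268 (inImg_inv .s))

/-- step 270 -/
def threeStep270 : ℕ := mulP (genN .b) (genN .s)

theorem inImg_threeStep270 : InImg threeStep270 := (InImg.mul (inImg_gen .b) (inImg_gen .s))

/-- step 271 -/
def threeStep271 : ℕ := mulP threeStep269 threeStep270

theorem inImg_threeStep271 : InImg threeStep271 := (InImg.mul inImg_threeStep269 inImg_threeStep270)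

/-- step 272 -/
def threeStep272 : ℕ := mulP threeStep267 threeStep271

theorem inImg_threeStep272 : InImg threeStep272 := (InImg.mul inImg_threeStep267 inImg_threeStep271)

/-- step 273 -/
def threeStep273 : ℕ := mulP (genN .t) (invN .c)

theorem inImg_threeStep273 : InImg threeStep273 := (InImg.mul (inImg_gen .t) (inImg_inv .c))

/-- step 274 -/
def threeStep274 : ℕ := mulP threeStep273 (genN .u)

theorem inImg_threeStep274 : InImg threeStep274 := (InImg.mul inImg_threeStep273 (inImg_gen .u))

/-- step 275 -/
def threeStep275 : ℕ := mulP (invN .d) (genN .a)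

theorem inImg_threeStep275 : InImg threeStep275 := (InImg.mul (inImg_inv .d) (inImg_gen .a))

/-- step 276 -/
def threeStep276 : ℕ := mulP threeStep274 threeStep275

theorem inImg_threeStep276 : InImg threeStep276 := (InImg.mul inImg_threeStep274 inImg_threeStep275)

/-- step 277 -/
def threeStep277 : ℕ := mulP threeStep276 threeStep227

theorem inImg_threeStep277 : InImg threeStep277 := (InImg.mul inImg_threeStep276 inImg_threeStep227)

/-- step 278 -/
def threeStep278 : ℕ := mulP threeStep272 threeStep277

theorem inImg_threeStep278 : InImg threeStep278 := (InImg.mul inImg_threeStep272 inImg_threeStep277)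

theorem eq_threeMat279 : Nat.beq threeMat279 (mulP threeStep262 threeStep278) = true := by decide +kernel

theorem inImg_threeMat279 : InImg threeMat279 :=
  Nat.eq_of_beq_eq_true eq_threeMat279 ▸ (InImg.mul inImg_threeStep262 inImg_threeStep278)

/-- step 280 -/
def threeStep280 : ℕ := mulP threeMat252 threeMat279

theorem inImg_threeStep280 : InImg threeStep280 := (InImg.mul inImg_threeMat252 inImg_threeMat279)

/-- step 281 -/
def threeStep281 : ℕ := mulP threeStep230 threeStep231

theorem inImg_threeStep281 : InImg threeStep281 := (InImg.mul inImg_threeStep230 inImg_threeStep231)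

/-- step 282 -/
def threeStep282 : ℕ := mulP (invN .d) (invN .e)

theorem inImg_threeStep282 : InImg threeStep282 := (InImg.mul (inImg_inv .d) (inImg_inv .e))

/-- step 283 -/
def threeStep283 : ℕ := mulP threeStep282 (invN .s)

theorem inImg_threeStep283 : InImg threeStep283 := (InImg.mul inImg_threeStep282 (inImg_inv .s))

/-- step 284 -/
def threeStep284 : ℕ := mulP threeStep283 threeStep20

theorem inImg_threeStep284 : InImg threeStep284 := (InImg.mul inImg_threeStep283 inImg_threeStep20)

/-- step 285 -/
def threeStep285 : ℕ := mulP threeStep281 threeStep284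

theorem inImg_threeStep285 : InImg threeStep285 := (InImg.mul inImg_threeStep281 inImg_threeStep284)

/-- step 286 -/
def threeStep286 : ℕ := mulP threeStep228 threeStep285

theorem inImg_threeStep286 : InImg threeStep286 := (InImg.mul inImg_threeStep228 inImg_threeStep285)

/-- step 287 -/
def threeStep287 : ℕ := mulP threeStep90 (genN .e)

theorem inImg_threeStep287 : InImg threeStep287 := (InImg.mul inImg_threeStep90 (inImg_gen .e))

/-- step 288 -/
def threeStep288 : ℕ := mulP threeStep287 threeStep87

theorem inImg_threeStep288 : InImg threeStep288 := (InImg.mul inImg_threeStep287 inImg_threeStep87)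

/-- step 289 -/
def threeStep289 : ℕ := mulP (invN .d) (invN .s)

theorem inImg_threeStep289 : InImg threeStep289 := (InImg.mul (inImg_inv .d) (inImg_inv .s))

/-- step 290 -/
def threeStep290 : ℕ := mulP threeStep289 (invN .e)

theorem inImg_threeStep290 : InImg threeStep290 := (InImg.mul inImg_threeStep289 (inImg_inv .e))

/-- step 291 -/
def threeStep291 : ℕ := mulP threeStep290 threeStep84

theorem inImg_threeStep291 : InImg threeStep291 := (InImg.mul inImg_threeStep290 inImg_threeStep84)

/-- step 292 -/
def threeStep292 : ℕ := mulP threeStep288 threeStep291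

theorem inImg_threeStep292 : InImg threeStep292 := (InImg.mul inImg_threeStep288 inImg_threeStep291)

/-- step 293 -/
def threeStep293 : ℕ := mulP (genN .d) (invN .s)

theorem inImg_threeStep293 : InImg threeStep293 := (InImg.mul (inImg_gen .d) (inImg_inv .s))

/-- step 294 -/
def threeStep294 : ℕ := mulP threeStep236 threeStep293

theorem inImg_threeStep294 : InImg threeStep294 := (InImg.mul inImg_threeStep236 inImg_threeStep293)

/-- step 295 -/
def threeStep295 : ℕ := mulP threeStep245 threeStep247

theorem inImg_threeStep295 : InImg threeStep295 := (InImg.mul inImg_threeStep245 inImg_threeStep247)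

/-- step 296 -/
def threeStep296 : ℕ := mulP threeStep294 threeStep295

theorem inImg_threeStep296 : InImg threeStep296 := (InImg.mul inImg_threeStep294 inImg_threeStep295)

/-- step 297 -/
def threeStep297 : ℕ := mulP threeStep292 threeStep296

theorem inImg_threeStep297 : InImg threeStep297 := (InImg.mul inImg_threeStep292 inImg_threeStep296)

theorem eq_threeMat298 : Nat.beq threeMat298 (mulP threeStep286 threeStep297) = true := by decide +kernel

theorem inImg_threeMat298 : InImg threeMat298 :=
  Nat.eq_of_beq_eq_true eq_threeMat298 ▸ (InImg.mul inImg_threeStep286 inImg_threeStep297)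

/-- step 299 -/
def threeStep299 : ℕ := mulP (genN .s) (invN .u)

theorem inImg_threeStep299 : InImg threeStep299 := (InImg.mul (inImg_gen .s) (inImg_inv .u))

/-- step 300 -/
def threeStep300 : ℕ := mulP threeStep299 (invN .d)

theorem inImg_threeStep300 : InImg threeStep300 := (InImg.mul inImg_threeStep299 (inImg_inv .d))

/-- step 301 -/
def threeStep301 : ℕ := mulP threeStep300 threeStep90

theorem inImg_threeStep301 : InImg threeStep301 := (InImg.mul inImg_threeStep300 inImg_threeStep90)

/-- step 302 -/
def threeStep302 : ℕ := mulP threeStep241 threeStep301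

theorem inImg_threeStep302 : InImg threeStep302 := (InImg.mul inImg_threeStep241 inImg_threeStep301)

/-- step 303 -/
def threeStep303 : ℕ := mulP (genN .u) (invN .c)

theorem inImg_threeStep303 : InImg threeStep303 := (InImg.mul (inImg_gen .u) (inImg_inv .c))

/-- step 304 -/
def threeStep304 : ℕ := mulP threeStep303 (invN .a)

theorem inImg_threeStep304 : InImg threeStep304 := (InImg.mul inImg_threeStep303 (inImg_inv .a))

/-- step 305 -/
def threeStep305 : ℕ := mulP threeStep304 threeStep299

theorem inImg_threeStep305 : InImg threeStep305 := (InImg.mul inImg_threeStep304 inImg_threeStep299)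

/-- step 306 -/
def threeStep306 : ℕ := mulP (invN .t) (genN .s)

theorem inImg_threeStep306 : InImg threeStep306 := (InImg.mul (inImg_inv .t) (inImg_gen .s))

/-- step 307 -/
def threeStep307 : ℕ := mulP threeStep306 (invN .d)

theorem inImg_threeStep307 : InImg threeStep307 := (InImg.mul inImg_threeStep306 (inImg_inv .d))

/-- step 308 -/
def threeStep308 : ℕ := mulP (invN .u) (invN .e)

theorem inImg_threeStep308 : InImg threeStep308 := (InImg.mul (inImg_inv .u) (inImg_inv .e))

/-- step 309 -/
def threeStep309 : ℕ := mulP threeStep307 threeStep308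

theorem inImg_threeStep309 : InImg threeStep309 := (InImg.mul inImg_threeStep307 inImg_threeStep308)

/-- step 310 -/
def threeStep310 : ℕ := mulP threeStep305 threeStep309

theorem inImg_threeStep310 : InImg threeStep310 := (InImg.mul inImg_threeStep305 inImg_threeStep309)

/-- step 311 -/
def threeStep311 : ℕ := mulP threeStep302 threeStep310

theorem inImg_threeStep311 : InImg threeStep311 := (InImg.mul inImg_threeStep302 inImg_threeStep310)

/-- step 312 -/
def threeStep312 : ℕ := mulP (genN .s) (invN .t)

theorem inImg_threeStep312 : InImg threeStep312 := (InImg.mul (inImg_gen .s) (inImg_inv .t))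

/-- step 313 -/
def threeStep313 : ℕ := mulP threeStep312 (invN .d)

theorem inImg_threeStep313 : InImg threeStep313 := (InImg.mul inImg_threeStep312 (inImg_inv .d))

/-- step 314 -/
def threeStep314 : ℕ := mulP (invN .e) (invN .u)

theorem inImg_threeStep314 : InImg threeStep314 := (InImg.mul (inImg_inv .e) (inImg_inv .u))

/-- step 315 -/
def threeStep315 : ℕ := mulP threeStep313 threeStep314

theorem inImg_threeStep315 : InImg threeStep315 := (InImg.mul inImg_threeStep313 inImg_threeStep314)

/-- step 316 -/
def threeStep316 : ℕ := mulP threeStep315 threeStep271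

theorem inImg_threeStep316 : InImg threeStep316 := (InImg.mul inImg_threeStep315 inImg_threeStep271)

/-- step 317 -/
def threeStep317 : ℕ := mulP threeStep316 threeStep277

theorem inImg_threeStep317 : InImg threeStep317 := (InImg.mul inImg_threeStep316 inImg_threeStep277)

theorem eq_threeMat318 : Nat.beq threeMat318 (mulP threeStep311 threeStep317) = true := by decide +kernel

theorem inImg_threeMat318 : InImg threeMat318 :=
  Nat.eq_of_beq_eq_true eq_threeMat318 ▸ (InImg.mul inImg_threeStep311 inImg_threeStep317)

/-- step 319 -/
def threeStep319 : ℕ := mulP threeMat298 threeMat318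

theorem inImg_threeStep319 : InImg threeStep319 := (InImg.mul inImg_threeMat298 inImg_threeMat318)

/-- step 320 -/
def threeStep320 : ℕ := mulP threeStep280 threeStep319

theorem inImg_threeStep320 : InImg threeStep320 := (InImg.mul inImg_threeStep280 inImg_threeStep319)

/-- step 321 -/
def threeStep321 : ℕ := mulP (invN .c) (invN .e)

theorem inImg_threeStep321 : InImg threeStep321 := (InImg.mul (inImg_inv .c) (inImg_inv .e))

/-- step 322 -/
def threeStep322 : ℕ := mulP threeStep321 (invN .s)

theorem inImg_threeStep322 : InImg threeStep322 := (InImg.mul inImg_threeStep321 (inImg_inv .s))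

/-- step 323 -/
def threeStep323 : ℕ := mulP (invN .s) (invN .u)

theorem inImg_threeStep323 : InImg threeStep323 := (InImg.mul (inImg_inv .s) (inImg_inv .u))

/-- step 324 -/
def threeStep324 : ℕ := mulP threeStep323 (invN .s)

theorem inImg_threeStep324 : InImg threeStep324 := (InImg.mul inImg_threeStep323 (inImg_inv .s))

/-- step 325 -/
def threeStep325 : ℕ := mulP threeStep322 threeStep324

theorem inImg_threeStep325 : InImg threeStep325 := (InImg.mul inImg_threeStep322 inImg_threeStep324)

/-- step 326 -/
def threeStep326 : ℕ := mulP threeStep282 (genN .s)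

theorem inImg_threeStep326 : InImg threeStep326 := (InImg.mul inImg_threeStep282 (inImg_gen .s))

/-- step 327 -/
def threeStep327 : ℕ := mulP threeStep263 (invN .d)

theorem inImg_threeStep327 : InImg threeStep327 := (InImg.mul inImg_threeStep263 (inImg_inv .d))

/-- step 328 -/
def threeStep328 : ℕ := mulP threeStep326 threeStep327

theorem inImg_threeStep328 : InImg threeStep328 := (InImg.mul inImg_threeStep326 inImg_threeStep327)

/-- step 329 -/
def threeStep329 : ℕ := mulP threeStep325 threeStep328

theorem inImg_threeStep329 : InImg threeStep329 := (InImg.mul inImg_threeStep325 inImg_threeStep328)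

/-- step 330 -/
def threeStep330 : ℕ := mulP threeStep320 threeStep329

theorem inImg_threeStep330 : InImg threeStep330 := (InImg.mul inImg_threeStep320 inImg_threeStep329)

/-- step 331 -/
def threeStep331 : ℕ := mulP (genN .c) (genN .s)

theorem inImg_threeStep331 : InImg threeStep331 := (InImg.mul (inImg_gen .c) (inImg_gen .s))

/-- step 332 -/
def threeStep332 : ℕ := mulP threeStep331 (genN .t)

theorem inImg_threeStep332 : InImg threeStep332 := (InImg.mul inImg_threeStep331 (inImg_gen .t))

/-- step 333 -/
def threeStep333 : ℕ := mulP (invN .e) (genN .s)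

theorem inImg_threeStep333 : InImg threeStep333 := (InImg.mul (inImg_inv .e) (inImg_gen .s))

/-- step 334 -/
def threeStep334 : ℕ := mulP threeStep332 threeStep333

theorem inImg_threeStep334 : InImg threeStep334 := (InImg.mul inImg_threeStep332 inImg_threeStep333)

/-- step 335 -/
def threeStep335 : ℕ := mulP (invN .a) (invN .t)

theorem inImg_threeStep335 : InImg threeStep335 := (InImg.mul (inImg_inv .a) (inImg_inv .t))

/-- step 336 -/
def threeStep336 : ℕ := mulP threeStep335 threeStep97

theorem inImg_threeStep336 : InImg threeStep336 := (InImg.mul inImg_threeStep335 inImg_threeStep97)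

/-- step 337 -/
def threeStep337 : ℕ := mulP threeStep334 threeStep336

theorem inImg_threeStep337 : InImg threeStep337 := (InImg.mul inImg_threeStep334 inImg_threeStep336)

/-- step 338 -/
def threeStep338 : ℕ := mulP (invN .a) (invN .c)

theorem inImg_threeStep338 : InImg threeStep338 := (InImg.mul (inImg_inv .a) (inImg_inv .c))

/-- step 339 -/
def threeStep339 : ℕ := mulP threeStep338 (genN .t)

theorem inImg_threeStep339 : InImg threeStep339 := (InImg.mul inImg_threeStep338 (inImg_gen .t))

/-- step 340 -/
def threeStep340 : ℕ := mulP (genN .d) (genN .t)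

theorem inImg_threeStep340 : InImg threeStep340 := (InImg.mul (inImg_gen .d) (inImg_gen .t))

/-- step 341 -/
def threeStep341 : ℕ := mulP threeStep339 threeStep340

theorem inImg_threeStep341 : InImg threeStep341 := (InImg.mul inImg_threeStep339 inImg_threeStep340)

/-- step 342 -/
def threeStep342 : ℕ := mulP (genN .c) (invN .d)

theorem inImg_threeStep342 : InImg threeStep342 := (InImg.mul (inImg_gen .c) (inImg_inv .d))

/-- step 343 -/
def threeStep343 : ℕ := mulP (invN .s) (invN .a)

theorem inImg_threeStep343 : InImg threeStep343 := (InImg.mul (inImg_inv .s) (inImg_inv .a))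

/-- step 344 -/
def threeStep344 : ℕ := mulP threeStep342 threeStep343

theorem inImg_threeStep344 : InImg threeStep344 := (InImg.mul inImg_threeStep342 inImg_threeStep343)

/-- step 345 -/
def threeStep345 : ℕ := mulP threeStep341 threeStep344

theorem inImg_threeStep345 : InImg threeStep345 := (InImg.mul inImg_threeStep341 inImg_threeStep344)

/-- step 346 -/
def threeStep346 : ℕ := mulP threeStep337 threeStep345

theorem inImg_threeStep346 : InImg threeStep346 := (InImg.mul inImg_threeStep337 inImg_threeStep345)

/-- step 347 -/
def threeStep347 : ℕ := mulP threeStep275 (genN .b)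

theorem inImg_threeStep347 : InImg threeStep347 := (InImg.mul inImg_threeStep275 (inImg_gen .b))

/-- step 348 -/
def threeStep348 : ℕ := mulP (invN .t) (genN .d)

theorem inImg_threeStep348 : InImg threeStep348 := (InImg.mul (inImg_inv .t) (inImg_gen .d))

/-- step 349 -/
def threeStep349 : ℕ := mulP threeStep347 threeStep348

theorem inImg_threeStep349 : InImg threeStep349 := (InImg.mul inImg_threeStep347 inImg_threeStep348)

/-- step 350 -/
def threeStep350 : ℕ := mulP (genN .d) (genN .s)

theorem inImg_threeStep350 : InImg threeStep350 := (InImg.mul (inImg_gen .d) (inImg_gen .s))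

/-- step 351 -/
def threeStep351 : ℕ := mulP (invN .e) (genN .t)

theorem inImg_threeStep351 : InImg threeStep351 := (InImg.mul (inImg_inv .e) (inImg_gen .t))

/-- step 352 -/
def threeStep352 : ℕ := mulP threeStep350 threeStep351

theorem inImg_threeStep352 : InImg threeStep352 := (InImg.mul inImg_threeStep350 inImg_threeStep351)

/-- step 353 -/
def threeStep353 : ℕ := mulP threeStep349 threeStep352

theorem inImg_threeStep353 : InImg threeStep353 := (InImg.mul inImg_threeStep349 inImg_threeStep352)

/-- step 354 -/
def threeStep354 : ℕ := mulP (genN .c) (invN .e)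

theorem inImg_threeStep354 : InImg threeStep354 := (InImg.mul (inImg_gen .c) (inImg_inv .e))

/-- step 355 -/
def threeStep355 : ℕ := mulP threeStep354 (invN .a)

theorem inImg_threeStep355 : InImg threeStep355 := (InImg.mul inImg_threeStep354 (inImg_inv .a))

/-- step 356 -/
def threeStep356 : ℕ := mulP (genN .c) (genN .a)

theorem inImg_threeStep356 : InImg threeStep356 := (InImg.mul (inImg_gen .c) (inImg_gen .a))

/-- step 357 -/
def threeStep357 : ℕ := mulP threeStep355 threeStep356

theorem inImg_threeStep357 : InImg threeStep357 := (InImg.mul inImg_threeStep355 inImg_threeStep356)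

/-- step 358 -/
def threeStep358 : ℕ := mulP (invN .s) (invN .t)

theorem inImg_threeStep358 : InImg threeStep358 := (InImg.mul (inImg_inv .s) (inImg_inv .t))

/-- step 359 -/
def threeStep359 : ℕ := mulP (genN .t) (invN .a)

theorem inImg_threeStep359 : InImg threeStep359 := (InImg.mul (inImg_gen .t) (inImg_inv .a))

/-- step 360 -/
def threeStep360 : ℕ := mulP threeStep358 threeStep359

theorem inImg_threeStep360 : InImg threeStep360 := (InImg.mul inImg_threeStep358 inImg_threeStep359)

/-- step 361 -/
def threeStep361 : ℕ := mulP threeStep357 threeStep360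

theorem inImg_threeStep361 : InImg threeStep361 := (InImg.mul inImg_threeStep357 inImg_threeStep360)

/-- step 362 -/
def threeStep362 : ℕ := mulP threeStep353 threeStep361

theorem inImg_threeStep362 : InImg threeStep362 := (InImg.mul inImg_threeStep353 inImg_threeStep361)

theorem eq_threeMat363 : Nat.beq threeMat363 (mulP threeStep346 threeStep362) = true := by decide +kernel

theorem inImg_threeMat363 : InImg threeMat363 :=
  Nat.eq_of_beq_eq_true eq_threeMat363 ▸ (InImg.mul inImg_threeStep346 inImg_threeStep362)

/-- step 364 -/
def threeStep364 : ℕ := mulP (genN .s) (invN .e)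

theorem inImg_threeStep364 : InImg threeStep364 := (InImg.mul (inImg_gen .s) (inImg_inv .e))

/-- step 365 -/
def threeStep365 : ℕ := mulP threeStep364 (invN .s)

theorem inImg_threeStep365 : InImg threeStep365 := (InImg.mul inImg_threeStep364 (inImg_inv .s))

/-- step 366 -/
def threeStep366 : ℕ := mulP threeStep365 threeStep282

theorem inImg_threeStep366 : InImg threeStep366 := (InImg.mul inImg_threeStep365 inImg_threeStep282)

/-- step 367 -/
def threeStep367 : ℕ := mulP threeMat363 threeStep366

theorem inImg_threeStep367 : InImg threeStep367 := (InImg.mul inImg_threeMat363 inImg_threeStep366)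

/-- step 368 -/
def threeStep368 : ℕ := mulP threeStep330 threeStep367

theorem inImg_threeStep368 : InImg threeStep368 := (InImg.mul inImg_threeStep330 inImg_threeStep367)

/-- step 369 -/
def threeStep369 : ℕ := mulP threeStep368 threeStep368

theorem inImg_threeStep369 : InImg threeStep369 := (InImg.mul inImg_threeStep368 inImg_threeStep368)

/-- step 370 -/
def threeStep370 : ℕ := mulP threeStep369 threeStep369

theorem inImg_threeStep370 : InImg threeStep370 := (InImg.mul inImg_threeStep369 inImg_threeStep369)

/-- step 371 -/
def threeStep371 : ℕ := mulP threeStep370 threeStep370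

theorem inImg_threeStep371 : InImg threeStep371 := (InImg.mul inImg_threeStep370 inImg_threeStep370)

/-- step 372 -/
def threeStep372 : ℕ := mulP threeStep371 threeStep368

theorem inImg_threeStep372 : InImg threeStep372 := (InImg.mul inImg_threeStep371 inImg_threeStep368)

theorem eq_threeMat373 : Nat.beq threeMat373 (mulP threeStep218 threeStep372) = true := by decide +kernel

theorem inImg_threeMat373 : InImg threeMat373 :=
  Nat.eq_of_beq_eq_true eq_threeMat373 ▸ (InImg.mul inImg_threeStep218 inImg_threeStep372)

/-- step 374 -/
def threeStep374 : ℕ := mulP threeMat373 threeStep213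

theorem inImg_threeStep374 : InImg threeStep374 := (InImg.mul inImg_threeMat373 inImg_threeStep213)

/-- step 375 -/
def threeStep375 : ℕ := mulP threeStep84 (genN .d)

theorem inImg_threeStep375 : InImg threeStep375 := (InImg.mul inImg_threeStep84 (inImg_gen .d))

/-- step 376 -/
def threeStep376 : ℕ := mulP threeStep83 threeStep375

theorem inImg_threeStep376 : InImg threeStep376 := (InImg.mul inImg_threeStep83 inImg_threeStep375)

/-- step 377 -/
def threeStep377 : ℕ := mulP (genN .e) (genN .s)

theorem inImg_threeStep377 : InImg threeStep377 := (InImg.mul (inImg_gen .e) (inImg_gen .s))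

/-- step 378 -/
def threeStep378 : ℕ := mulP threeStep377 (genN .e)

theorem inImg_threeStep378 : InImg threeStep378 := (InImg.mul inImg_threeStep377 (inImg_gen .e))

/-- step 379 -/
def threeStep379 : ℕ := mulP threeStep378 threeStep245

theorem inImg_threeStep379 : InImg threeStep379 := (InImg.mul inImg_threeStep378 inImg_threeStep245)

/-- step 380 -/
def threeStep380 : ℕ := mulP threeStep376 threeStep379

theorem inImg_threeStep380 : InImg threeStep380 := (InImg.mul inImg_threeStep376 inImg_threeStep379)

/-- step 381 -/
def threeStep381 : ℕ := mulP threeStep247 (invN .c)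

theorem inImg_threeStep381 : InImg threeStep381 := (InImg.mul inImg_threeStep247 (inImg_inv .c))

/-- step 382 -/
def threeStep382 : ℕ := mulP (invN .u) (invN .t)

theorem inImg_threeStep382 : InImg threeStep382 := (InImg.mul (inImg_inv .u) (inImg_inv .t))

/-- step 383 -/
def threeStep383 : ℕ := mulP threeStep382 (invN .s)

theorem inImg_threeStep383 : InImg threeStep383 := (InImg.mul inImg_threeStep382 (inImg_inv .s))

/-- step 384 -/
def threeStep384 : ℕ := mulP threeStep381 threeStep383

theorem inImg_threeStep384 : InImg threeStep384 := (InImg.mul inImg_threeStep381 inImg_threeStep383)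

/-- step 385 -/
def threeStep385 : ℕ := mulP threeStep19 (invN .d)

theorem inImg_threeStep385 : InImg threeStep385 := (InImg.mul inImg_threeStep19 (inImg_inv .d))

/-- step 386 -/
def threeStep386 : ℕ := mulP threeStep19 (invN .u)

theorem inImg_threeStep386 : InImg threeStep386 := (InImg.mul inImg_threeStep19 (inImg_inv .u))

/-- step 387 -/
def threeStep387 : ℕ := mulP threeStep385 threeStep386

theorem inImg_threeStep387 : InImg threeStep387 := (InImg.mul inImg_threeStep385 inImg_threeStep386)

/-- step 388 -/
def threeStep388 : ℕ := mulP threeStep384 threeStep387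

theorem inImg_threeStep388 : InImg threeStep388 := (InImg.mul inImg_threeStep384 inImg_threeStep387)

/-- step 389 -/
def threeStep389 : ℕ := mulP threeStep380 threeStep388

theorem inImg_threeStep389 : InImg threeStep389 := (InImg.mul inImg_threeStep380 inImg_threeStep388)

/-- step 390 -/
def threeStep390 : ℕ := mulP (genN .e) (invN .s)

theorem inImg_threeStep390 : InImg threeStep390 := (InImg.mul (inImg_gen .e) (inImg_inv .s))

/-- step 391 -/
def threeStep391 : ℕ := mulP (genN .s) threeStep390

theorem inImg_threeStep391 : InImg threeStep391 := (InImg.mul (inImg_gen .s) inImg_threeStep390)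

/-- step 392 -/
def threeStep392 : ℕ := mulP threeStep3 threeStep391

theorem inImg_threeStep392 : InImg threeStep392 := (InImg.mul inImg_threeStep3 inImg_threeStep391)

/-- step 393 -/
def threeStep393 : ℕ := mulP (genN .a) (invN .t)

theorem inImg_threeStep393 : InImg threeStep393 := (InImg.mul (inImg_gen .a) (inImg_inv .t))

/-- step 394 -/
def threeStep394 : ℕ := mulP (genN .t) (genN .s)

theorem inImg_threeStep394 : InImg threeStep394 := (InImg.mul (inImg_gen .t) (inImg_gen .s))

/-- step 395 -/
def threeStep395 : ℕ := mulP threeStep393 threeStep394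

theorem inImg_threeStep395 : InImg threeStep395 := (InImg.mul inImg_threeStep393 inImg_threeStep394)

/-- step 396 -/
def threeStep396 : ℕ := mulP (invN .a) (invN .c)

theorem inImg_threeStep396 : InImg threeStep396 := (InImg.mul (inImg_inv .a) (inImg_inv .c))

/-- step 397 -/
def threeStep397 : ℕ := mulP (genN .e) (invN .c)

theorem inImg_threeStep397 : InImg threeStep397 := (InImg.mul (inImg_gen .e) (inImg_inv .c))

/-- step 398 -/
def threeStep398 : ℕ := mulP (genN .a) threeStep397

theorem inImg_threeStep398 : InImg threeStep398 := (InImg.mul (inImg_gen .a) inImg_threeStep397)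

/-- step 399 -/
def threeStep399 : ℕ := mulP threeStep396 threeStep398

theorem inImg_threeStep399 : InImg threeStep399 := (InImg.mul inImg_threeStep396 inImg_threeStep398)

/-- step 400 -/
def threeStep400 : ℕ := mulP threeStep395 threeStep399

theorem inImg_threeStep400 : InImg threeStep400 := (InImg.mul inImg_threeStep395 inImg_threeStep399)

/-- step 401 -/
def threeStep401 : ℕ := mulP (invN .t) (genN .e)

theorem inImg_threeStep401 : InImg threeStep401 := (InImg.mul (inImg_inv .t) (inImg_gen .e))

/-- step 402 -/
def threeStep402 : ℕ := mulP (invN .s) (invN .d)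

theorem inImg_threeStep402 : InImg threeStep402 := (InImg.mul (inImg_inv .s) (inImg_inv .d))

/-- step 403 -/
def threeStep403 : ℕ := mulP threeStep401 threeStep402

theorem inImg_threeStep403 : InImg threeStep403 := (InImg.mul inImg_threeStep401 inImg_threeStep402)

/-- step 404 -/
def threeStep404 : ℕ := mulP (invN .d) (genN .t)

theorem inImg_threeStep404 : InImg threeStep404 := (InImg.mul (inImg_inv .d) (inImg_gen .t))

/-- step 405 -/
def threeStep405 : ℕ := mulP (invN .a) (genN .d)

theorem inImg_threeStep405 : InImg threeStep405 := (InImg.mul (inImg_inv .a) (inImg_gen .d))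

/-- step 406 -/
def threeStep406 : ℕ := mulP (invN .b) threeStep405

theorem inImg_threeStep406 : InImg threeStep406 := (InImg.mul (inImg_inv .b) inImg_threeStep405)

/-- step 407 -/
def threeStep407 : ℕ := mulP threeStep404 threeStep406

theorem inImg_threeStep407 : InImg threeStep407 := (InImg.mul inImg_threeStep404 inImg_threeStep406)

/-- step 408 -/
def threeStep408 : ℕ := mulP threeStep403 threeStep407

theorem inImg_threeStep408 : InImg threeStep408 := (InImg.mul inImg_threeStep403 inImg_threeStep407)

/-- step 409 -/
def threeStep409 : ℕ := mulP threeStep400 threeStep408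

theorem inImg_threeStep409 : InImg threeStep409 := (InImg.mul inImg_threeStep400 inImg_threeStep408)

/-- step 410 -/
def threeStep410 : ℕ := mulP (genN .a) (genN .s)

theorem inImg_threeStep410 : InImg threeStep410 := (InImg.mul (inImg_gen .a) (inImg_gen .s))

/-- step 411 -/
def threeStep411 : ℕ := mulP (genN .d) (invN .c)

theorem inImg_threeStep411 : InImg threeStep411 := (InImg.mul (inImg_gen .d) (inImg_inv .c))

/-- step 412 -/
def threeStep412 : ℕ := mulP threeStep410 threeStep411

theorem inImg_threeStep412 : InImg threeStep412 := (InImg.mul inImg_threeStep410 inImg_threeStep411)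

/-- step 413 -/
def threeStep413 : ℕ := mulP (invN .t) (invN .d)

theorem inImg_threeStep413 : InImg threeStep413 := (InImg.mul (inImg_inv .t) (inImg_inv .d))

/-- step 414 -/
def threeStep414 : ℕ := mulP (genN .c) (genN .a)

theorem inImg_threeStep414 : InImg threeStep414 := (InImg.mul (inImg_gen .c) (inImg_gen .a))

/-- step 415 -/
def threeStep415 : ℕ := mulP (invN .t) threeStep414

theorem inImg_threeStep415 : InImg threeStep415 := (InImg.mul (inImg_inv .t) inImg_threeStep414)

/-- step 416 -/
def threeStep416 : ℕ := mulP threeStep413 threeStep415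

theorem inImg_threeStep416 : InImg threeStep416 := (InImg.mul inImg_threeStep413 inImg_threeStep415)

/-- step 417 -/
def threeStep417 : ℕ := mulP threeStep412 threeStep416

theorem inImg_threeStep417 : InImg threeStep417 := (InImg.mul inImg_threeStep412 inImg_threeStep416)

/-- step 418 -/
def threeStep418 : ℕ := mulP (genN .t) (genN .a)

theorem inImg_threeStep418 : InImg threeStep418 := (InImg.mul (inImg_gen .t) (inImg_gen .a))

/-- step 419 -/
def threeStep419 : ℕ := mulP threeStep151 threeStep418

theorem inImg_threeStep419 : InImg threeStep419 := (InImg.mul inImg_threeStep151 inImg_threeStep418)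

/-- step 420 -/
def threeStep420 : ℕ := mulP (invN .s) (genN .e)

theorem inImg_threeStep420 : InImg threeStep420 := (InImg.mul (inImg_inv .s) (inImg_gen .e))

/-- step 421 -/
def threeStep421 : ℕ := mulP (invN .s) (invN .c)

theorem inImg_threeStep421 : InImg threeStep421 := (InImg.mul (inImg_inv .s) (inImg_inv .c))

/-- step 422 -/
def threeStep422 : ℕ := mulP (invN .t) threeStep421

theorem inImg_threeStep422 : InImg threeStep422 := (InImg.mul (inImg_inv .t) inImg_threeStep421)

/-- step 423 -/
def threeStep423 : ℕ := mulP threeStep420 threeStep422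

theorem inImg_threeStep423 : InImg threeStep423 := (InImg.mul inImg_threeStep420 inImg_threeStep422)

/-- step 424 -/
def threeStep424 : ℕ := mulP threeStep419 threeStep423

theorem inImg_threeStep424 : InImg threeStep424 := (InImg.mul inImg_threeStep419 inImg_threeStep423)

/-- step 425 -/
def threeStep425 : ℕ := mulP threeStep417 threeStep424

theorem inImg_threeStep425 : InImg threeStep425 := (InImg.mul inImg_threeStep417 inImg_threeStep424)

theorem eq_threeMat426 : Nat.beq threeMat426 (mulP threeStep409 threeStep425) = true := by decide +kernel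

theorem inImg_threeMat426 : InImg threeMat426 :=
  Nat.eq_of_beq_eq_true eq_threeMat426 ▸ (InImg.mul inImg_threeStep409 inImg_threeStep425)

/-- step 427 -/
def threeStep427 : ℕ := mulP threeStep392 threeMat426

theorem inImg_threeStep427 : InImg threeStep427 := (InImg.mul inImg_threeStep392 inImg_threeMat426)

/-- step 428 -/
def threeStep428 : ℕ := mulP (genN .d) threeStep29

theorem inImg_threeStep428 : InImg threeStep428 := (InImg.mul (inImg_gen .d) inImg_threeStep29)

/-- step 429 -/
def threeStep429 : ℕ := mulP (invN .s) threeStep3

theorem inImg_threeStep429 : InImg threeStep429 := (InImg.mul (inImg_inv .s) inImg_threeStep3)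

/-- step 430 -/
def threeStep430 : ℕ := mulP threeStep428 threeStep429

theorem inImg_threeStep430 : InImg threeStep430 := (InImg.mul inImg_threeStep428 inImg_threeStep429)

/-- step 431 -/
def threeStep431 : ℕ := mulP (genN .e) (genN .c)

theorem inImg_threeStep431 : InImg threeStep431 := (InImg.mul (inImg_gen .e) (inImg_gen .c))

/-- step 432 -/
def threeStep432 : ℕ := mulP (genN .s) threeStep431

theorem inImg_threeStep432 : InImg threeStep432 := (InImg.mul (inImg_gen .s) inImg_threeStep431)

/-- step 433 -/
def threeStep433 : ℕ := mulP threeStep115 threeStep432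

theorem inImg_threeStep433 : InImg threeStep433 := (InImg.mul inImg_threeStep115 inImg_threeStep432)

/-- step 434 -/
def threeStep434 : ℕ := mulP threeStep430 threeStep433

theorem inImg_threeStep434 : InImg threeStep434 := (InImg.mul inImg_threeStep430 inImg_threeStep433)

/-- step 435 -/
def threeStep435 : ℕ := mulP (genN .u) (invN .d)

theorem inImg_threeStep435 : InImg threeStep435 := (InImg.mul (inImg_gen .u) (inImg_inv .d))

/-- step 436 -/
def threeStep436 : ℕ := mulP (invN .c) threeStep435

theorem inImg_threeStep436 : InImg threeStep436 := (InImg.mul (inImg_inv .c) inImg_threeStep435)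

/-- step 437 -/
def threeStep437 : ℕ := mulP threeStep175 threeStep436

theorem inImg_threeStep437 : InImg threeStep437 := (InImg.mul inImg_threeStep175 inImg_threeStep436)

/-- step 438 -/
def threeStep438 : ℕ := mulP (genN .c) (invN .t)

theorem inImg_threeStep438 : InImg threeStep438 := (InImg.mul (inImg_gen .c) (inImg_inv .t))

/-- step 439 -/
def threeStep439 : ℕ := mulP (invN .u) threeStep438

theorem inImg_threeStep439 : InImg threeStep439 := (InImg.mul (inImg_inv .u) inImg_threeStep438)

/-- step 440 -/
def threeStep440 : ℕ := mulP threeStep405 threeStep439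

theorem inImg_threeStep440 : InImg threeStep440 := (InImg.mul inImg_threeStep405 inImg_threeStep439)

/-- step 441 -/
def threeStep441 : ℕ := mulP threeStep437 threeStep440

theorem inImg_threeStep441 : InImg threeStep441 := (InImg.mul inImg_threeStep437 inImg_threeStep440)

/-- step 442 -/
def threeStep442 : ℕ := mulP (invN .s) (invN .b)

theorem inImg_threeStep442 : InImg threeStep442 := (InImg.mul (inImg_inv .s) (inImg_inv .b))

/-- step 443 -/
def threeStep443 : ℕ := mulP (genN .t) (invN .c)

theorem inImg_threeStep443 : InImg threeStep443 := (InImg.mul (inImg_gen .t) (inImg_inv .c))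

/-- step 444 -/
def threeStep444 : ℕ := mulP (genN .s) threeStep443

theorem inImg_threeStep444 : InImg threeStep444 := (InImg.mul (inImg_gen .s) inImg_threeStep443)

/-- step 445 -/
def threeStep445 : ℕ := mulP threeStep442 threeStep444

theorem inImg_threeStep445 : InImg threeStep445 := (InImg.mul inImg_threeStep442 inImg_threeStep444)

/-- step 446 -/
def threeStep446 : ℕ := mulP (genN .u) (genN .e)

theorem inImg_threeStep446 : InImg threeStep446 := (InImg.mul (inImg_gen .u) (inImg_gen .e))

/-- step 447 -/
def threeStep447 : ℕ := mulP (genN .t) (invN .s)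

theorem inImg_threeStep447 : InImg threeStep447 := (InImg.mul (inImg_gen .t) (inImg_inv .s))

/-- step 448 -/
def threeStep448 : ℕ := mulP (genN .d) threeStep447

theorem inImg_threeStep448 : InImg threeStep448 := (InImg.mul (inImg_gen .d) inImg_threeStep447)

/-- step 449 -/
def threeStep449 : ℕ := mulP threeStep446 threeStep448

theorem inImg_threeStep449 : InImg threeStep449 := (InImg.mul inImg_threeStep446 inImg_threeStep448)

/-- step 450 -/
def threeStep450 : ℕ := mulP threeStep445 threeStep449

theorem inImg_threeStep450 : InImg threeStep450 := (InImg.mul inImg_threeStep445 inImg_threeStep449)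

/-- step 451 -/
def threeStep451 : ℕ := mulP threeStep441 threeStep450

theorem inImg_threeStep451 : InImg threeStep451 := (InImg.mul inImg_threeStep441 inImg_threeStep450)

/-- step 452 -/
def threeStep452 : ℕ := mulP (genN .e) (genN .u)

theorem inImg_threeStep452 : InImg threeStep452 := (InImg.mul (inImg_gen .e) (inImg_gen .u))

/-- step 453 -/
def threeStep453 : ℕ := mulP (genN .d) threeStep34

theorem inImg_threeStep453 : InImg threeStep453 := (InImg.mul (inImg_gen .d) inImg_threeStep34)

/-- step 454 -/
def threeStep454 : ℕ := mulP threeStep452 threeStep453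

theorem inImg_threeStep454 : InImg threeStep454 := (InImg.mul inImg_threeStep452 inImg_threeStep453)

/-- step 455 -/
def threeStep455 : ℕ := mulP (genN .c) (invN .u)

theorem inImg_threeStep455 : InImg threeStep455 := (InImg.mul (inImg_gen .c) (inImg_inv .u))

/-- step 456 -/
def threeStep456 : ℕ := mulP (genN .a) threeStep455

theorem inImg_threeStep456 : InImg threeStep456 := (InImg.mul (inImg_gen .a) inImg_threeStep455)

/-- step 457 -/
def threeStep457 : ℕ := mulP threeStep44 threeStep456

theorem inImg_threeStep457 : InImg threeStep457 := (InImg.mul inImg_threeStep44 inImg_threeStep456)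

/-- step 458 -/
def threeStep458 : ℕ := mulP threeStep454 threeStep457

theorem inImg_threeStep458 : InImg threeStep458 := (InImg.mul inImg_threeStep454 inImg_threeStep457)

/-- step 459 -/
def threeStep459 : ℕ := mulP (genN .d) threeStep44

theorem inImg_threeStep459 : InImg threeStep459 := (InImg.mul (inImg_gen .d) inImg_threeStep44)

/-- step 460 -/
def threeStep460 : ℕ := mulP threeStep37 threeStep459

theorem inImg_threeStep460 : InImg threeStep460 := (InImg.mul inImg_threeStep37 inImg_threeStep459)

/-- step 461 -/
def threeStep461 : ℕ := mulP (genN .c) threeStep0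

theorem inImg_threeStep461 : InImg threeStep461 := (InImg.mul (inImg_gen .c) inImg_threeStep0)

/-- step 462 -/
def threeStep462 : ℕ := mulP threeStep46 threeStep461

theorem inImg_threeStep462 : InImg threeStep462 := (InImg.mul inImg_threeStep46 inImg_threeStep461)

/-- step 463 -/
def threeStep463 : ℕ := mulP threeStep460 threeStep462

theorem inImg_threeStep463 : InImg threeStep463 := (InImg.mul inImg_threeStep460 inImg_threeStep462)

/-- step 464 -/
def threeStep464 : ℕ := mulP threeStep458 threeStep463

theorem inImg_threeStep464 : InImg threeStep464 := (InImg.mul inImg_threeStep458 inImg_threeStep463)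

theorem eq_threeMat465 : Nat.beq threeMat465 (mulP threeStep451 threeStep464) = true := by decide +kernel

theorem inImg_threeMat465 : InImg threeMat465 :=
  Nat.eq_of_beq_eq_true eq_threeMat465 ▸ (InImg.mul inImg_threeStep451 inImg_threeStep464)

/-- step 466 -/
def threeStep466 : ℕ := mulP (genN .c) threeStep12

theorem inImg_threeStep466 : InImg threeStep466 := (InImg.mul (inImg_gen .c) inImg_threeStep12)

/-- step 467 -/
def threeStep467 : ℕ := mulP threeStep38 threeStep466

theorem inImg_threeStep467 : InImg threeStep467 := (InImg.mul inImg_threeStep38 inImg_threeStep466)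

/-- step 468 -/
def threeStep468 : ℕ := mulP (genN .s) (invN .d)

theorem inImg_threeStep468 : InImg threeStep468 := (InImg.mul (inImg_gen .s) (inImg_inv .d))

/-- step 469 -/
def threeStep469 : ℕ := mulP (invN .s) threeStep46

theorem inImg_threeStep469 : InImg threeStep469 := (InImg.mul (inImg_inv .s) inImg_threeStep46)

/-- step 470 -/
def threeStep470 : ℕ := mulP threeStep468 threeStep469

theorem inImg_threeStep470 : InImg threeStep470 := (InImg.mul inImg_threeStep468 inImg_threeStep469)

/-- step 471 -/
def threeStep471 : ℕ := mulP threeStep467 threeStep470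

theorem inImg_threeStep471 : InImg threeStep471 := (InImg.mul inImg_threeStep467 inImg_threeStep470)

/-- step 472 -/
def threeStep472 : ℕ := mulP threeStep43 threeStep137

theorem inImg_threeStep472 : InImg threeStep472 := (InImg.mul inImg_threeStep43 inImg_threeStep137)

/-- step 473 -/
def threeStep473 : ℕ := mulP (invN .e) threeStep37

theorem inImg_threeStep473 : InImg threeStep473 := (InImg.mul (inImg_inv .e) inImg_threeStep37)

/-- step 474 -/
def threeStep474 : ℕ := mulP threeStep160 threeStep473

theorem inImg_threeStep474 : InImg threeStep474 := (InImg.mul inImg_threeStep160 inImg_threeStep473)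

/-- step 475 -/
def threeStep475 : ℕ := mulP threeStep472 threeStep474

theorem inImg_threeStep475 : InImg threeStep475 := (InImg.mul inImg_threeStep472 inImg_threeStep474)

/-- step 476 -/
def threeStep476 : ℕ := mulP threeStep471 threeStep475

theorem inImg_threeStep476 : InImg threeStep476 := (InImg.mul inImg_threeStep471 inImg_threeStep475)

/-- step 477 -/
def threeStep477 : ℕ := mulP (genN .s) threeStep3

theorem inImg_threeStep477 : InImg threeStep477 := (InImg.mul (inImg_gen .s) inImg_threeStep3)

/-- step 478 -/
def threeStep478 : ℕ := mulP threeStep0 threeStep477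

theorem inImg_threeStep478 : InImg threeStep478 := (InImg.mul inImg_threeStep0 inImg_threeStep477)

/-- step 479 -/
def threeStep479 : ℕ := mulP (invN .u) (genN .c)

theorem inImg_threeStep479 : InImg threeStep479 := (InImg.mul (inImg_inv .u) (inImg_gen .c))

/-- step 480 -/
def threeStep480 : ℕ := mulP (invN .s) (genN .b)

theorem inImg_threeStep480 : InImg threeStep480 := (InImg.mul (inImg_inv .s) (inImg_gen .b))

/-- step 481 -/
def threeStep481 : ℕ := mulP (invN .t) threeStep480

theorem inImg_threeStep481 : InImg threeStep481 := (InImg.mul (inImg_inv .t) inImg_threeStep480)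

/-- step 482 -/
def threeStep482 : ℕ := mulP threeStep479 threeStep481

theorem inImg_threeStep482 : InImg threeStep482 := (InImg.mul inImg_threeStep479 inImg_threeStep481)

/-- step 483 -/
def threeStep483 : ℕ := mulP threeStep478 threeStep482

theorem inImg_threeStep483 : InImg threeStep483 := (InImg.mul inImg_threeStep478 inImg_threeStep482)

/-- step 484 -/
def threeStep484 : ℕ := mulP (genN .d) (invN .u)

theorem inImg_threeStep484 : InImg threeStep484 := (InImg.mul (inImg_gen .d) (inImg_inv .u))

/-- step 485 -/
def threeStep485 : ℕ := mulP (genN .a) threeStep484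

theorem inImg_threeStep485 : InImg threeStep485 := (InImg.mul (inImg_gen .a) inImg_threeStep484)

/-- step 486 -/
def threeStep486 : ℕ := mulP (invN .t) (invN .s)

theorem inImg_threeStep486 : InImg threeStep486 := (InImg.mul (inImg_inv .t) (inImg_inv .s))

/-- step 487 -/
def threeStep487 : ℕ := mulP (genN .c) threeStep486

theorem inImg_threeStep487 : InImg threeStep487 := (InImg.mul (inImg_gen .c) inImg_threeStep486)

/-- step 488 -/
def threeStep488 : ℕ := mulP threeStep485 threeStep487

theorem inImg_threeStep488 : InImg threeStep488 := (InImg.mul inImg_threeStep485 inImg_threeStep487)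

/-- step 489 -/
def threeStep489 : ℕ := mulP threeStep437 threeStep488

theorem inImg_threeStep489 : InImg threeStep489 := (InImg.mul inImg_threeStep437 inImg_threeStep488)

/-- step 490 -/
def threeStep490 : ℕ := mulP threeStep483 threeStep489

theorem inImg_threeStep490 : InImg threeStep490 := (InImg.mul inImg_threeStep483 inImg_threeStep489)

theorem eq_threeMat491 : Nat.beq threeMat491 (mulP threeStep476 threeStep490) = true := by decide +kernel

theorem inImg_threeMat491 : InImg threeMat491 :=
  Nat.eq_of_beq_eq_true eq_threeMat491 ▸ (InImg.mul inImg_threeStep476 inImg_threeStep490)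

/-- step 492 -/
def threeStep492 : ℕ := mulP threeMat465 threeMat491

theorem inImg_threeStep492 : InImg threeStep492 := (InImg.mul inImg_threeMat465 inImg_threeMat491)

/-- step 493 -/
def threeStep493 : ℕ := mulP (invN .d) (genN .e)

theorem inImg_threeStep493 : InImg threeStep493 := (InImg.mul (inImg_inv .d) (inImg_gen .e))

/-- step 494 -/
def threeStep494 : ℕ := mulP (genN .u) threeStep493

theorem inImg_threeStep494 : InImg threeStep494 := (InImg.mul (inImg_gen .u) inImg_threeStep493)

/-- step 495 -/
def threeStep495 : ℕ := mulP (genN .t) threeStep29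

theorem inImg_threeStep495 : InImg threeStep495 := (InImg.mul (inImg_gen .t) inImg_threeStep29)

/-- step 496 -/
def threeStep496 : ℕ := mulP threeStep494 threeStep495

theorem inImg_threeStep496 : InImg threeStep496 := (InImg.mul inImg_threeStep494 inImg_threeStep495)

/-- step 497 -/
def threeStep497 : ℕ := mulP threeStep445 threeStep496

theorem inImg_threeStep497 : InImg threeStep497 := (InImg.mul inImg_threeStep445 inImg_threeStep496)

/-- step 498 -/
def threeStep498 : ℕ := mulP threeStep441 threeStep497

theorem inImg_threeStep498 : InImg threeStep498 := (InImg.mul inImg_threeStep441 inImg_threeStep497)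

/-- step 499 -/
def threeStep499 : ℕ := mulP (genN .s) (genN .a)

theorem inImg_threeStep499 : InImg threeStep499 := (InImg.mul (inImg_gen .s) (inImg_gen .a))

/-- step 500 -/
def threeStep500 : ℕ := mulP (genN .e) threeStep499

theorem inImg_threeStep500 : InImg threeStep500 := (InImg.mul (inImg_gen .e) inImg_threeStep499)

/-- step 501 -/
def threeStep501 : ℕ := mulP threeStep150 threeStep500

theorem inImg_threeStep501 : InImg threeStep501 := (InImg.mul inImg_threeStep150 inImg_threeStep500)

/-- step 502 -/
def threeStep502 : ℕ := mulP (genN .d) threeStep46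

theorem inImg_threeStep502 : InImg threeStep502 := (InImg.mul (inImg_gen .d) inImg_threeStep46)

/-- step 503 -/
def threeStep503 : ℕ := mulP threeStep121 threeStep502

theorem inImg_threeStep503 : InImg threeStep503 := (InImg.mul inImg_threeStep121 inImg_threeStep502)

/-- step 504 -/
def threeStep504 : ℕ := mulP threeStep501 threeStep503

theorem inImg_threeStep504 : InImg threeStep504 := (InImg.mul inImg_threeStep501 inImg_threeStep503)

/-- step 505 -/
def threeStep505 : ℕ := mulP (genN .e) threeStep38

theorem inImg_threeStep505 : InImg threeStep505 := (InImg.mul (inImg_gen .e) inImg_threeStep38)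

/-- step 506 -/
def threeStep506 : ℕ := mulP threeStep43 threeStep505

theorem inImg_threeStep506 : InImg threeStep506 := (InImg.mul inImg_threeStep43 inImg_threeStep505)

/-- step 507 -/
def threeStep507 : ℕ := mulP threeStep466 threeStep469

theorem inImg_threeStep507 : InImg threeStep507 := (InImg.mul inImg_threeStep466 inImg_threeStep469)

/-- step 508 -/
def threeStep508 : ℕ := mulP threeStep506 threeStep507

theorem inImg_threeStep508 : InImg threeStep508 := (InImg.mul inImg_threeStep506 inImg_threeStep507)

/-- step 509 -/
def threeStep509 : ℕ := mulP threeStep504 threeStep508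

theorem inImg_threeStep509 : InImg threeStep509 := (InImg.mul inImg_threeStep504 inImg_threeStep508)

theorem eq_threeMat510 : Nat.beq threeMat510 (mulP threeStep498 threeStep509) = true := by decide +kernel

theorem inImg_threeMat510 : InImg threeMat510 :=
  Nat.eq_of_beq_eq_true eq_threeMat510 ▸ (InImg.mul inImg_threeStep498 inImg_threeStep509)

/-- step 511 -/
def threeStep511 : ℕ := mulP (invN .d) (invN .s)

theorem inImg_threeStep511 : InImg threeStep511 := (InImg.mul (inImg_inv .d) (inImg_inv .s))

/-- step 512 -/
def threeStep512 : ℕ := mulP (genN .s) threeStep511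

theorem inImg_threeStep512 : InImg threeStep512 := (InImg.mul (inImg_gen .s) inImg_threeStep511)

/-- step 513 -/
def threeStep513 : ℕ := mulP threeStep466 threeStep512

theorem inImg_threeStep513 : InImg threeStep513 := (InImg.mul inImg_threeStep466 inImg_threeStep512)

/-- step 514 -/
def threeStep514 : ℕ := mulP threeStep506 threeStep513

theorem inImg_threeStep514 : InImg threeStep514 := (InImg.mul inImg_threeStep506 inImg_threeStep513)

/-- step 515 -/
def threeStep515 : ℕ := mulP (genN .s) threeStep186

theorem inImg_threeStep515 : InImg threeStep515 := (InImg.mul (inImg_gen .s) inImg_threeStep186)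

/-- step 516 -/
def threeStep516 : ℕ := mulP threeStep515 threeStep469

theorem inImg_threeStep516 : InImg threeStep516 := (InImg.mul inImg_threeStep515 inImg_threeStep469)

/-- step 517 -/
def threeStep517 : ℕ := mulP threeStep462 threeStep516

theorem inImg_threeStep517 : InImg threeStep517 := (InImg.mul inImg_threeStep462 inImg_threeStep516)

/-- step 518 -/
def threeStep518 : ℕ := mulP threeStep514 threeStep517

theorem inImg_threeStep518 : InImg threeStep518 := (InImg.mul inImg_threeStep514 inImg_threeStep517)

/-- step 519 -/
def threeStep519 : ℕ := mulP (genN .d) threeStep479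

theorem inImg_threeStep519 : InImg threeStep519 := (InImg.mul (inImg_gen .d) inImg_threeStep479)

/-- step 520 -/
def threeStep520 : ℕ := mulP threeStep519 threeStep481

theorem inImg_threeStep520 : InImg threeStep520 := (InImg.mul inImg_threeStep519 inImg_threeStep481)

/-- step 521 -/
def threeStep521 : ℕ := mulP threeStep162 threeStep520

theorem inImg_threeStep521 : InImg threeStep521 := (InImg.mul inImg_threeStep162 inImg_threeStep520)

/-- step 522 -/
def threeStep522 : ℕ := mulP threeStep521 threeStep489

theorem inImg_threeStep522 : InImg threeStep522 := (InImg.mul inImg_threeStep521 inImg_threeStep489)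

theorem eq_threeMat523 : Nat.beq threeMat523 (mulP threeStep518 threeStep522) = true := by decide +kernel

theorem inImg_threeMat523 : InImg threeMat523 :=
  Nat.eq_of_beq_eq_true eq_threeMat523 ▸ (InImg.mul inImg_threeStep518 inImg_threeStep522)

/-- step 524 -/
def threeStep524 : ℕ := mulP threeMat510 threeMat523

theorem inImg_threeStep524 : InImg threeStep524 := (InImg.mul inImg_threeMat510 inImg_threeMat523)

/-- step 525 -/
def threeStep525 : ℕ := mulP threeStep492 threeStep524

theorem inImg_threeStep525 : InImg threeStep525 := (InImg.mul inImg_threeStep492 inImg_threeStep524)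

/-- step 526 -/
def threeStep526 : ℕ := mulP threeStep434 threeStep525

theorem inImg_threeStep526 : InImg threeStep526 := (InImg.mul inImg_threeStep434 inImg_threeStep525)

/-- step 527 -/
def threeStep527 : ℕ := mulP threeStep427 threeStep526

theorem inImg_threeStep527 : InImg threeStep527 := (InImg.mul inImg_threeStep427 inImg_threeStep526)

/-- step 528 -/
def threeStep528 : ℕ := mulP threeStep527 threeStep527

theorem inImg_threeStep528 : InImg threeStep528 := (InImg.mul inImg_threeStep527 inImg_threeStep527)

/-- step 529 -/
def threeStep529 : ℕ := mulP threeStep528 threeStep528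

theorem inImg_threeStep529 : InImg threeStep529 := (InImg.mul inImg_threeStep528 inImg_threeStep528)

/-- step 530 -/
def threeStep530 : ℕ := mulP threeStep529 threeStep529

theorem inImg_threeStep530 : InImg threeStep530 := (InImg.mul inImg_threeStep529 inImg_threeStep529)

/-- step 531 -/
def threeStep531 : ℕ := mulP threeStep527 threeStep530

theorem inImg_threeStep531 : InImg threeStep531 := (InImg.mul inImg_threeStep527 inImg_threeStep530)

/-- step 532 -/
def threeStep532 : ℕ := mulP threeStep213 (genN .a)

theorem inImg_threeStep532 : InImg threeStep532 := (InImg.mul inImg_threeStep213 (inImg_gen .a))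

/-- step 533 -/
def threeStep533 : ℕ := mulP threeStep532 threeStep216

theorem inImg_threeStep533 : InImg threeStep533 := (InImg.mul inImg_threeStep532 inImg_threeStep216)

theorem eq_threeMat534 : Nat.beq threeMat534 (mulP threeStep531 threeStep533) = true := by decide +kernel

theorem inImg_threeMat534 : InImg threeMat534 :=
  Nat.eq_of_beq_eq_true eq_threeMat534 ▸ (InImg.mul inImg_threeStep531 inImg_threeStep533)

/-- step 535 -/
def threeStep535 : ℕ := mulP threeStep216 threeMat534

theorem inImg_threeStep535 : InImg threeStep535 := (InImg.mul inImg_threeStep216 inImg_threeMat534)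

theorem eq_threeMat536 : Nat.beq threeMat536 (mulP threeStep389 threeStep535) = true := by decide +kernel

theorem inImg_threeMat536 : InImg threeMat536 :=
  Nat.eq_of_beq_eq_true eq_threeMat536 ▸ (InImg.mul inImg_threeStep389 inImg_threeStep535)

/-- step 537 -/
def threeStep537 : ℕ := mulP threeStep374 threeMat536

theorem inImg_threeStep537 : InImg threeStep537 := (InImg.mul inImg_threeStep374 inImg_threeMat536)

/-- step 538 -/
def threeStep538 : ℕ := mulP (invN .s) (genN .t)

theorem inImg_threeStep538 : InImg threeStep538 := (InImg.mul (inImg_inv .s) (inImg_gen .t))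

/-- step 539 -/
def threeStep539 : ℕ := mulP threeStep16 threeStep538

theorem inImg_threeStep539 : InImg threeStep539 := (InImg.mul inImg_threeStep16 inImg_threeStep538)

/-- step 540 -/
def threeStep540 : ℕ := mulP (invN .t) (genN .s)

theorem inImg_threeStep540 : InImg threeStep540 := (InImg.mul (inImg_inv .t) (inImg_gen .s))

/-- step 541 -/
def threeStep541 : ℕ := mulP threeStep540 threeStep4

theorem inImg_threeStep541 : InImg threeStep541 := (InImg.mul inImg_threeStep540 inImg_threeStep4)

/-- step 542 -/
def threeStep542 : ℕ := mulP (invN .a) threeStep541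

theorem inImg_threeStep542 : InImg threeStep542 := (InImg.mul (inImg_inv .a) inImg_threeStep541)

/-- step 543 -/
def threeStep543 : ℕ := mulP threeStep539 threeStep542

theorem inImg_threeStep543 : InImg threeStep543 := (InImg.mul inImg_threeStep539 inImg_threeStep542)

/-- step 544 -/
def threeStep544 : ℕ := mulP (invN .c) (invN .a)

theorem inImg_threeStep544 : InImg threeStep544 := (InImg.mul (inImg_inv .c) (inImg_inv .a))

/-- step 545 -/
def threeStep545 : ℕ := mulP threeStep544 (invN .s)

theorem inImg_threeStep545 : InImg threeStep545 := (InImg.mul inImg_threeStep544 (inImg_inv .s))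

/-- step 546 -/
def threeStep546 : ℕ := mulP (invN .t) (invN .t)

theorem inImg_threeStep546 : InImg threeStep546 := (InImg.mul (inImg_inv .t) (inImg_inv .t))

/-- step 547 -/
def threeStep547 : ℕ := mulP threeStep545 threeStep546

theorem inImg_threeStep547 : InImg threeStep547 := (InImg.mul inImg_threeStep545 inImg_threeStep546)

/-- step 548 -/
def threeStep548 : ℕ := mulP (invN .c) (genN .b)

theorem inImg_threeStep548 : InImg threeStep548 := (InImg.mul (inImg_inv .c) (inImg_gen .b))

/-- step 549 -/
def threeStep549 : ℕ := mulP (invN .t) (genN .t)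

theorem inImg_threeStep549 : InImg threeStep549 := (InImg.mul (inImg_inv .t) (inImg_gen .t))

/-- step 550 -/
def threeStep550 : ℕ := mulP threeStep548 threeStep549

theorem inImg_threeStep550 : InImg threeStep550 := (InImg.mul inImg_threeStep548 inImg_threeStep549)

/-- step 551 -/
def threeStep551 : ℕ := mulP threeStep547 threeStep550

theorem inImg_threeStep551 : InImg threeStep551 := (InImg.mul inImg_threeStep547 inImg_threeStep550)

/-- step 552 -/
def threeStep552 : ℕ := mulP (genN .b) (invN .c)

theorem inImg_threeStep552 : InImg threeStep552 := (InImg.mul (inImg_gen .b) (inImg_inv .c))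

/-- step 553 -/
def threeStep553 : ℕ := mulP threeStep552 (genN .s)

theorem inImg_threeStep553 : InImg threeStep553 := (InImg.mul inImg_threeStep552 (inImg_gen .s))

/-- step 554 -/
def threeStep554 : ℕ := mulP (genN .t) (invN .d)

theorem inImg_threeStep554 : InImg threeStep554 := (InImg.mul (inImg_gen .t) (inImg_inv .d))

/-- step 555 -/
def threeStep555 : ℕ := mulP threeStep553 threeStep554

theorem inImg_threeStep555 : InImg threeStep555 := (InImg.mul inImg_threeStep553 inImg_threeStep554)

/-- step 556 -/
def threeStep556 : ℕ := mulP (invN .s) (genN .d)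

theorem inImg_threeStep556 : InImg threeStep556 := (InImg.mul (inImg_inv .s) (inImg_gen .d))

/-- step 557 -/
def threeStep557 : ℕ := mulP (genN .t) (genN .a)

theorem inImg_threeStep557 : InImg threeStep557 := (InImg.mul (inImg_gen .t) (inImg_gen .a))

/-- step 558 -/
def threeStep558 : ℕ := mulP threeStep556 threeStep557

theorem inImg_threeStep558 : InImg threeStep558 := (InImg.mul inImg_threeStep556 inImg_threeStep557)

/-- step 559 -/
def threeStep559 : ℕ := mulP threeStep555 threeStep558

theorem inImg_threeStep559 : InImg threeStep559 := (InImg.mul inImg_threeStep555 inImg_threeStep558)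

/-- step 560 -/
def threeStep560 : ℕ := mulP threeStep551 threeStep559

theorem inImg_threeStep560 : InImg threeStep560 := (InImg.mul inImg_threeStep551 inImg_threeStep559)

/-- step 561 -/
def threeStep561 : ℕ := mulP (invN .c) (invN .d)

theorem inImg_threeStep561 : InImg threeStep561 := (InImg.mul (inImg_inv .c) (inImg_inv .d))

/-- step 562 -/
def threeStep562 : ℕ := mulP threeStep561 (genN .d)

theorem inImg_threeStep562 : InImg threeStep562 := (InImg.mul inImg_threeStep561 (inImg_gen .d))

/-- step 563 -/
def threeStep563 : ℕ := mulP (genN .c) (genN .c)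

theorem inImg_threeStep563 : InImg threeStep563 := (InImg.mul (inImg_gen .c) (inImg_gen .c))

/-- step 564 -/
def threeStep564 : ℕ := mulP threeStep562 threeStep563

theorem inImg_threeStep564 : InImg threeStep564 := (InImg.mul inImg_threeStep562 inImg_threeStep563)

/-- step 565 -/
def threeStep565 : ℕ := mulP (invN .a) (invN .e)

theorem inImg_threeStep565 : InImg threeStep565 := (InImg.mul (inImg_inv .a) (inImg_inv .e))

/-- step 566 -/
def threeStep566 : ℕ := mulP threeStep565 threeStep557

theorem inImg_threeStep566 : InImg threeStep566 := (InImg.mul inImg_threeStep565 inImg_threeStep557)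

/-- step 567 -/
def threeStep567 : ℕ := mulP threeStep564 threeStep566

theorem inImg_threeStep567 : InImg threeStep567 := (InImg.mul inImg_threeStep564 inImg_threeStep566)

/-- step 568 -/
def threeStep568 : ℕ := mulP (genN .a) (invN .a)

theorem inImg_threeStep568 : InImg threeStep568 := (InImg.mul (inImg_gen .a) (inImg_inv .a))

/-- step 569 -/
def threeStep569 : ℕ := mulP threeStep568 (genN .d)

theorem inImg_threeStep569 : InImg threeStep569 := (InImg.mul inImg_threeStep568 (inImg_gen .d))

/-- step 570 -/
def threeStep570 : ℕ := mulP (invN .e) (invN .t)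

theorem inImg_threeStep570 : InImg threeStep570 := (InImg.mul (inImg_inv .e) (inImg_inv .t))

/-- step 571 -/
def threeStep571 : ℕ := mulP threeStep569 threeStep570

theorem inImg_threeStep571 : InImg threeStep571 := (InImg.mul inImg_threeStep569 inImg_threeStep570)

/-- step 572 -/
def threeStep572 : ℕ := mulP (genN .e) (invN .b)

theorem inImg_threeStep572 : InImg threeStep572 := (InImg.mul (inImg_gen .e) (inImg_inv .b))

/-- step 573 -/
def threeStep573 : ℕ := mulP (genN .a) (invN .b)

theorem inImg_threeStep573 : InImg threeStep573 := (InImg.mul (inImg_gen .a) (inImg_inv .b))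

/-- step 574 -/
def threeStep574 : ℕ := mulP threeStep572 threeStep573

theorem inImg_threeStep574 : InImg threeStep574 := (InImg.mul inImg_threeStep572 inImg_threeStep573)

/-- step 575 -/
def threeStep575 : ℕ := mulP threeStep571 threeStep574

theorem inImg_threeStep575 : InImg threeStep575 := (InImg.mul inImg_threeStep571 inImg_threeStep574)

/-- step 576 -/
def threeStep576 : ℕ := mulP threeStep567 threeStep575

theorem inImg_threeStep576 : InImg threeStep576 := (InImg.mul inImg_threeStep567 inImg_threeStep575)

theorem eq_threeMat577 : Nat.beq threeMat577 (mulP threeStep560 threeStep576) = true := by decide +kernel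

theorem inImg_threeMat577 : InImg threeMat577 :=
  Nat.eq_of_beq_eq_true eq_threeMat577 ▸ (InImg.mul inImg_threeStep560 inImg_threeStep576)

/-- step 578 -/
def threeStep578 : ℕ := mulP (genN .c) (genN .b)

theorem inImg_threeStep578 : InImg threeStep578 := (InImg.mul (inImg_gen .c) (inImg_gen .b))

/-- step 579 -/
def threeStep579 : ℕ := mulP threeStep578 (genN .a)

theorem inImg_threeStep579 : InImg threeStep579 := (InImg.mul inImg_threeStep578 (inImg_gen .a))

/-- step 580 -/
def threeStep580 : ℕ := mulP threeStep579 threeStep565

theorem inImg_threeStep580 : InImg threeStep580 := (InImg.mul inImg_threeStep579 inImg_threeStep565)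

/-- step 581 -/
def threeStep581 : ℕ := mulP (invN .e) (invN .e)

theorem inImg_threeStep581 : InImg threeStep581 := (InImg.mul (inImg_inv .e) (inImg_inv .e))

/-- step 582 -/
def threeStep582 : ℕ := mulP (invN .s) (genN .b)

theorem inImg_threeStep582 : InImg threeStep582 := (InImg.mul (inImg_inv .s) (inImg_gen .b))

/-- step 583 -/
def threeStep583 : ℕ := mulP threeStep581 threeStep582

theorem inImg_threeStep583 : InImg threeStep583 := (InImg.mul inImg_threeStep581 inImg_threeStep582)

/-- step 584 -/
def threeStep584 : ℕ := mulP threeStep580 threeStep583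

theorem inImg_threeStep584 : InImg threeStep584 := (InImg.mul inImg_threeStep580 inImg_threeStep583)

/-- step 585 -/
def threeStep585 : ℕ := mulP (invN .t) (genN .e)

theorem inImg_threeStep585 : InImg threeStep585 := (InImg.mul (inImg_inv .t) (inImg_gen .e))

/-- step 586 -/
def threeStep586 : ℕ := mulP threeStep585 (genN .e)

theorem inImg_threeStep586 : InImg threeStep586 := (InImg.mul inImg_threeStep585 (inImg_gen .e))

/-- step 587 -/
def threeStep587 : ℕ := mulP (invN .a) (genN .t)

theorem inImg_threeStep587 : InImg threeStep587 := (InImg.mul (inImg_inv .a) (inImg_gen .t))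

/-- step 588 -/
def threeStep588 : ℕ := mulP threeStep586 threeStep587

theorem inImg_threeStep588 : InImg threeStep588 := (InImg.mul inImg_threeStep586 inImg_threeStep587)

/-- step 589 -/
def threeStep589 : ℕ := mulP threeStep538 threeStep359

theorem inImg_threeStep589 : InImg threeStep589 := (InImg.mul inImg_threeStep538 inImg_threeStep359)

/-- step 590 -/
def threeStep590 : ℕ := mulP threeStep588 threeStep589

theorem inImg_threeStep590 : InImg threeStep590 := (InImg.mul inImg_threeStep588 inImg_threeStep589)

/-- step 591 -/
def threeStep591 : ℕ := mulP threeStep584 threeStep590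

theorem inImg_threeStep591 : InImg threeStep591 := (InImg.mul inImg_threeStep584 inImg_threeStep590)

/-- step 592 -/
def threeStep592 : ℕ := mulP threeStep98 (invN .e)

theorem inImg_threeStep592 : InImg threeStep592 := (InImg.mul inImg_threeStep98 (inImg_inv .e))

/-- step 593 -/
def threeStep593 : ℕ := mulP (invN .t) (genN .a)

theorem inImg_threeStep593 : InImg threeStep593 := (InImg.mul (inImg_inv .t) (inImg_gen .a))

/-- step 594 -/
def threeStep594 : ℕ := mulP threeStep592 threeStep593

theorem inImg_threeStep594 : InImg threeStep594 := (InImg.mul inImg_threeStep592 inImg_threeStep593)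

/-- step 595 -/
def threeStep595 : ℕ := mulP (genN .s) (invN .b)

theorem inImg_threeStep595 : InImg threeStep595 := (InImg.mul (inImg_gen .s) (inImg_inv .b))

/-- step 596 -/
def threeStep596 : ℕ := mulP (genN .s) (genN .b)

theorem inImg_threeStep596 : InImg threeStep596 := (InImg.mul (inImg_gen .s) (inImg_gen .b))

/-- step 597 -/
def threeStep597 : ℕ := mulP threeStep595 threeStep596

theorem inImg_threeStep597 : InImg threeStep597 := (InImg.mul inImg_threeStep595 inImg_threeStep596)

/-- step 598 -/
def threeStep598 : ℕ := mulP threeStep594 threeStep597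

theorem inImg_threeStep598 : InImg threeStep598 := (InImg.mul inImg_threeStep594 inImg_threeStep597)

/-- step 599 -/
def threeStep599 : ℕ := mulP (invN .s) (invN .s)

theorem inImg_threeStep599 : InImg threeStep599 := (InImg.mul (inImg_inv .s) (inImg_inv .s))

/-- step 600 -/
def threeStep600 : ℕ := mulP threeStep599 (genN .c)

theorem inImg_threeStep600 : InImg threeStep600 := (InImg.mul inImg_threeStep599 (inImg_gen .c))

/-- step 601 -/
def threeStep601 : ℕ := mulP threeStep600 threeStep359

theorem inImg_threeStep601 : InImg threeStep601 := (InImg.mul inImg_threeStep600 inImg_threeStep359)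

/-- step 602 -/
def threeStep602 : ℕ := mulP (genN .a) (genN .a)

theorem inImg_threeStep602 : InImg threeStep602 := (InImg.mul (inImg_gen .a) (inImg_gen .a))

/-- step 603 -/
def threeStep603 : ℕ := mulP threeStep86 threeStep602

theorem inImg_threeStep603 : InImg threeStep603 := (InImg.mul inImg_threeStep86 inImg_threeStep602)

/-- step 604 -/
def threeStep604 : ℕ := mulP threeStep601 threeStep603

theorem inImg_threeStep604 : InImg threeStep604 := (InImg.mul inImg_threeStep601 inImg_threeStep603)

/-- step 605 -/
def threeStep605 : ℕ := mulP threeStep598 threeStep604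

theorem inImg_threeStep605 : InImg threeStep605 := (InImg.mul inImg_threeStep598 inImg_threeStep604)

theorem eq_threeMat606 : Nat.beq threeMat606 (mulP threeStep591 threeStep605) = true := by decide +kernel

theorem inImg_threeMat606 : InImg threeMat606 :=
  Nat.eq_of_beq_eq_true eq_threeMat606 ▸ (InImg.mul inImg_threeStep591 inImg_threeStep605)

/-- step 607 -/
def threeStep607 : ℕ := mulP threeMat577 threeMat606

theorem inImg_threeStep607 : InImg threeStep607 := (InImg.mul inImg_threeMat577 inImg_threeMat606)

/-- step 608 -/
def threeStep608 : ℕ := mulP threeStep607 threeStep607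

theorem inImg_threeStep608 : InImg threeStep608 := (InImg.mul inImg_threeStep607 inImg_threeStep607)

/-- step 609 -/
def threeStep609 : ℕ := mulP threeStep608 threeStep607

theorem inImg_threeStep609 : InImg threeStep609 := (InImg.mul inImg_threeStep608 inImg_threeStep607)

/-- step 610 -/
def threeStep610 : ℕ := mulP threeStep543 threeStep609

theorem inImg_threeStep610 : InImg threeStep610 := (InImg.mul inImg_threeStep543 inImg_threeStep609)

/-- step 611 -/
def threeStep611 : ℕ := mulP threeStep610 threeStep539

theorem inImg_threeStep611 : InImg threeStep611 := (InImg.mul inImg_threeStep610 inImg_threeStep539)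

/-- step 612 -/
def threeStep612 : ℕ := mulP threeStep289 threeStep20

theorem inImg_threeStep612 : InImg threeStep612 := (InImg.mul inImg_threeStep289 inImg_threeStep20)

/-- step 613 -/
def threeStep613 : ℕ := mulP threeStep612 threeStep287

theorem inImg_threeStep613 : InImg threeStep613 := (InImg.mul inImg_threeStep612 inImg_threeStep287)

/-- step 614 -/
def threeStep614 : ℕ := mulP threeStep243 threeStep8

theorem inImg_threeStep614 : InImg threeStep614 := (InImg.mul inImg_threeStep243 inImg_threeStep8)

/-- step 615 -/
def threeStep615 : ℕ := mulP threeStep90 (genN .u)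

theorem inImg_threeStep615 : InImg threeStep615 := (InImg.mul inImg_threeStep90 (inImg_gen .u))

/-- step 616 -/
def threeStep616 : ℕ := mulP threeStep614 threeStep615

theorem inImg_threeStep616 : InImg threeStep616 := (InImg.mul inImg_threeStep614 inImg_threeStep615)

/-- step 617 -/
def threeStep617 : ℕ := mulP threeStep613 threeStep616

theorem inImg_threeStep617 : InImg threeStep617 := (InImg.mul inImg_threeStep613 inImg_threeStep616)

/-- step 618 -/
def threeStep618 : ℕ := mulP threeStep84 threeStep97

theorem inImg_threeStep618 : InImg threeStep618 := (InImg.mul inImg_threeStep84 inImg_threeStep97)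

/-- step 619 -/
def threeStep619 : ℕ := mulP threeStep258 (invN .u)

theorem inImg_threeStep619 : InImg threeStep619 := (InImg.mul inImg_threeStep258 (inImg_inv .u))

/-- step 620 -/
def threeStep620 : ℕ := mulP threeStep618 threeStep619

theorem inImg_threeStep620 : InImg threeStep620 := (InImg.mul inImg_threeStep618 inImg_threeStep619)

/-- step 621 -/
def threeStep621 : ℕ := mulP threeStep98 threeStep8

theorem inImg_threeStep621 : InImg threeStep621 := (InImg.mul inImg_threeStep98 inImg_threeStep8)

/-- step 622 -/
def threeStep622 : ℕ := mulP threeStep308 (invN .s)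

theorem inImg_threeStep622 : InImg threeStep622 := (InImg.mul inImg_threeStep308 (inImg_inv .s))

/-- step 623 -/
def threeStep623 : ℕ := mulP threeStep621 threeStep622

theorem inImg_threeStep623 : InImg threeStep623 := (InImg.mul inImg_threeStep621 inImg_threeStep622)

/-- step 624 -/
def threeStep624 : ℕ := mulP threeStep620 threeStep623

theorem inImg_threeStep624 : InImg threeStep624 := (InImg.mul inImg_threeStep620 inImg_threeStep623)

/-- step 625 -/
def threeStep625 : ℕ := mulP threeStep617 threeStep624

theorem inImg_threeStep625 : InImg threeStep625 := (InImg.mul inImg_threeStep617 inImg_threeStep624)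

/-- step 626 -/
def threeStep626 : ℕ := mulP (invN .a) (invN .a)

theorem inImg_threeStep626 : InImg threeStep626 := (InImg.mul (inImg_inv .a) (inImg_inv .a))

/-- step 627 -/
def threeStep627 : ℕ := mulP threeStep626 threeStep46

theorem inImg_threeStep627 : InImg threeStep627 := (InImg.mul inImg_threeStep626 inImg_threeStep46)

/-- step 628 -/
def threeStep628 : ℕ := mulP (genN .s) (genN .s)

theorem inImg_threeStep628 : InImg threeStep628 := (InImg.mul (inImg_gen .s) (inImg_gen .s))

/-- step 629 -/
def threeStep629 : ℕ := mulP (invN .c) threeStep628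

theorem inImg_threeStep629 : InImg threeStep629 := (InImg.mul (inImg_inv .c) inImg_threeStep628)

/-- step 630 -/
def threeStep630 : ℕ := mulP threeStep393 threeStep629

theorem inImg_threeStep630 : InImg threeStep630 := (InImg.mul inImg_threeStep393 inImg_threeStep629)

/-- step 631 -/
def threeStep631 : ℕ := mulP threeStep627 threeStep630

theorem inImg_threeStep631 : InImg threeStep631 := (InImg.mul inImg_threeStep627 inImg_threeStep630)

/-- step 632 -/
def threeStep632 : ℕ := mulP (invN .b) (invN .s)

theorem inImg_threeStep632 : InImg threeStep632 := (InImg.mul (inImg_inv .b) (inImg_inv .s))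

/-- step 633 -/
def threeStep633 : ℕ := mulP (genN .b) (invN .s)

theorem inImg_threeStep633 : InImg threeStep633 := (InImg.mul (inImg_gen .b) (inImg_inv .s))

/-- step 634 -/
def threeStep634 : ℕ := mulP threeStep632 threeStep633

theorem inImg_threeStep634 : InImg threeStep634 := (InImg.mul inImg_threeStep632 inImg_threeStep633)

/-- step 635 -/
def threeStep635 : ℕ := mulP (invN .a) (genN .t)

theorem inImg_threeStep635 : InImg threeStep635 := (InImg.mul (inImg_inv .a) (inImg_gen .t))

/-- step 636 -/
def threeStep636 : ℕ := mulP (genN .e) threeStep150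

theorem inImg_threeStep636 : InImg threeStep636 := (InImg.mul (inImg_gen .e) inImg_threeStep150)

/-- step 637 -/
def threeStep637 : ℕ := mulP threeStep635 threeStep636

theorem inImg_threeStep637 : InImg threeStep637 := (InImg.mul inImg_threeStep635 inImg_threeStep636)

/-- step 638 -/
def threeStep638 : ℕ := mulP threeStep634 threeStep637

theorem inImg_threeStep638 : InImg threeStep638 := (InImg.mul inImg_threeStep634 inImg_threeStep637)

/-- step 639 -/
def threeStep639 : ℕ := mulP threeStep631 threeStep638

theorem inImg_threeStep639 : InImg threeStep639 := (InImg.mul inImg_threeStep631 inImg_threeStep638)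

/-- step 640 -/
def threeStep640 : ℕ := mulP threeStep393 threeStep540

theorem inImg_threeStep640 : InImg threeStep640 := (InImg.mul inImg_threeStep393 inImg_threeStep540)

/-- step 641 -/
def threeStep641 : ℕ := mulP (invN .t) (genN .a)

theorem inImg_threeStep641 : InImg threeStep641 := (InImg.mul (inImg_inv .t) (inImg_gen .a))

/-- step 642 -/
def threeStep642 : ℕ := mulP (invN .e) (genN .t)

theorem inImg_threeStep642 : InImg threeStep642 := (InImg.mul (inImg_inv .e) (inImg_gen .t))

/-- step 643 -/
def threeStep643 : ℕ := mulP (invN .e) threeStep642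

theorem inImg_threeStep643 : InImg threeStep643 := (InImg.mul (inImg_inv .e) inImg_threeStep642)

/-- step 644 -/
def threeStep644 : ℕ := mulP threeStep641 threeStep643

theorem inImg_threeStep644 : InImg threeStep644 := (InImg.mul inImg_threeStep641 inImg_threeStep643)

/-- step 645 -/
def threeStep645 : ℕ := mulP threeStep640 threeStep644

theorem inImg_threeStep645 : InImg threeStep645 := (InImg.mul inImg_threeStep640 inImg_threeStep644)

/-- step 646 -/
def threeStep646 : ℕ := mulP (invN .b) (genN .s)

theorem inImg_threeStep646 : InImg threeStep646 := (InImg.mul (inImg_inv .b) (inImg_gen .s))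

/-- step 647 -/
def threeStep647 : ℕ := mulP (genN .e) (genN .e)

theorem inImg_threeStep647 : InImg threeStep647 := (InImg.mul (inImg_gen .e) (inImg_gen .e))

/-- step 648 -/
def threeStep648 : ℕ := mulP threeStep646 threeStep647

theorem inImg_threeStep648 : InImg threeStep648 := (InImg.mul inImg_threeStep646 inImg_threeStep647)

/-- step 649 -/
def threeStep649 : ℕ := mulP (genN .e) (genN .a)

theorem inImg_threeStep649 : InImg threeStep649 := (InImg.mul (inImg_gen .e) (inImg_gen .a))

/-- step 650 -/
def threeStep650 : ℕ := mulP (invN .b) (invN .c)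

theorem inImg_threeStep650 : InImg threeStep650 := (InImg.mul (inImg_inv .b) (inImg_inv .c))

/-- step 651 -/
def threeStep651 : ℕ := mulP (invN .a) threeStep650

theorem inImg_threeStep651 : InImg threeStep651 := (InImg.mul (inImg_inv .a) inImg_threeStep650)

/-- step 652 -/
def threeStep652 : ℕ := mulP threeStep649 threeStep651

theorem inImg_threeStep652 : InImg threeStep652 := (InImg.mul inImg_threeStep649 inImg_threeStep651)

/-- step 653 -/
def threeStep653 : ℕ := mulP threeStep648 threeStep652

theorem inImg_threeStep653 : InImg threeStep653 := (InImg.mul inImg_threeStep648 inImg_threeStep652)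

/-- step 654 -/
def threeStep654 : ℕ := mulP threeStep645 threeStep653

theorem inImg_threeStep654 : InImg threeStep654 := (InImg.mul inImg_threeStep645 inImg_threeStep653)

theorem eq_threeMat655 : Nat.beq threeMat655 (mulP threeStep639 threeStep654) = true := by decide +kernel

theorem inImg_threeMat655 : InImg threeMat655 :=
  Nat.eq_of_beq_eq_true eq_threeMat655 ▸ (InImg.mul inImg_threeStep639 inImg_threeStep654)

/-- step 656 -/
def threeStep656 : ℕ := mulP (genN .b) (invN .e)

theorem inImg_threeStep656 : InImg threeStep656 := (InImg.mul (inImg_gen .b) (inImg_inv .e))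

/-- step 657 -/
def threeStep657 : ℕ := mulP threeStep179 threeStep656

theorem inImg_threeStep657 : InImg threeStep657 := (InImg.mul inImg_threeStep179 inImg_threeStep656)

/-- step 658 -/
def threeStep658 : ℕ := mulP (genN .t) (genN .e)

theorem inImg_threeStep658 : InImg threeStep658 := (InImg.mul (inImg_gen .t) (inImg_gen .e))

/-- step 659 -/
def threeStep659 : ℕ := mulP (genN .a) (invN .a)

theorem inImg_threeStep659 : InImg threeStep659 := (InImg.mul (inImg_gen .a) (inImg_inv .a))

/-- step 660 -/
def threeStep660 : ℕ := mulP (invN .d) threeStep659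

theorem inImg_threeStep660 : InImg threeStep660 := (InImg.mul (inImg_inv .d) inImg_threeStep659)

/-- step 661 -/
def threeStep661 : ℕ := mulP threeStep658 threeStep660

theorem inImg_threeStep661 : InImg threeStep661 := (InImg.mul inImg_threeStep658 inImg_threeStep660)

/-- step 662 -/
def threeStep662 : ℕ := mulP threeStep657 threeStep661

theorem inImg_threeStep662 : InImg threeStep662 := (InImg.mul inImg_threeStep657 inImg_threeStep661)

/-- step 663 -/
def threeStep663 : ℕ := mulP threeStep190 threeStep649

theorem inImg_threeStep663 : InImg threeStep663 := (InImg.mul inImg_threeStep190 inImg_threeStep649)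

/-- step 664 -/
def threeStep664 : ℕ := mulP (invN .c) (invN .c)

theorem inImg_threeStep664 : InImg threeStep664 := (InImg.mul (inImg_inv .c) (inImg_inv .c))

/-- step 665 -/
def threeStep665 : ℕ := mulP (genN .d) (genN .c)

theorem inImg_threeStep665 : InImg threeStep665 := (InImg.mul (inImg_gen .d) (inImg_gen .c))

/-- step 666 -/
def threeStep666 : ℕ := mulP (invN .d) threeStep665

theorem inImg_threeStep666 : InImg threeStep666 := (InImg.mul (inImg_inv .d) inImg_threeStep665)

/-- step 667 -/
def threeStep667 : ℕ := mulP threeStep664 threeStep666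

theorem inImg_threeStep667 : InImg threeStep667 := (InImg.mul inImg_threeStep664 inImg_threeStep666)

/-- step 668 -/
def threeStep668 : ℕ := mulP threeStep663 threeStep667

theorem inImg_threeStep668 : InImg threeStep668 := (InImg.mul inImg_threeStep663 inImg_threeStep667)

/-- step 669 -/
def threeStep669 : ℕ := mulP threeStep662 threeStep668

theorem inImg_threeStep669 : InImg threeStep669 := (InImg.mul inImg_threeStep662 inImg_threeStep668)

theorem eq_threeMat670 : Nat.beq threeMat670 (mulP threeStep669 threeStep206) = true := by decide +kernel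

theorem inImg_threeMat670 : InImg threeMat670 :=
  Nat.eq_of_beq_eq_true eq_threeMat670 ▸ (InImg.mul inImg_threeStep669 inImg_threeStep206)

/-- step 671 -/
def threeStep671 : ℕ := mulP threeMat655 threeMat670

theorem inImg_threeStep671 : InImg threeStep671 := (InImg.mul inImg_threeMat655 inImg_threeMat670)

/-- step 672 -/
def threeStep672 : ℕ := mulP threeStep671 threeStep671

theorem inImg_threeStep672 : InImg threeStep672 := (InImg.mul inImg_threeStep671 inImg_threeStep671)

/-- step 673 -/
def threeStep673 : ℕ := mulP threeStep671 threeStep672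

theorem inImg_threeStep673 : InImg threeStep673 := (InImg.mul inImg_threeStep671 inImg_threeStep672)

/-- step 674 -/
def threeStep674 : ℕ := mulP threeStep539 (genN .a)

theorem inImg_threeStep674 : InImg threeStep674 := (InImg.mul inImg_threeStep539 (inImg_gen .a))

/-- step 675 -/
def threeStep675 : ℕ := mulP threeStep674 threeStep541

theorem inImg_threeStep675 : InImg threeStep675 := (InImg.mul inImg_threeStep674 inImg_threeStep541)

/-- step 676 -/
def threeStep676 : ℕ := mulP threeStep673 threeStep675

theorem inImg_threeStep676 : InImg threeStep676 := (InImg.mul inImg_threeStep673 inImg_threeStep675)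

/-- step 677 -/
def threeStep677 : ℕ := mulP threeStep541 threeStep676

theorem inImg_threeStep677 : InImg threeStep677 := (InImg.mul inImg_threeStep541 inImg_threeStep676)

theorem eq_threeMat678 : Nat.beq threeMat678 (mulP threeStep625 threeStep677) = true := by decide +kernel

theorem inImg_threeMat678 : InImg threeMat678 :=
  Nat.eq_of_beq_eq_true eq_threeMat678 ▸ (InImg.mul inImg_threeStep625 inImg_threeStep677)

/-- step 679 -/
def threeStep679 : ℕ := mulP threeStep611 threeMat678

theorem inImg_threeStep679 : InImg threeStep679 := (InImg.mul inImg_threeStep611 inImg_threeMat678)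

/-- step 680 -/
def threeStep680 : ℕ := mulP threeStep259 threeStep17

theorem inImg_threeStep680 : InImg threeStep680 := (InImg.mul inImg_threeStep259 inImg_threeStep17)

/-- step 681 -/
def threeStep681 : ℕ := mulP threeStep333 (invN .d)

theorem inImg_threeStep681 : InImg threeStep681 := (InImg.mul inImg_threeStep333 (inImg_inv .d))

/-- step 682 -/
def threeStep682 : ℕ := mulP threeStep681 threeStep20

theorem inImg_threeStep682 : InImg threeStep682 := (InImg.mul inImg_threeStep681 inImg_threeStep20)

/-- step 683 -/
def threeStep683 : ℕ := mulP threeStep680 threeStep682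

theorem inImg_threeStep683 : InImg threeStep683 := (InImg.mul inImg_threeStep680 inImg_threeStep682)

/-- step 684 -/
def threeStep684 : ℕ := mulP threeStep679 threeStep683

theorem inImg_threeStep684 : InImg threeStep684 := (InImg.mul inImg_threeStep679 inImg_threeStep683)

theorem eq_threeMat685 : Nat.beq threeMat685 (mulP threeStep537 threeStep684) = true := by decide +kernel

theorem inImg_threeMat685 : InImg threeMat685 :=
  Nat.eq_of_beq_eq_true eq_threeMat685 ▸ (InImg.mul inImg_threeStep537 inImg_threeStep684)

/-- step 686 -/
def threeStep686 : ℕ := mulP threeStep90 threeStep377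

theorem inImg_threeStep686 : InImg threeStep686 := (InImg.mul inImg_threeStep90 inImg_threeStep377)

/-- step 687 -/
def threeStep687 : ℕ := mulP threeStep21 threeStep686

theorem inImg_threeStep687 : InImg threeStep687 := (InImg.mul inImg_threeStep21 inImg_threeStep686)

/-- step 688 -/
def threeStep688 : ℕ := mulP (genN .e) (invN .s)

theorem inImg_threeStep688 : InImg threeStep688 := (InImg.mul (inImg_gen .e) (inImg_inv .s))

/-- step 689 -/
def threeStep689 : ℕ := mulP threeStep688 threeStep8

theorem inImg_threeStep689 : InImg threeStep689 := (InImg.mul inImg_threeStep688 inImg_threeStep8)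

/-- step 690 -/
def threeStep690 : ℕ := mulP threeStep689 threeStep615

theorem inImg_threeStep690 : InImg threeStep690 := (InImg.mul inImg_threeStep689 inImg_threeStep615)

/-- step 691 -/
def threeStep691 : ℕ := mulP threeStep687 threeStep690

theorem inImg_threeStep691 : InImg threeStep691 := (InImg.mul inImg_threeStep687 inImg_threeStep690)

/-- step 692 -/
def threeStep692 : ℕ := mulP (genN .s) (invN .d)

theorem inImg_threeStep692 : InImg threeStep692 := (InImg.mul (inImg_gen .s) (inImg_inv .d))

/-- step 693 -/
def threeStep693 : ℕ := mulP threeStep692 threeStep90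

theorem inImg_threeStep693 : InImg threeStep693 := (InImg.mul inImg_threeStep692 inImg_threeStep90)

/-- step 694 -/
def threeStep694 : ℕ := mulP threeStep263 (invN .s)

theorem inImg_threeStep694 : InImg threeStep694 := (InImg.mul inImg_threeStep263 (inImg_inv .s))

/-- step 695 -/
def threeStep695 : ℕ := mulP threeStep693 threeStep694

theorem inImg_threeStep695 : InImg threeStep695 := (InImg.mul inImg_threeStep693 inImg_threeStep694)

/-- step 696 -/
def threeStep696 : ℕ := mulP threeStep19 threeStep263

theorem inImg_threeStep696 : InImg threeStep696 := (InImg.mul inImg_threeStep19 inImg_threeStep263)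

/-- step 697 -/
def threeStep697 : ℕ := mulP (invN .t) (invN .e)

theorem inImg_threeStep697 : InImg threeStep697 := (InImg.mul (inImg_inv .t) (inImg_inv .e))

/-- step 698 -/
def threeStep698 : ℕ := mulP threeStep697 (invN .s)

theorem inImg_threeStep698 : InImg threeStep698 := (InImg.mul inImg_threeStep697 (inImg_inv .s))

/-- step 699 -/
def threeStep699 : ℕ := mulP threeStep696 threeStep698

theorem inImg_threeStep699 : InImg threeStep699 := (InImg.mul inImg_threeStep696 inImg_threeStep698)

/-- step 700 -/
def threeStep700 : ℕ := mulP threeStep695 threeStep699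

theorem inImg_threeStep700 : InImg threeStep700 := (InImg.mul inImg_threeStep695 inImg_threeStep699)

/-- step 701 -/
def threeStep701 : ℕ := mulP threeStep691 threeStep700

theorem inImg_threeStep701 : InImg threeStep701 := (InImg.mul inImg_threeStep691 inImg_threeStep700)

theorem eq_threeMat702 : Nat.beq threeMat702 (mulP threeStep701 threeStep677) = true := by decide +kernel

theorem inImg_threeMat702 : InImg threeMat702 :=
  Nat.eq_of_beq_eq_true eq_threeMat702 ▸ (InImg.mul inImg_threeStep701 inImg_threeStep677)

/-- step 703 -/
def threeStep703 : ℕ := mulP threeStep611 threeMat702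

theorem inImg_threeStep703 : InImg threeStep703 := (InImg.mul inImg_threeStep611 inImg_threeMat702)

/-- step 704 -/
def threeStep704 : ℕ := mulP threeMat685 threeStep703

theorem inImg_threeStep704 : InImg threeStep704 := (InImg.mul inImg_threeMat685 inImg_threeStep703)

/-- step 705 -/
def threeStep705 : ℕ := mulP threeStep704 threeStep704

theorem inImg_threeStep705 : InImg threeStep705 := (InImg.mul inImg_threeStep704 inImg_threeStep704)

/-- step 706 -/
def threeStep706 : ℕ := mulP threeStep705 threeStep705

theorem inImg_threeStep706 : InImg threeStep706 := (InImg.mul inImg_threeStep705 inImg_threeStep705)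

/-- step 707 -/
def threeStep707 : ℕ := mulP threeStep323 threeStep84

theorem inImg_threeStep707 : InImg threeStep707 := (InImg.mul inImg_threeStep323 inImg_threeStep84)

/-- step 708 -/
def threeStep708 : ℕ := mulP threeStep247 (genN .s)

theorem inImg_threeStep708 : InImg threeStep708 := (InImg.mul inImg_threeStep247 (inImg_gen .s))

/-- step 709 -/
def threeStep709 : ℕ := mulP threeStep707 threeStep708

theorem inImg_threeStep709 : InImg threeStep709 := (InImg.mul inImg_threeStep707 inImg_threeStep708)

/-- step 710 -/
def threeStep710 : ℕ := mulP threeStep16 threeStep84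

theorem inImg_threeStep710 : InImg threeStep710 := (InImg.mul inImg_threeStep16 inImg_threeStep84)

/-- step 711 -/
def threeStep711 : ℕ := mulP threeStep710 threeStep236

theorem inImg_threeStep711 : InImg threeStep711 := (InImg.mul inImg_threeStep710 inImg_threeStep236)

/-- step 712 -/
def threeStep712 : ℕ := mulP threeStep709 threeStep711

theorem inImg_threeStep712 : InImg threeStep712 := (InImg.mul inImg_threeStep709 inImg_threeStep711)

/-- step 713 -/
def threeStep713 : ℕ := mulP (invN .a) (invN .u)

theorem inImg_threeStep713 : InImg threeStep713 := (InImg.mul (inImg_inv .a) (inImg_inv .u))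

/-- step 714 -/
def threeStep714 : ℕ := mulP threeStep713 (invN .d)

theorem inImg_threeStep714 : InImg threeStep714 := (InImg.mul inImg_threeStep713 (inImg_inv .d))

/-- step 715 -/
def threeStep715 : ℕ := mulP threeStep618 threeStep714

theorem inImg_threeStep715 : InImg threeStep715 := (InImg.mul inImg_threeStep618 inImg_threeStep714)

/-- step 716 -/
def threeStep716 : ℕ := mulP (invN .t) (invN .u)

theorem inImg_threeStep716 : InImg threeStep716 := (InImg.mul (inImg_inv .t) (inImg_inv .u))

/-- step 717 -/
def threeStep717 : ℕ := mulP threeStep333 threeStep716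

theorem inImg_threeStep717 : InImg threeStep717 := (InImg.mul inImg_threeStep333 inImg_threeStep716)

/-- step 718 -/
def threeStep718 : ℕ := mulP threeStep16 (invN .d)

theorem inImg_threeStep718 : InImg threeStep718 := (InImg.mul inImg_threeStep16 (inImg_inv .d))

/-- step 719 -/
def threeStep719 : ℕ := mulP threeStep717 threeStep718

theorem inImg_threeStep719 : InImg threeStep719 := (InImg.mul inImg_threeStep717 inImg_threeStep718)

/-- step 720 -/
def threeStep720 : ℕ := mulP threeStep715 threeStep719

theorem inImg_threeStep720 : InImg threeStep720 := (InImg.mul inImg_threeStep715 inImg_threeStep719)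

/-- step 721 -/
def threeStep721 : ℕ := mulP threeStep712 threeStep720

theorem inImg_threeStep721 : InImg threeStep721 := (InImg.mul inImg_threeStep712 inImg_threeStep720)

theorem eq_threeMat722 : Nat.beq threeMat722 (mulP threeStep721 threeStep173) = true := by decide +kernel

theorem inImg_threeMat722 : InImg threeMat722 :=
  Nat.eq_of_beq_eq_true eq_threeMat722 ▸ (InImg.mul inImg_threeStep721 inImg_threeStep173)

/-- step 723 -/
def threeStep723 : ℕ := mulP threeStep112 threeMat722

theorem inImg_threeStep723 : InImg threeStep723 := (InImg.mul inImg_threeStep112 inImg_threeMat722)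

/-- step 724 -/
def threeStep724 : ℕ := mulP (genN .t) (invN .s)

theorem inImg_threeStep724 : InImg threeStep724 := (InImg.mul (inImg_gen .t) (inImg_inv .s))

/-- step 725 -/
def threeStep725 : ℕ := mulP threeStep724 (invN .u)

theorem inImg_threeStep725 : InImg threeStep725 := (InImg.mul inImg_threeStep724 (inImg_inv .u))

/-- step 726 -/
def threeStep726 : ℕ := mulP threeStep546 (invN .b)

theorem inImg_threeStep726 : InImg threeStep726 := (InImg.mul inImg_threeStep546 (inImg_inv .b))

/-- step 727 -/
def threeStep727 : ℕ := mulP threeStep725 threeStep726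

theorem inImg_threeStep727 : InImg threeStep727 := (InImg.mul inImg_threeStep725 inImg_threeStep726)

/-- step 728 -/
def threeStep728 : ℕ := mulP (genN .b) threeStep201

theorem inImg_threeStep728 : InImg threeStep728 := (InImg.mul (inImg_gen .b) inImg_threeStep201)

/-- step 729 -/
def threeStep729 : ℕ := mulP (genN .s) (invN .t)

theorem inImg_threeStep729 : InImg threeStep729 := (InImg.mul (inImg_gen .s) (inImg_inv .t))

/-- step 730 -/
def threeStep730 : ℕ := mulP (genN .u) threeStep729

theorem inImg_threeStep730 : InImg threeStep730 := (InImg.mul (inImg_gen .u) inImg_threeStep729)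

/-- step 731 -/
def threeStep731 : ℕ := mulP threeStep728 threeStep730

theorem inImg_threeStep731 : InImg threeStep731 := (InImg.mul inImg_threeStep728 inImg_threeStep730)

/-- step 732 -/
def threeStep732 : ℕ := mulP (invN .a) threeStep731

theorem inImg_threeStep732 : InImg threeStep732 := (InImg.mul (inImg_inv .a) inImg_threeStep731)

/-- step 733 -/
def threeStep733 : ℕ := mulP threeStep727 threeStep732

theorem inImg_threeStep733 : InImg threeStep733 := (InImg.mul inImg_threeStep727 inImg_threeStep732)

/-- step 734 -/
def threeStep734 : ℕ := mulP threeStep20 threeStep90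

theorem inImg_threeStep734 : InImg threeStep734 := (InImg.mul inImg_threeStep20 inImg_threeStep90)

/-- step 735 -/
def threeStep735 : ℕ := mulP threeStep237 (invN .c)

theorem inImg_threeStep735 : InImg threeStep735 := (InImg.mul inImg_threeStep237 (inImg_inv .c))

/-- step 736 -/
def threeStep736 : ℕ := mulP threeStep734 threeStep735

theorem inImg_threeStep736 : InImg threeStep736 := (InImg.mul inImg_threeStep734 inImg_threeStep735)

/-- step 737 -/
def threeStep737 : ℕ := mulP threeStep711 threeStep736

theorem inImg_threeStep737 : InImg threeStep737 := (InImg.mul inImg_threeStep711 inImg_threeStep736)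

/-- step 738 -/
def threeStep738 : ℕ := mulP threeStep97 threeStep20

theorem inImg_threeStep738 : InImg threeStep738 := (InImg.mul inImg_threeStep97 inImg_threeStep20)

/-- step 739 -/
def threeStep739 : ℕ := mulP threeStep738 threeStep622

theorem inImg_threeStep739 : InImg threeStep739 := (InImg.mul inImg_threeStep738 inImg_threeStep622)

/-- step 740 -/
def threeStep740 : ℕ := mulP threeStep17 (invN .u)

theorem inImg_threeStep740 : InImg threeStep740 := (InImg.mul inImg_threeStep17 (inImg_inv .u))

/-- step 741 -/
def threeStep741 : ℕ := mulP threeStep282 (invN .d)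

theorem inImg_threeStep741 : InImg threeStep741 := (InImg.mul inImg_threeStep282 (inImg_inv .d))

/-- step 742 -/
def threeStep742 : ℕ := mulP threeStep740 threeStep741

theorem inImg_threeStep742 : InImg threeStep742 := (InImg.mul inImg_threeStep740 inImg_threeStep741)

/-- step 743 -/
def threeStep743 : ℕ := mulP threeStep739 threeStep742

theorem inImg_threeStep743 : InImg threeStep743 := (InImg.mul inImg_threeStep739 inImg_threeStep742)

/-- step 744 -/
def threeStep744 : ℕ := mulP threeStep737 threeStep743

theorem inImg_threeStep744 : InImg threeStep744 := (InImg.mul inImg_threeStep737 inImg_threeStep743)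

theorem eq_threeMat745 : Nat.beq threeMat745 (mulP threeStep733 threeStep744) = true := by decide +kernel

theorem inImg_threeMat745 : InImg threeMat745 :=
  Nat.eq_of_beq_eq_true eq_threeMat745 ▸ (InImg.mul inImg_threeStep733 inImg_threeStep744)

/-- step 746 -/
def threeStep746 : ℕ := mulP threeMat745 threeMat745

theorem inImg_threeStep746 : InImg threeStep746 := (InImg.mul inImg_threeMat745 inImg_threeMat745)

/-- step 747 -/
def threeStep747 : ℕ := mulP threeStep746 threeStep746

theorem inImg_threeStep747 : InImg threeStep747 := (InImg.mul inImg_threeStep746 inImg_threeStep746)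

/-- step 748 -/
def threeStep748 : ℕ := mulP threeStep747 threeStep747

theorem inImg_threeStep748 : InImg threeStep748 := (InImg.mul inImg_threeStep747 inImg_threeStep747)

/-- step 749 -/
def threeStep749 : ℕ := mulP threeStep748 threeMat745

theorem inImg_threeStep749 : InImg threeStep749 := (InImg.mul inImg_threeStep748 inImg_threeMat745)

/-- step 750 -/
def threeStep750 : ℕ := mulP threeStep749 threeStep727

theorem inImg_threeStep750 : InImg threeStep750 := (InImg.mul inImg_threeStep749 inImg_threeStep727)

/-- step 751 -/
def threeStep751 : ℕ := mulP threeStep378 threeStep323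

theorem inImg_threeStep751 : InImg threeStep751 := (InImg.mul inImg_threeStep378 inImg_threeStep323)

/-- step 752 -/
def threeStep752 : ℕ := mulP threeStep376 threeStep751

theorem inImg_threeStep752 : InImg threeStep752 := (InImg.mul inImg_threeStep376 inImg_threeStep751)

/-- step 753 -/
def threeStep753 : ℕ := mulP (genN .u) (genN .s)

theorem inImg_threeStep753 : InImg threeStep753 := (InImg.mul (inImg_gen .u) (inImg_gen .s))

/-- step 754 -/
def threeStep754 : ℕ := mulP threeStep753 (invN .s)

theorem inImg_threeStep754 : InImg threeStep754 := (InImg.mul inImg_threeStep753 (inImg_inv .s))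

/-- step 755 -/
def threeStep755 : ℕ := mulP threeStep375 threeStep754

theorem inImg_threeStep755 : InImg threeStep755 := (InImg.mul inImg_threeStep375 inImg_threeStep754)

/-- step 756 -/
def threeStep756 : ℕ := mulP threeStep755 threeStep241

theorem inImg_threeStep756 : InImg threeStep756 := (InImg.mul inImg_threeStep755 inImg_threeStep241)

/-- step 757 -/
def threeStep757 : ℕ := mulP threeStep752 threeStep756

theorem inImg_threeStep757 : InImg threeStep757 := (InImg.mul inImg_threeStep752 inImg_threeStep756)

/-- step 758 -/
def threeStep758 : ℕ := mulP threeStep300 threeStep615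

theorem inImg_threeStep758 : InImg threeStep758 := (InImg.mul inImg_threeStep300 inImg_threeStep615)

/-- step 759 -/
def threeStep759 : ℕ := mulP threeStep758 threeStep241

theorem inImg_threeStep759 : InImg threeStep759 := (InImg.mul inImg_threeStep758 inImg_threeStep241)

/-- step 760 -/
def threeStep760 : ℕ := mulP (invN .c) (invN .u)

theorem inImg_threeStep760 : InImg threeStep760 := (InImg.mul (inImg_inv .c) (inImg_inv .u))

/-- step 761 -/
def threeStep761 : ℕ := mulP threeStep760 (genN .s)

theorem inImg_threeStep761 : InImg threeStep761 := (InImg.mul inImg_threeStep760 (inImg_gen .s))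

/-- step 762 -/
def threeStep762 : ℕ := mulP threeStep761 threeStep333

theorem inImg_threeStep762 : InImg threeStep762 := (InImg.mul inImg_threeStep761 inImg_threeStep333)

/-- step 763 -/
def threeStep763 : ℕ := mulP threeStep263 (genN .s)

theorem inImg_threeStep763 : InImg threeStep763 := (InImg.mul inImg_threeStep263 (inImg_gen .s))

/-- step 764 -/
def threeStep764 : ℕ := mulP threeStep763 threeStep364

theorem inImg_threeStep764 : InImg threeStep764 := (InImg.mul inImg_threeStep763 inImg_threeStep364)

/-- step 765 -/
def threeStep765 : ℕ := mulP threeStep762 threeStep764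

theorem inImg_threeStep765 : InImg threeStep765 := (InImg.mul inImg_threeStep762 inImg_threeStep764)

/-- step 766 -/
def threeStep766 : ℕ := mulP threeStep759 threeStep765

theorem inImg_threeStep766 : InImg threeStep766 := (InImg.mul inImg_threeStep759 inImg_threeStep765)

theorem eq_threeMat767 : Nat.beq threeMat767 (mulP threeStep757 threeStep766) = true := by decide +kernel

theorem inImg_threeMat767 : InImg threeMat767 :=
  Nat.eq_of_beq_eq_true eq_threeMat767 ▸ (InImg.mul inImg_threeStep757 inImg_threeStep766)

/-- step 768 -/
def threeStep768 : ℕ := mulP (genN .d) threeStep3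

theorem inImg_threeStep768 : InImg threeStep768 := (InImg.mul (inImg_gen .d) inImg_threeStep3)

/-- step 769 -/
def threeStep769 : ℕ := mulP (genN .u) threeStep59

theorem inImg_threeStep769 : InImg threeStep769 := (InImg.mul (inImg_gen .u) inImg_threeStep59)

/-- step 770 -/
def threeStep770 : ℕ := mulP threeStep768 threeStep769

theorem inImg_threeStep770 : InImg threeStep770 := (InImg.mul inImg_threeStep768 inImg_threeStep769)

/-- step 771 -/
def threeStep771 : ℕ := mulP (genN .s) threeStep452

theorem inImg_threeStep771 : InImg threeStep771 := (InImg.mul (inImg_gen .s) inImg_threeStep452)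

/-- step 772 -/
def threeStep772 : ℕ := mulP threeStep0 threeStep151

theorem inImg_threeStep772 : InImg threeStep772 := (InImg.mul inImg_threeStep0 inImg_threeStep151)

/-- step 773 -/
def threeStep773 : ℕ := mulP threeStep771 threeStep772

theorem inImg_threeStep773 : InImg threeStep773 := (InImg.mul inImg_threeStep771 inImg_threeStep772)

/-- step 774 -/
def threeStep774 : ℕ := mulP threeStep770 threeStep773

theorem inImg_threeStep774 : InImg threeStep774 := (InImg.mul inImg_threeStep770 inImg_threeStep773)

/-- step 775 -/
def threeStep775 : ℕ := mulP (genN .c) threeStep186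

theorem inImg_threeStep775 : InImg threeStep775 := (InImg.mul (inImg_gen .c) inImg_threeStep186)

/-- step 776 -/
def threeStep776 : ℕ := mulP threeStep37 threeStep0

theorem inImg_threeStep776 : InImg threeStep776 := (InImg.mul inImg_threeStep37 inImg_threeStep0)

/-- step 777 -/
def threeStep777 : ℕ := mulP threeStep775 threeStep776

theorem inImg_threeStep777 : InImg threeStep777 := (InImg.mul inImg_threeStep775 inImg_threeStep776)

/-- step 778 -/
def threeStep778 : ℕ := mulP threeStep43 threeStep4

theorem inImg_threeStep778 : InImg threeStep778 := (InImg.mul inImg_threeStep43 inImg_threeStep4)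

/-- step 779 -/
def threeStep779 : ℕ := mulP threeStep469 threeStep778

theorem inImg_threeStep779 : InImg threeStep779 := (InImg.mul inImg_threeStep469 inImg_threeStep778)

/-- step 780 -/
def threeStep780 : ℕ := mulP threeStep777 threeStep779

theorem inImg_threeStep780 : InImg threeStep780 := (InImg.mul inImg_threeStep777 inImg_threeStep779)

/-- step 781 -/
def threeStep781 : ℕ := mulP threeStep774 threeStep780

theorem inImg_threeStep781 : InImg threeStep781 := (InImg.mul inImg_threeStep774 inImg_threeStep780)

/-- step 782 -/
def threeStep782 : ℕ := mulP threeStep727 (genN .a)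

theorem inImg_threeStep782 : InImg threeStep782 := (InImg.mul inImg_threeStep727 (inImg_gen .a))

/-- step 783 -/
def threeStep783 : ℕ := mulP threeStep782 threeStep731

theorem inImg_threeStep783 : InImg threeStep783 := (InImg.mul inImg_threeStep782 inImg_threeStep731)

theorem eq_threeMat784 : Nat.beq threeMat784 (mulP threeStep781 threeStep783) = true := by decide +kernel

theorem inImg_threeMat784 : InImg threeMat784 :=
  Nat.eq_of_beq_eq_true eq_threeMat784 ▸ (InImg.mul inImg_threeStep781 inImg_threeStep783)

/-- step 785 -/
def threeStep785 : ℕ := mulP threeMat784 threeMat784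

theorem inImg_threeStep785 : InImg threeStep785 := (InImg.mul inImg_threeMat784 inImg_threeMat784)

/-- step 786 -/
def threeStep786 : ℕ := mulP threeStep785 threeStep785

theorem inImg_threeStep786 : InImg threeStep786 := (InImg.mul inImg_threeStep785 inImg_threeStep785)

/-- step 787 -/
def threeStep787 : ℕ := mulP threeStep786 threeStep786

theorem inImg_threeStep787 : InImg threeStep787 := (InImg.mul inImg_threeStep786 inImg_threeStep786)

/-- step 788 -/
def threeStep788 : ℕ := mulP threeMat784 threeStep787

theorem inImg_threeStep788 : InImg threeStep788 := (InImg.mul inImg_threeMat784 inImg_threeStep787)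

/-- step 789 -/
def threeStep789 : ℕ := mulP threeStep731 threeStep788

theorem inImg_threeStep789 : InImg threeStep789 := (InImg.mul inImg_threeStep731 inImg_threeStep788)

/-- step 790 -/
def threeStep790 : ℕ := mulP threeMat767 threeStep789

theorem inImg_threeStep790 : InImg threeStep790 := (InImg.mul inImg_threeMat767 inImg_threeStep789)

/-- step 791 -/
def threeStep791 : ℕ := mulP threeStep750 threeStep790

theorem inImg_threeStep791 : InImg threeStep791 := (InImg.mul inImg_threeStep750 inImg_threeStep790)

theorem eq_threeMat792 : Nat.beq threeMat792 (mulP threeStep723 threeStep791) = true := by decide +kernel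

theorem inImg_threeMat792 : InImg threeMat792 :=
  Nat.eq_of_beq_eq_true eq_threeMat792 ▸ (InImg.mul inImg_threeStep723 inImg_threeStep791)

/-- step 793 -/
def threeStep793 : ℕ := mulP threeStep706 threeMat792

theorem inImg_threeStep793 : InImg threeStep793 := (InImg.mul inImg_threeStep706 inImg_threeMat792)

/-- step 794 -/
def threeStep794 : ℕ := mulP (genN .s) threeStep113

theorem inImg_threeStep794 : InImg threeStep794 := (InImg.mul (inImg_gen .s) inImg_threeStep113)

/-- step 795 -/
def threeStep795 : ℕ := mulP threeStep794 threeStep32

theorem inImg_threeStep795 : InImg threeStep795 := (InImg.mul inImg_threeStep794 inImg_threeStep32)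

/-- step 796 -/
def threeStep796 : ℕ := mulP (genN .s) threeStep29

theorem inImg_threeStep796 : InImg threeStep796 := (InImg.mul (inImg_gen .s) inImg_threeStep29)

/-- step 797 -/
def threeStep797 : ℕ := mulP threeStep37 threeStep1

theorem inImg_threeStep797 : InImg threeStep797 := (InImg.mul inImg_threeStep37 inImg_threeStep1)

/-- step 798 -/
def threeStep798 : ℕ := mulP threeStep796 threeStep797

theorem inImg_threeStep798 : InImg threeStep798 := (InImg.mul inImg_threeStep796 inImg_threeStep797)

/-- step 799 -/
def threeStep799 : ℕ := mulP threeStep795 threeStep798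

theorem inImg_threeStep799 : InImg threeStep799 := (InImg.mul inImg_threeStep795 inImg_threeStep798)

/-- step 800 -/
def threeStep800 : ℕ := mulP (genN .s) (invN .e)

theorem inImg_threeStep800 : InImg threeStep800 := (InImg.mul (inImg_gen .s) (inImg_inv .e))

/-- step 801 -/
def threeStep801 : ℕ := mulP threeStep12 threeStep800

theorem inImg_threeStep801 : InImg threeStep801 := (InImg.mul inImg_threeStep12 inImg_threeStep800)

/-- step 802 -/
def threeStep802 : ℕ := mulP threeStep131 threeStep801

theorem inImg_threeStep802 : InImg threeStep802 := (InImg.mul inImg_threeStep131 inImg_threeStep801)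

/-- step 803 -/
def threeStep803 : ℕ := mulP threeStep122 threeStep37

theorem inImg_threeStep803 : InImg threeStep803 := (InImg.mul inImg_threeStep122 inImg_threeStep37)

/-- step 804 -/
def threeStep804 : ℕ := mulP threeStep803 threeStep58

theorem inImg_threeStep804 : InImg threeStep804 := (InImg.mul inImg_threeStep803 inImg_threeStep58)

/-- step 805 -/
def threeStep805 : ℕ := mulP threeStep802 threeStep804

theorem inImg_threeStep805 : InImg threeStep805 := (InImg.mul inImg_threeStep802 inImg_threeStep804)

/-- step 806 -/
def threeStep806 : ℕ := mulP threeStep799 threeStep805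

theorem inImg_threeStep806 : InImg threeStep806 := (InImg.mul inImg_threeStep799 inImg_threeStep805)

theorem eq_threeMat807 : Nat.beq threeMat807 (mulP threeStep611 threeStep806) = true := by decide +kernel

theorem inImg_threeMat807 : InImg threeMat807 :=
  Nat.eq_of_beq_eq_true eq_threeMat807 ▸ (InImg.mul inImg_threeStep611 inImg_threeStep806)

/-- step 808 -/
def threeStep808 : ℕ := mulP threeMat807 threeStep677

theorem inImg_threeStep808 : InImg threeStep808 := (InImg.mul inImg_threeMat807 inImg_threeStep677)

/-- step 809 -/
def threeStep809 : ℕ := mulP (genN .d) threeStep420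

theorem inImg_threeStep809 : InImg threeStep809 := (InImg.mul (inImg_gen .d) inImg_threeStep420)

/-- step 810 -/
def threeStep810 : ℕ := mulP threeStep0 threeStep809

theorem inImg_threeStep810 : InImg threeStep810 := (InImg.mul inImg_threeStep0 inImg_threeStep809)

/-- step 811 -/
def threeStep811 : ℕ := mulP threeStep59 threeStep500

theorem inImg_threeStep811 : InImg threeStep811 := (InImg.mul inImg_threeStep59 inImg_threeStep500)

/-- step 812 -/
def threeStep812 : ℕ := mulP threeStep810 threeStep811

theorem inImg_threeStep812 : InImg threeStep812 := (InImg.mul inImg_threeStep810 inImg_threeStep811)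

/-- step 813 -/
def threeStep813 : ℕ := mulP threeStep12 threeStep150

theorem inImg_threeStep813 : InImg threeStep813 := (InImg.mul inImg_threeStep12 inImg_threeStep150)

/-- step 814 -/
def threeStep814 : ℕ := mulP threeStep771 threeStep813

theorem inImg_threeStep814 : InImg threeStep814 := (InImg.mul inImg_threeStep771 inImg_threeStep813)

/-- step 815 -/
def threeStep815 : ℕ := mulP (genN .u) threeStep499

theorem inImg_threeStep815 : InImg threeStep815 := (InImg.mul (inImg_gen .u) inImg_threeStep499)

/-- step 816 -/
def threeStep816 : ℕ := mulP threeStep151 threeStep43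

theorem inImg_threeStep816 : InImg threeStep816 := (InImg.mul inImg_threeStep151 inImg_threeStep43)

/-- step 817 -/
def threeStep817 : ℕ := mulP threeStep815 threeStep816

theorem inImg_threeStep817 : InImg threeStep817 := (InImg.mul inImg_threeStep815 inImg_threeStep816)

/-- step 818 -/
def threeStep818 : ℕ := mulP threeStep814 threeStep817

theorem inImg_threeStep818 : InImg threeStep818 := (InImg.mul inImg_threeStep814 inImg_threeStep817)

/-- step 819 -/
def threeStep819 : ℕ := mulP threeStep12 threeStep511

theorem inImg_threeStep819 : InImg threeStep819 := (InImg.mul inImg_threeStep12 inImg_threeStep511)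

/-- step 820 -/
def threeStep820 : ℕ := mulP threeStep131 threeStep819

theorem inImg_threeStep820 : InImg threeStep820 := (InImg.mul inImg_threeStep131 inImg_threeStep819)

/-- step 821 -/
def threeStep821 : ℕ := mulP threeStep0 threeStep136

theorem inImg_threeStep821 : InImg threeStep821 := (InImg.mul inImg_threeStep0 inImg_threeStep136)

/-- step 822 -/
def threeStep822 : ℕ := mulP threeStep473 threeStep821

theorem inImg_threeStep822 : InImg threeStep822 := (InImg.mul inImg_threeStep473 inImg_threeStep821)

/-- step 823 -/
def threeStep823 : ℕ := mulP threeStep820 threeStep822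

theorem inImg_threeStep823 : InImg threeStep823 := (InImg.mul inImg_threeStep820 inImg_threeStep822)

/-- step 824 -/
def threeStep824 : ℕ := mulP threeStep818 threeStep823

theorem inImg_threeStep824 : InImg threeStep824 := (InImg.mul inImg_threeStep818 inImg_threeStep823)

theorem eq_threeMat825 : Nat.beq threeMat825 (mulP threeStep611 threeStep824) = true := by decide +kernel

theorem inImg_threeMat825 : InImg threeMat825 :=
  Nat.eq_of_beq_eq_true eq_threeMat825 ▸ (InImg.mul inImg_threeStep611 inImg_threeStep824)

/-- step 826 -/
def threeStep826 : ℕ := mulP threeMat825 threeStep677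

theorem inImg_threeStep826 : InImg threeStep826 := (InImg.mul inImg_threeMat825 inImg_threeStep677)

/-- step 827 -/
def threeStep827 : ℕ := mulP threeStep812 threeStep826

theorem inImg_threeStep827 : InImg threeStep827 := (InImg.mul inImg_threeStep812 inImg_threeStep826)

/-- step 828 -/
def threeStep828 : ℕ := mulP (genN .u) threeStep31

theorem inImg_threeStep828 : InImg threeStep828 := (InImg.mul (inImg_gen .u) inImg_threeStep31)

/-- step 829 -/
def threeStep829 : ℕ := mulP (genN .d) threeStep31

theorem inImg_threeStep829 : InImg threeStep829 := (InImg.mul (inImg_gen .d) inImg_threeStep31)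

/-- step 830 -/
def threeStep830 : ℕ := mulP threeStep828 threeStep829

theorem inImg_threeStep830 : InImg threeStep830 := (InImg.mul inImg_threeStep828 inImg_threeStep829)

/-- step 831 -/
def threeStep831 : ℕ := mulP (genN .t) (genN .u)

theorem inImg_threeStep831 : InImg threeStep831 := (InImg.mul (inImg_gen .t) (inImg_gen .u))

/-- step 832 -/
def threeStep832 : ℕ := mulP (genN .s) threeStep831

theorem inImg_threeStep832 : InImg threeStep832 := (InImg.mul (inImg_gen .s) inImg_threeStep831)

/-- step 833 -/
def threeStep833 : ℕ := mulP (genN .c) threeStep38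

theorem inImg_threeStep833 : InImg threeStep833 := (InImg.mul (inImg_gen .c) inImg_threeStep38)

/-- step 834 -/
def threeStep834 : ℕ := mulP threeStep832 threeStep833

theorem inImg_threeStep834 : InImg threeStep834 := (InImg.mul inImg_threeStep832 inImg_threeStep833)

/-- step 835 -/
def threeStep835 : ℕ := mulP threeStep830 threeStep834

theorem inImg_threeStep835 : InImg threeStep835 := (InImg.mul inImg_threeStep830 inImg_threeStep834)

/-- step 836 -/
def threeStep836 : ℕ := mulP threeStep466 threeStep138

theorem inImg_threeStep836 : InImg threeStep836 := (InImg.mul inImg_threeStep466 inImg_threeStep138)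

/-- step 837 -/
def threeStep837 : ℕ := mulP threeStep836 threeStep141

theorem inImg_threeStep837 : InImg threeStep837 := (InImg.mul inImg_threeStep836 inImg_threeStep141)

/-- step 838 -/
def threeStep838 : ℕ := mulP threeStep835 threeStep837

theorem inImg_threeStep838 : InImg threeStep838 := (InImg.mul inImg_threeStep835 inImg_threeStep837)

theorem eq_threeMat839 : Nat.beq threeMat839 (mulP threeStep374 threeStep838) = true := by decide +kernel

theorem inImg_threeMat839 : InImg threeMat839 :=
  Nat.eq_of_beq_eq_true eq_threeMat839 ▸ (InImg.mul inImg_threeStep374 inImg_threeStep838)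

/-- step 840 -/
def threeStep840 : ℕ := mulP threeMat839 threeStep535

theorem inImg_threeStep840 : InImg threeStep840 := (InImg.mul inImg_threeMat839 inImg_threeStep535)

theorem eq_threeMat841 : Nat.beq threeMat841 (mulP threeStep827 threeStep840) = true := by decide +kernel

theorem inImg_threeMat841 : InImg threeMat841 :=
  Nat.eq_of_beq_eq_true eq_threeMat841 ▸ (InImg.mul inImg_threeStep827 inImg_threeStep840)

/-- step 842 -/
def threeStep842 : ℕ := mulP threeStep808 threeMat841

theorem inImg_threeStep842 : InImg threeStep842 := (InImg.mul inImg_threeStep808 inImg_threeMat841)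

/-- step 843 -/
def threeStep843 : ℕ := mulP threeStep842 threeStep842

theorem inImg_threeStep843 : InImg threeStep843 := (InImg.mul inImg_threeStep842 inImg_threeStep842)

/-- step 844 -/
def threeStep844 : ℕ := mulP threeStep843 threeStep843

theorem inImg_threeStep844 : InImg threeStep844 := (InImg.mul inImg_threeStep843 inImg_threeStep843)

/-- step 845 -/
def threeStep845 : ℕ := mulP (invN .s) threeStep29

theorem inImg_threeStep845 : InImg threeStep845 := (InImg.mul (inImg_inv .s) inImg_threeStep29)

/-- step 846 -/
def threeStep846 : ℕ := mulP threeStep390 threeStep845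

theorem inImg_threeStep846 : InImg threeStep846 := (InImg.mul inImg_threeStep390 inImg_threeStep845)

/-- step 847 -/
def threeStep847 : ℕ := mulP (genN .u) (genN .c)

theorem inImg_threeStep847 : InImg threeStep847 := (InImg.mul (inImg_gen .u) (inImg_gen .c))

/-- step 848 -/
def threeStep848 : ℕ := mulP (invN .s) threeStep847

theorem inImg_threeStep848 : InImg threeStep848 := (InImg.mul (inImg_inv .s) inImg_threeStep847)

/-- step 849 -/
def threeStep849 : ℕ := mulP threeStep420 threeStep848

theorem inImg_threeStep849 : InImg threeStep849 := (InImg.mul inImg_threeStep420 inImg_threeStep848)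

/-- step 850 -/
def threeStep850 : ℕ := mulP threeStep846 threeStep849

theorem inImg_threeStep850 : InImg threeStep850 := (InImg.mul inImg_threeStep846 inImg_threeStep849)

/-- step 851 -/
def threeStep851 : ℕ := mulP threeStep131 threeStep459

theorem inImg_threeStep851 : InImg threeStep851 := (InImg.mul inImg_threeStep131 inImg_threeStep459)

/-- step 852 -/
def threeStep852 : ℕ := mulP threeStep462 threeStep851

theorem inImg_threeStep852 : InImg threeStep852 := (InImg.mul inImg_threeStep462 inImg_threeStep851)

/-- step 853 -/
def threeStep853 : ℕ := mulP threeStep850 threeStep852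

theorem inImg_threeStep853 : InImg threeStep853 := (InImg.mul inImg_threeStep850 inImg_threeStep852)

/-- step 854 -/
def threeStep854 : ℕ := mulP (genN .s) threeStep49

theorem inImg_threeStep854 : InImg threeStep854 := (InImg.mul (inImg_gen .s) inImg_threeStep49)

/-- step 855 -/
def threeStep855 : ℕ := mulP threeStep854 threeStep125

theorem inImg_threeStep855 : InImg threeStep855 := (InImg.mul inImg_threeStep854 inImg_threeStep125)

/-- step 856 -/
def threeStep856 : ℕ := mulP threeStep462 threeStep855

theorem inImg_threeStep856 : InImg threeStep856 := (InImg.mul inImg_threeStep462 inImg_threeStep855)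

/-- step 857 -/
def threeStep857 : ℕ := mulP threeStep51 threeStep138

theorem inImg_threeStep857 : InImg threeStep857 := (InImg.mul inImg_threeStep51 inImg_threeStep138)

/-- step 858 -/
def threeStep858 : ℕ := mulP threeStep857 threeStep141

theorem inImg_threeStep858 : InImg threeStep858 := (InImg.mul inImg_threeStep857 inImg_threeStep141)

/-- step 859 -/
def threeStep859 : ℕ := mulP threeStep856 threeStep858

theorem inImg_threeStep859 : InImg threeStep859 := (InImg.mul inImg_threeStep856 inImg_threeStep858)

theorem eq_threeMat860 : Nat.beq threeMat860 (mulP threeStep853 threeStep859) = true := by decide +kernel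

theorem inImg_threeMat860 : InImg threeMat860 :=
  Nat.eq_of_beq_eq_true eq_threeMat860 ▸ (InImg.mul inImg_threeStep853 inImg_threeStep859)

/-- step 861 -/
def threeStep861 : ℕ := mulP threeStep750 threeMat860

theorem inImg_threeStep861 : InImg threeStep861 := (InImg.mul inImg_threeStep750 inImg_threeMat860)

/-- step 862 -/
def threeStep862 : ℕ := mulP threeStep861 threeStep789

theorem inImg_threeStep862 : InImg threeStep862 := (InImg.mul inImg_threeStep861 inImg_threeStep789)

/-- step 863 -/
def threeStep863 : ℕ := mulP (genN .d) threeStep4

theorem inImg_threeStep863 : InImg threeStep863 := (InImg.mul (inImg_gen .d) inImg_threeStep4)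

/-- step 864 -/
def threeStep864 : ℕ := mulP (genN .u) (genN .t)

theorem inImg_threeStep864 : InImg threeStep864 := (InImg.mul (inImg_gen .u) (inImg_gen .t))

/-- step 865 -/
def threeStep865 : ℕ := mulP threeStep864 threeStep420

theorem inImg_threeStep865 : InImg threeStep865 := (InImg.mul inImg_threeStep864 inImg_threeStep420)

/-- step 866 -/
def threeStep866 : ℕ := mulP threeStep863 threeStep865

theorem inImg_threeStep866 : InImg threeStep866 := (InImg.mul inImg_threeStep863 inImg_threeStep865)

/-- step 867 -/
def threeStep867 : ℕ := mulP threeStep118 threeStep816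

theorem inImg_threeStep867 : InImg threeStep867 := (InImg.mul inImg_threeStep118 inImg_threeStep816)

/-- step 868 -/
def threeStep868 : ℕ := mulP threeStep866 threeStep867

theorem inImg_threeStep868 : InImg threeStep868 := (InImg.mul inImg_threeStep866 inImg_threeStep867)

/-- step 869 -/
def threeStep869 : ℕ := mulP (invN .s) threeStep38

theorem inImg_threeStep869 : InImg threeStep869 := (InImg.mul (inImg_inv .s) inImg_threeStep38)

/-- step 870 -/
def threeStep870 : ℕ := mulP threeStep43 threeStep51

theorem inImg_threeStep870 : InImg threeStep870 := (InImg.mul inImg_threeStep43 inImg_threeStep51)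

/-- step 871 -/
def threeStep871 : ℕ := mulP threeStep869 threeStep870

theorem inImg_threeStep871 : InImg threeStep871 := (InImg.mul inImg_threeStep869 inImg_threeStep870)

/-- step 872 -/
def threeStep872 : ℕ := mulP threeStep779 threeStep871

theorem inImg_threeStep872 : InImg threeStep872 := (InImg.mul inImg_threeStep779 inImg_threeStep871)

/-- step 873 -/
def threeStep873 : ℕ := mulP threeStep868 threeStep872

theorem inImg_threeStep873 : InImg threeStep873 := (InImg.mul inImg_threeStep868 inImg_threeStep872)

theorem eq_threeMat874 : Nat.beq threeMat874 (mulP threeStep112 threeStep873) = true := by decide +kernel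

theorem inImg_threeMat874 : InImg threeMat874 :=
  Nat.eq_of_beq_eq_true eq_threeMat874 ▸ (InImg.mul inImg_threeStep112 inImg_threeStep873)

/-- step 875 -/
def threeStep875 : ℕ := mulP threeMat874 threeStep173

theorem inImg_threeStep875 : InImg threeStep875 := (InImg.mul inImg_threeMat874 inImg_threeStep173)

theorem eq_threeMat876 : Nat.beq threeMat876 (mulP threeStep862 threeStep875) = true := by decide +kernel

theorem inImg_threeMat876 : InImg threeMat876 :=
  Nat.eq_of_beq_eq_true eq_threeMat876 ▸ (InImg.mul inImg_threeStep862 inImg_threeStep875)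

/-- step 877 -/
def threeStep877 : ℕ := mulP threeStep844 threeMat876

theorem inImg_threeStep877 : InImg threeStep877 := (InImg.mul inImg_threeStep844 inImg_threeMat876)

theorem eq_threeMat878 : Nat.beq threeMat878 (mulP threeStep793 threeStep877) = true := by decide +kernel

theorem inImg_threeMat878 : InImg threeMat878 :=
  Nat.eq_of_beq_eq_true eq_threeMat878 ▸ (InImg.mul inImg_threeStep793 inImg_threeStep877)

/-- step 879 -/
def threeStep879 : ℕ := mulP threeStep8 threeStep713

theorem inImg_threeStep879 : InImg threeStep879 := (InImg.mul inImg_threeStep8 inImg_threeStep713)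

/-- step 880 -/
def threeStep880 : ℕ := mulP threeStep73 (genN .s)

theorem inImg_threeStep880 : InImg threeStep880 := (InImg.mul inImg_threeStep73 (inImg_gen .s))

/-- step 881 -/
def threeStep881 : ℕ := mulP threeStep879 threeStep880

theorem inImg_threeStep881 : InImg threeStep881 := (InImg.mul inImg_threeStep879 inImg_threeStep880)

/-- step 882 -/
def threeStep882 : ℕ := mulP (invN .s) threeStep76

theorem inImg_threeStep882 : InImg threeStep882 := (InImg.mul (inImg_inv .s) inImg_threeStep76)

/-- step 883 -/
def threeStep883 : ℕ := mulP threeStep35 threeStep12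

theorem inImg_threeStep883 : InImg threeStep883 := (InImg.mul inImg_threeStep35 inImg_threeStep12)

/-- step 884 -/
def threeStep884 : ℕ := mulP threeStep882 threeStep883

theorem inImg_threeStep884 : InImg threeStep884 := (InImg.mul inImg_threeStep882 inImg_threeStep883)

/-- step 885 -/
def threeStep885 : ℕ := mulP (invN .a) threeStep884

theorem inImg_threeStep885 : InImg threeStep885 := (InImg.mul (inImg_inv .a) inImg_threeStep884)

/-- step 886 -/
def threeStep886 : ℕ := mulP threeStep881 threeStep885

theorem inImg_threeStep886 : InImg threeStep886 := (InImg.mul inImg_threeStep881 inImg_threeStep885)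

/-- step 887 -/
def threeStep887 : ℕ := mulP threeStep21 threeStep287

theorem inImg_threeStep887 : InImg threeStep887 := (InImg.mul inImg_threeStep21 inImg_threeStep287)

/-- step 888 -/
def threeStep888 : ℕ := mulP threeStep87 threeStep323

theorem inImg_threeStep888 : InImg threeStep888 := (InImg.mul inImg_threeStep87 inImg_threeStep323)

/-- step 889 -/
def threeStep889 : ℕ := mulP threeStep888 threeStep375

theorem inImg_threeStep889 : InImg threeStep889 := (InImg.mul inImg_threeStep888 inImg_threeStep375)

/-- step 890 -/
def threeStep890 : ℕ := mulP threeStep887 threeStep889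

theorem inImg_threeStep890 : InImg threeStep890 := (InImg.mul inImg_threeStep887 inImg_threeStep889)

/-- step 891 -/
def threeStep891 : ℕ := mulP threeStep753 threeStep760

theorem inImg_threeStep891 : InImg threeStep891 := (InImg.mul inImg_threeStep753 inImg_threeStep760)

/-- step 892 -/
def threeStep892 : ℕ := mulP threeStep891 threeStep326

theorem inImg_threeStep892 : InImg threeStep892 := (InImg.mul inImg_threeStep891 inImg_threeStep326)

/-- step 893 -/
def threeStep893 : ℕ := mulP threeStep299 (invN .t)

theorem inImg_threeStep893 : InImg threeStep893 := (InImg.mul inImg_threeStep299 (inImg_inv .t))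

/-- step 894 -/
def threeStep894 : ℕ := mulP threeStep893 threeStep283

theorem inImg_threeStep894 : InImg threeStep894 := (InImg.mul inImg_threeStep893 inImg_threeStep283)

/-- step 895 -/
def threeStep895 : ℕ := mulP threeStep892 threeStep894

theorem inImg_threeStep895 : InImg threeStep895 := (InImg.mul inImg_threeStep892 inImg_threeStep894)

/-- step 896 -/
def threeStep896 : ℕ := mulP threeStep890 threeStep895

theorem inImg_threeStep896 : InImg threeStep896 := (InImg.mul inImg_threeStep890 inImg_threeStep895)

theorem eq_threeMat897 : Nat.beq threeMat897 (mulP threeStep886 threeStep896) = true := by decide +kernel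

theorem inImg_threeMat897 : InImg threeMat897 :=
  Nat.eq_of_beq_eq_true eq_threeMat897 ▸ (InImg.mul inImg_threeStep886 inImg_threeStep896)

/-- step 898 -/
def threeStep898 : ℕ := mulP threeMat897 threeMat897

theorem inImg_threeStep898 : InImg threeStep898 := (InImg.mul inImg_threeMat897 inImg_threeMat897)

/-- step 899 -/
def threeStep899 : ℕ := mulP threeStep898 threeMat897

theorem inImg_threeStep899 : InImg threeStep899 := (InImg.mul inImg_threeStep898 inImg_threeMat897)

/-- step 900 -/
def threeStep900 : ℕ := mulP threeStep899 threeStep881

theorem inImg_threeStep900 : InImg threeStep900 := (InImg.mul inImg_threeStep899 inImg_threeStep881)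

/-- step 901 -/
def threeStep901 : ℕ := mulP (genN .e) threeStep1

theorem inImg_threeStep901 : InImg threeStep901 := (InImg.mul (inImg_gen .e) inImg_threeStep1)

/-- step 902 -/
def threeStep902 : ℕ := mulP threeStep863 threeStep901

theorem inImg_threeStep902 : InImg threeStep902 := (InImg.mul inImg_threeStep863 inImg_threeStep901)

/-- step 903 -/
def threeStep903 : ℕ := mulP (invN .s) threeStep51

theorem inImg_threeStep903 : InImg threeStep903 := (InImg.mul (inImg_inv .s) inImg_threeStep51)

/-- step 904 -/
def threeStep904 : ℕ := mulP (genN .e) threeStep665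

theorem inImg_threeStep904 : InImg threeStep904 := (InImg.mul (inImg_gen .e) inImg_threeStep665)

/-- step 905 -/
def threeStep905 : ℕ := mulP threeStep903 threeStep904

theorem inImg_threeStep905 : InImg threeStep905 := (InImg.mul inImg_threeStep903 inImg_threeStep904)

/-- step 906 -/
def threeStep906 : ℕ := mulP threeStep902 threeStep905

theorem inImg_threeStep906 : InImg threeStep906 := (InImg.mul inImg_threeStep902 inImg_threeStep905)

/-- step 907 -/
def threeStep907 : ℕ := mulP threeStep900 threeStep906

theorem inImg_threeStep907 : InImg threeStep907 := (InImg.mul inImg_threeStep900 inImg_threeStep906)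

/-- step 908 -/
def threeStep908 : ℕ := mulP (genN .t) threeStep44

theorem inImg_threeStep908 : InImg threeStep908 := (InImg.mul (inImg_gen .t) inImg_threeStep44)

/-- step 909 -/
def threeStep909 : ℕ := mulP threeStep477 threeStep908

theorem inImg_threeStep909 : InImg threeStep909 := (InImg.mul inImg_threeStep477 inImg_threeStep908)

/-- step 910 -/
def threeStep910 : ℕ := mulP threeStep847 threeStep49

theorem inImg_threeStep910 : InImg threeStep910 := (InImg.mul inImg_threeStep847 inImg_threeStep49)

/-- step 911 -/
def threeStep911 : ℕ := mulP threeStep429 threeStep910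

theorem inImg_threeStep911 : InImg threeStep911 := (InImg.mul inImg_threeStep429 inImg_threeStep910)

/-- step 912 -/
def threeStep912 : ℕ := mulP threeStep909 threeStep911

theorem inImg_threeStep912 : InImg threeStep912 := (InImg.mul inImg_threeStep909 inImg_threeStep911)

/-- step 913 -/
def threeStep913 : ℕ := mulP threeStep51 threeStep160

theorem inImg_threeStep913 : InImg threeStep913 := (InImg.mul inImg_threeStep51 inImg_threeStep160)

/-- step 914 -/
def threeStep914 : ℕ := mulP threeStep125 threeStep913

theorem inImg_threeStep914 : InImg threeStep914 := (InImg.mul inImg_threeStep125 inImg_threeStep913)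

/-- step 915 -/
def threeStep915 : ℕ := mulP threeStep473 threeStep58

theorem inImg_threeStep915 : InImg threeStep915 := (InImg.mul inImg_threeStep473 inImg_threeStep58)

/-- step 916 -/
def threeStep916 : ℕ := mulP threeStep914 threeStep915

theorem inImg_threeStep916 : InImg threeStep916 := (InImg.mul inImg_threeStep914 inImg_threeStep915)

/-- step 917 -/
def threeStep917 : ℕ := mulP threeStep912 threeStep916

theorem inImg_threeStep917 : InImg threeStep917 := (InImg.mul inImg_threeStep912 inImg_threeStep916)

/-- step 918 -/
def threeStep918 : ℕ := mulP threeStep881 (genN .a)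

theorem inImg_threeStep918 : InImg threeStep918 := (InImg.mul inImg_threeStep881 (inImg_gen .a))

/-- step 919 -/
def threeStep919 : ℕ := mulP threeStep918 threeStep884

theorem inImg_threeStep919 : InImg threeStep919 := (InImg.mul inImg_threeStep918 inImg_threeStep884)

theorem eq_threeMat920 : Nat.beq threeMat920 (mulP threeStep917 threeStep919) = true := by decide +kernel

theorem inImg_threeMat920 : InImg threeMat920 :=
  Nat.eq_of_beq_eq_true eq_threeMat920 ▸ (InImg.mul inImg_threeStep917 inImg_threeStep919)

/-- step 921 -/
def threeStep921 : ℕ := mulP threeMat920 threeMat920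

theorem inImg_threeStep921 : InImg threeStep921 := (InImg.mul inImg_threeMat920 inImg_threeMat920)

/-- step 922 -/
def threeStep922 : ℕ := mulP threeMat920 threeStep921

theorem inImg_threeStep922 : InImg threeStep922 := (InImg.mul inImg_threeMat920 inImg_threeStep921)

/-- step 923 -/
def threeStep923 : ℕ := mulP threeStep884 threeStep922

theorem inImg_threeStep923 : InImg threeStep923 := (InImg.mul inImg_threeStep884 inImg_threeStep922)

theorem eq_threeMat924 : Nat.beq threeMat924 (mulP threeStep907 threeStep923) = true := by decide +kernel

theorem inImg_threeMat924 : InImg threeMat924 :=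
  Nat.eq_of_beq_eq_true eq_threeMat924 ▸ (InImg.mul inImg_threeStep907 inImg_threeStep923)

/-- step 925 -/
def threeStep925 : ℕ := mulP (genN .e) threeStep146

theorem inImg_threeStep925 : InImg threeStep925 := (InImg.mul (inImg_gen .e) inImg_threeStep146)

/-- step 926 -/
def threeStep926 : ℕ := mulP threeStep447 threeStep3

theorem inImg_threeStep926 : InImg threeStep926 := (InImg.mul inImg_threeStep447 inImg_threeStep3)

/-- step 927 -/
def threeStep927 : ℕ := mulP threeStep925 threeStep926

theorem inImg_threeStep927 : InImg threeStep927 := (InImg.mul inImg_threeStep925 inImg_threeStep926)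

/-- step 928 -/
def threeStep928 : ℕ := mulP threeStep29 threeStep151

theorem inImg_threeStep928 : InImg threeStep928 := (InImg.mul inImg_threeStep29 inImg_threeStep151)

/-- step 929 -/
def threeStep929 : ℕ := mulP threeStep43 threeStep511

theorem inImg_threeStep929 : InImg threeStep929 := (InImg.mul inImg_threeStep43 inImg_threeStep511)

/-- step 930 -/
def threeStep930 : ℕ := mulP threeStep928 threeStep929

theorem inImg_threeStep930 : InImg threeStep930 := (InImg.mul inImg_threeStep928 inImg_threeStep929)

/-- step 931 -/
def threeStep931 : ℕ := mulP threeStep927 threeStep930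

theorem inImg_threeStep931 : InImg threeStep931 := (InImg.mul inImg_threeStep927 inImg_threeStep930)

/-- step 932 -/
def threeStep932 : ℕ := mulP threeStep4 threeStep186

theorem inImg_threeStep932 : InImg threeStep932 := (InImg.mul inImg_threeStep4 inImg_threeStep186)

/-- step 933 -/
def threeStep933 : ℕ := mulP threeStep47 threeStep932

theorem inImg_threeStep933 : InImg threeStep933 := (InImg.mul inImg_threeStep47 inImg_threeStep932)

/-- step 934 -/
def threeStep934 : ℕ := mulP threeStep933 threeStep804

theorem inImg_threeStep934 : InImg threeStep934 := (InImg.mul inImg_threeStep933 inImg_threeStep804)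

/-- step 935 -/
def threeStep935 : ℕ := mulP threeStep931 threeStep934

theorem inImg_threeStep935 : InImg threeStep935 := (InImg.mul inImg_threeStep931 inImg_threeStep934)

theorem eq_threeMat936 : Nat.beq threeMat936 (mulP threeStep750 threeStep935) = true := by decide +kernel

theorem inImg_threeMat936 : InImg threeMat936 :=
  Nat.eq_of_beq_eq_true eq_threeMat936 ▸ (InImg.mul inImg_threeStep750 inImg_threeStep935)

/-- step 937 -/
def threeStep937 : ℕ := mulP threeMat936 threeStep789

theorem inImg_threeStep937 : InImg threeStep937 := (InImg.mul inImg_threeMat936 inImg_threeStep789)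

/-- step 938 -/
def threeStep938 : ℕ := mulP threeMat924 threeStep937

theorem inImg_threeStep938 : InImg threeStep938 := (InImg.mul inImg_threeMat924 inImg_threeStep937)

theorem eq_threeMat939 : Nat.beq threeMat939 (mulP threeStep938 threeStep70) = true := by decide +kernel

theorem inImg_threeMat939 : InImg threeMat939 :=
  Nat.eq_of_beq_eq_true eq_threeMat939 ▸ (InImg.mul inImg_threeStep938 inImg_threeStep70)

/-- step 940 -/
def threeStep940 : ℕ := mulP threeMat939 threeMat939

theorem inImg_threeStep940 : InImg threeStep940 := (InImg.mul inImg_threeMat939 inImg_threeMat939)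

theorem eq_threeMat941 : Nat.beq threeMat941 (mulP threeMat939 threeStep940) = true := by decide +kernel

theorem inImg_threeMat941 : InImg threeMat941 :=
  Nat.eq_of_beq_eq_true eq_threeMat941 ▸ (InImg.mul inImg_threeMat939 inImg_threeStep940)

/-- step 942 -/
def threeStep942 : ℕ := mulP (genN .s) threeStep628

theorem inImg_threeStep942 : InImg threeStep942 := (InImg.mul (inImg_gen .s) inImg_threeStep628)

/-- step 943 -/
def threeStep943 : ℕ := mulP threeStep29 threeStep420

theorem inImg_threeStep943 : InImg threeStep943 := (InImg.mul inImg_threeStep29 inImg_threeStep420)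

/-- step 944 -/
def threeStep944 : ℕ := mulP threeStep942 threeStep943

theorem inImg_threeStep944 : InImg threeStep944 := (InImg.mul inImg_threeStep942 inImg_threeStep943)

/-- step 945 -/
def threeStep945 : ℕ := mulP (invN .t) (genN .c)

theorem inImg_threeStep945 : InImg threeStep945 := (InImg.mul (inImg_inv .t) (inImg_gen .c))

/-- step 946 -/
def threeStep946 : ℕ := mulP threeStep945 threeStep37

theorem inImg_threeStep946 : InImg threeStep946 := (InImg.mul inImg_threeStep945 inImg_threeStep37)

/-- step 947 -/
def threeStep947 : ℕ := mulP (genN .d) (invN .d)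

theorem inImg_threeStep947 : InImg threeStep947 := (InImg.mul (inImg_gen .d) (inImg_inv .d))

/-- step 948 -/
def threeStep948 : ℕ := mulP threeStep947 threeStep122

theorem inImg_threeStep948 : InImg threeStep948 := (InImg.mul inImg_threeStep947 inImg_threeStep122)

/-- step 949 -/
def threeStep949 : ℕ := mulP threeStep946 threeStep948

theorem inImg_threeStep949 : InImg threeStep949 := (InImg.mul inImg_threeStep946 inImg_threeStep948)

/-- step 950 -/
def threeStep950 : ℕ := mulP threeStep944 threeStep949

theorem inImg_threeStep950 : InImg threeStep950 := (InImg.mul inImg_threeStep944 inImg_threeStep949)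

/-- step 951 -/
def threeStep951 : ℕ := mulP threeStep125 threeStep932

theorem inImg_threeStep951 : InImg threeStep951 := (InImg.mul inImg_threeStep125 inImg_threeStep932)

/-- step 952 -/
def threeStep952 : ℕ := mulP threeStep951 threeStep804

theorem inImg_threeStep952 : InImg threeStep952 := (InImg.mul inImg_threeStep951 inImg_threeStep804)

/-- step 953 -/
def threeStep953 : ℕ := mulP threeStep950 threeStep952

theorem inImg_threeStep953 : InImg threeStep953 := (InImg.mul inImg_threeStep950 inImg_threeStep952)

theorem eq_threeMat954 : Nat.beq threeMat954 (mulP threeStep374 threeStep953) = true := by decide +kernel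

theorem inImg_threeMat954 : InImg threeMat954 :=
  Nat.eq_of_beq_eq_true eq_threeMat954 ▸ (InImg.mul inImg_threeStep374 inImg_threeStep953)

/-- step 955 -/
def threeStep955 : ℕ := mulP threeMat954 threeStep535

theorem inImg_threeStep955 : InImg threeStep955 := (InImg.mul inImg_threeMat954 inImg_threeStep535)

/-- step 956 -/
def threeStep956 : ℕ := mulP (invN .u) (invN .b)

theorem inImg_threeStep956 : InImg threeStep956 := (InImg.mul (inImg_inv .u) (inImg_inv .b))

/-- step 957 -/
def threeStep957 : ℕ := mulP (invN .d) (invN .a)

theorem inImg_threeStep957 : InImg threeStep957 := (InImg.mul (inImg_inv .d) (inImg_inv .a))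

/-- step 958 -/
def threeStep958 : ℕ := mulP threeStep956 threeStep957

theorem inImg_threeStep958 : InImg threeStep958 := (InImg.mul inImg_threeStep956 inImg_threeStep957)

/-- step 959 -/
def threeStep959 : ℕ := mulP threeStep544 (invN .b)

theorem inImg_threeStep959 : InImg threeStep959 := (InImg.mul inImg_threeStep544 (inImg_inv .b))

/-- step 960 -/
def threeStep960 : ℕ := mulP threeStep958 threeStep959

theorem inImg_threeStep960 : InImg threeStep960 := (InImg.mul inImg_threeStep958 inImg_threeStep959)

/-- step 961 -/
def threeStep961 : ℕ := mulP (genN .b) threeStep202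

theorem inImg_threeStep961 : InImg threeStep961 := (InImg.mul (inImg_gen .b) inImg_threeStep202)

/-- step 962 -/
def threeStep962 : ℕ := mulP (genN .a) (genN .d)

theorem inImg_threeStep962 : InImg threeStep962 := (InImg.mul (inImg_gen .a) (inImg_gen .d))

/-- step 963 -/
def threeStep963 : ℕ := mulP (genN .b) (genN .u)

theorem inImg_threeStep963 : InImg threeStep963 := (InImg.mul (inImg_gen .b) (inImg_gen .u))

/-- step 964 -/
def threeStep964 : ℕ := mulP threeStep962 threeStep963

theorem inImg_threeStep964 : InImg threeStep964 := (InImg.mul inImg_threeStep962 inImg_threeStep963)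

/-- step 965 -/
def threeStep965 : ℕ := mulP threeStep961 threeStep964

theorem inImg_threeStep965 : InImg threeStep965 := (InImg.mul inImg_threeStep961 inImg_threeStep964)

/-- step 966 -/
def threeStep966 : ℕ := mulP (invN .a) threeStep965

theorem inImg_threeStep966 : InImg threeStep966 := (InImg.mul (inImg_inv .a) inImg_threeStep965)

/-- step 967 -/
def threeStep967 : ℕ := mulP threeStep960 threeStep966

theorem inImg_threeStep967 : InImg threeStep967 := (InImg.mul inImg_threeStep960 inImg_threeStep966)

/-- step 968 -/
def threeStep968 : ℕ := mulP threeStep282 threeStep98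

theorem inImg_threeStep968 : InImg threeStep968 := (InImg.mul inImg_threeStep282 inImg_threeStep98)

/-- step 969 -/
def threeStep969 : ℕ := mulP threeStep968 threeStep741

theorem inImg_threeStep969 : InImg threeStep969 := (InImg.mul inImg_threeStep968 inImg_threeStep741)

/-- step 970 -/
def threeStep970 : ℕ := mulP threeStep967 threeStep969

theorem inImg_threeStep970 : InImg threeStep970 := (InImg.mul inImg_threeStep967 inImg_threeStep969)

/-- step 971 -/
def threeStep971 : ℕ := mulP threeStep970 threeStep970

theorem inImg_threeStep971 : InImg threeStep971 := (InImg.mul inImg_threeStep970 inImg_threeStep970)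

/-- step 972 -/
def threeStep972 : ℕ := mulP threeStep971 threeStep971

theorem inImg_threeStep972 : InImg threeStep972 := (InImg.mul inImg_threeStep971 inImg_threeStep971)

/-- step 973 -/
def threeStep973 : ℕ := mulP threeStep972 threeStep960

theorem inImg_threeStep973 : InImg threeStep973 := (InImg.mul inImg_threeStep972 inImg_threeStep960)

/-- step 974 -/
def threeStep974 : ℕ := mulP (genN .e) threeStep420

theorem inImg_threeStep974 : InImg threeStep974 := (InImg.mul (inImg_gen .e) inImg_threeStep420)

/-- step 975 -/
def threeStep975 : ℕ := mulP threeStep29 threeStep447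

theorem inImg_threeStep975 : InImg threeStep975 := (InImg.mul inImg_threeStep29 inImg_threeStep447)

/-- step 976 -/
def threeStep976 : ℕ := mulP threeStep974 threeStep975

theorem inImg_threeStep976 : InImg threeStep976 := (InImg.mul inImg_threeStep974 inImg_threeStep975)

/-- step 977 -/
def threeStep977 : ℕ := mulP (genN .e) threeStep51

theorem inImg_threeStep977 : InImg threeStep977 := (InImg.mul (inImg_gen .e) inImg_threeStep51)

/-- step 978 -/
def threeStep978 : ℕ := mulP threeStep418 threeStep122

theorem inImg_threeStep978 : InImg threeStep978 := (InImg.mul inImg_threeStep418 inImg_threeStep122)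

/-- step 979 -/
def threeStep979 : ℕ := mulP threeStep977 threeStep978

theorem inImg_threeStep979 : InImg threeStep979 := (InImg.mul inImg_threeStep977 inImg_threeStep978)

/-- step 980 -/
def threeStep980 : ℕ := mulP threeStep976 threeStep979

theorem inImg_threeStep980 : InImg threeStep980 := (InImg.mul inImg_threeStep976 inImg_threeStep979)

/-- step 981 -/
def threeStep981 : ℕ := mulP threeStep4 threeStep511

theorem inImg_threeStep981 : InImg threeStep981 := (InImg.mul inImg_threeStep4 inImg_threeStep511)

/-- step 982 -/
def threeStep982 : ℕ := mulP threeStep125 threeStep981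

theorem inImg_threeStep982 : InImg threeStep982 := (InImg.mul inImg_threeStep125 inImg_threeStep981)

/-- step 983 -/
def threeStep983 : ℕ := mulP threeStep982 threeStep822

theorem inImg_threeStep983 : InImg threeStep983 := (InImg.mul inImg_threeStep982 inImg_threeStep822)

/-- step 984 -/
def threeStep984 : ℕ := mulP threeStep980 threeStep983

theorem inImg_threeStep984 : InImg threeStep984 := (InImg.mul inImg_threeStep980 inImg_threeStep983)

theorem eq_threeMat985 : Nat.beq threeMat985 (mulP threeStep973 threeStep984) = true := by decide +kernel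

theorem inImg_threeMat985 : InImg threeMat985 :=
  Nat.eq_of_beq_eq_true eq_threeMat985 ▸ (InImg.mul inImg_threeStep973 inImg_threeStep984)

/-- step 986 -/
def threeStep986 : ℕ := mulP threeStep150 threeStep3

theorem inImg_threeStep986 : InImg threeStep986 := (InImg.mul inImg_threeStep150 inImg_threeStep3)

/-- step 987 -/
def threeStep987 : ℕ := mulP threeStep768 threeStep986

theorem inImg_threeStep987 : InImg threeStep987 := (InImg.mul inImg_threeStep768 inImg_threeStep986)

/-- step 988 -/
def threeStep988 : ℕ := mulP threeStep960 (genN .a)

theorem inImg_threeStep988 : InImg threeStep988 := (InImg.mul inImg_threeStep960 (inImg_gen .a))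

/-- step 989 -/
def threeStep989 : ℕ := mulP threeStep988 threeStep965

theorem inImg_threeStep989 : InImg threeStep989 := (InImg.mul inImg_threeStep988 inImg_threeStep965)

/-- step 990 -/
def threeStep990 : ℕ := mulP threeStep987 threeStep989

theorem inImg_threeStep990 : InImg threeStep990 := (InImg.mul inImg_threeStep987 inImg_threeStep989)

/-- step 991 -/
def threeStep991 : ℕ := mulP threeStep990 threeStep990

theorem inImg_threeStep991 : InImg threeStep991 := (InImg.mul inImg_threeStep990 inImg_threeStep990)

/-- step 992 -/
def threeStep992 : ℕ := mulP threeStep991 threeStep991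

theorem inImg_threeStep992 : InImg threeStep992 := (InImg.mul inImg_threeStep991 inImg_threeStep991)

/-- step 993 -/
def threeStep993 : ℕ := mulP threeStep965 threeStep992

theorem inImg_threeStep993 : InImg threeStep993 := (InImg.mul inImg_threeStep965 inImg_threeStep992)

/-- step 994 -/
def threeStep994 : ℕ := mulP threeMat985 threeStep993

theorem inImg_threeStep994 : InImg threeStep994 := (InImg.mul inImg_threeMat985 inImg_threeStep993)

theorem eq_threeMat995 : Nat.beq threeMat995 (mulP threeStep955 threeStep994) = true := by decide +kernel

theorem inImg_threeMat995 : InImg threeMat995 :=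
  Nat.eq_of_beq_eq_true eq_threeMat995 ▸ (InImg.mul inImg_threeStep955 inImg_threeStep994)

/-- step 996 -/
def threeStep996 : ℕ := mulP (invN .b) (invN .d)

theorem inImg_threeStep996 : InImg threeStep996 := (InImg.mul (inImg_inv .b) (inImg_inv .d))

/-- step 997 -/
def threeStep997 : ℕ := mulP threeStep996 threeStep359

theorem inImg_threeStep997 : InImg threeStep997 := (InImg.mul inImg_threeStep996 inImg_threeStep359)

/-- step 998 -/
def threeStep998 : ℕ := mulP (genN .d) (genN .b)

theorem inImg_threeStep998 : InImg threeStep998 := (InImg.mul (inImg_gen .d) (inImg_gen .b))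

/-- step 999 -/
def threeStep999 : ℕ := mulP threeStep393 threeStep998

theorem inImg_threeStep999 : InImg threeStep999 := (InImg.mul inImg_threeStep393 inImg_threeStep998)

/-- step 1000 -/
def threeStep1000 : ℕ := mulP (invN .a) threeStep999

theorem inImg_threeStep1000 : InImg threeStep1000 := (InImg.mul (inImg_inv .a) inImg_threeStep999)

/-- step 1001 -/
def threeStep1001 : ℕ := mulP threeStep997 threeStep1000

theorem inImg_threeStep1001 : InImg threeStep1001 := (InImg.mul inImg_threeStep997 inImg_threeStep1000)

/-- step 1002 -/
def threeStep1002 : ℕ := mulP threeStep280 threeStep683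

theorem inImg_threeStep1002 : InImg threeStep1002 := (InImg.mul inImg_threeStep280 inImg_threeStep683)

/-- step 1003 -/
def threeStep1003 : ℕ := mulP threeStep220 threeStep221

theorem inImg_threeStep1003 : InImg threeStep1003 := (InImg.mul inImg_threeStep220 inImg_threeStep221)

/-- step 1004 -/
def threeStep1004 : ℕ := mulP (invN .a) (genN .d)

theorem inImg_threeStep1004 : InImg threeStep1004 := (InImg.mul (inImg_inv .a) (inImg_gen .d))

/-- step 1005 -/
def threeStep1005 : ℕ := mulP threeStep1004 (invN .u)

theorem inImg_threeStep1005 : InImg threeStep1005 := (InImg.mul inImg_threeStep1004 (inImg_inv .u))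

/-- step 1006 -/
def threeStep1006 : ℕ := mulP threeStep1005 threeStep268

theorem inImg_threeStep1006 : InImg threeStep1006 := (InImg.mul inImg_threeStep1005 inImg_threeStep268)

/-- step 1007 -/
def threeStep1007 : ℕ := mulP threeStep1003 threeStep1006

theorem inImg_threeStep1007 : InImg threeStep1007 := (InImg.mul inImg_threeStep1003 inImg_threeStep1006)

/-- step 1008 -/
def threeStep1008 : ℕ := mulP (invN .s) (invN .b)

theorem inImg_threeStep1008 : InImg threeStep1008 := (InImg.mul (inImg_inv .s) (inImg_inv .b))

/-- step 1009 -/
def threeStep1009 : ℕ := mulP threeStep1008 (genN .s)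

theorem inImg_threeStep1009 : InImg threeStep1009 := (InImg.mul inImg_threeStep1008 (inImg_gen .s))

/-- step 1010 -/
def threeStep1010 : ℕ := mulP threeStep1009 threeStep273

theorem inImg_threeStep1010 : InImg threeStep1010 := (InImg.mul inImg_threeStep1009 inImg_threeStep273)

/-- step 1011 -/
def threeStep1011 : ℕ := mulP threeStep221 (invN .e)

theorem inImg_threeStep1011 : InImg threeStep1011 := (InImg.mul inImg_threeStep221 (inImg_inv .e))

/-- step 1012 -/
def threeStep1012 : ℕ := mulP threeStep1011 threeStep16

theorem inImg_threeStep1012 : InImg threeStep1012 := (InImg.mul inImg_threeStep1011 inImg_threeStep16)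

/-- step 1013 -/
def threeStep1013 : ℕ := mulP threeStep1010 threeStep1012

theorem inImg_threeStep1013 : InImg threeStep1013 := (InImg.mul inImg_threeStep1010 inImg_threeStep1012)

/-- step 1014 -/
def threeStep1014 : ℕ := mulP threeStep1007 threeStep1013

theorem inImg_threeStep1014 : InImg threeStep1014 := (InImg.mul inImg_threeStep1007 inImg_threeStep1013)

/-- step 1015 -/
def threeStep1015 : ℕ := mulP threeStep375 threeStep377

theorem inImg_threeStep1015 : InImg threeStep1015 := (InImg.mul inImg_threeStep375 inImg_threeStep377)

/-- step 1016 -/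
def threeStep1016 : ℕ := mulP threeStep238 threeStep20

theorem inImg_threeStep1016 : InImg threeStep1016 := (InImg.mul inImg_threeStep238 inImg_threeStep20)

/-- step 1017 -/
def threeStep1017 : ℕ := mulP threeStep1015 threeStep1016

theorem inImg_threeStep1017 : InImg threeStep1017 := (InImg.mul inImg_threeStep1015 inImg_threeStep1016)

/-- step 1018 -/
def threeStep1018 : ℕ := mulP threeStep287 threeStep243

theorem inImg_threeStep1018 : InImg threeStep1018 := (InImg.mul inImg_threeStep287 inImg_threeStep243)

/-- step 1019 -/
def threeStep1019 : ℕ := mulP threeStep323 (invN .d)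

theorem inImg_threeStep1019 : InImg threeStep1019 := (InImg.mul inImg_threeStep323 (inImg_inv .d))

/-- step 1020 -/
def threeStep1020 : ℕ := mulP threeStep1019 threeStep90

theorem inImg_threeStep1020 : InImg threeStep1020 := (InImg.mul inImg_threeStep1019 inImg_threeStep90)

/-- step 1021 -/
def threeStep1021 : ℕ := mulP threeStep1018 threeStep1020

theorem inImg_threeStep1021 : InImg threeStep1021 := (InImg.mul inImg_threeStep1018 inImg_threeStep1020)

/-- step 1022 -/
def threeStep1022 : ℕ := mulP threeStep1017 threeStep1021

theorem inImg_threeStep1022 : InImg threeStep1022 := (InImg.mul inImg_threeStep1017 inImg_threeStep1021)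

theorem eq_threeMat1023 : Nat.beq threeMat1023 (mulP threeStep1014 threeStep1022) = true := by decide +kernel

theorem inImg_threeMat1023 : InImg threeMat1023 :=
  Nat.eq_of_beq_eq_true eq_threeMat1023 ▸ (InImg.mul inImg_threeStep1014 inImg_threeStep1022)

/-- step 1024 -/
def threeStep1024 : ℕ := mulP threeStep753 (invN .u)

theorem inImg_threeStep1024 : InImg threeStep1024 := (InImg.mul inImg_threeStep753 (inImg_inv .u))

/-- step 1025 -/
def threeStep1025 : ℕ := mulP threeStep1024 threeStep84

theorem inImg_threeStep1025 : InImg threeStep1025 := (InImg.mul inImg_threeStep1024 inImg_threeStep84)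

/-- step 1026 -/
def threeStep1026 : ℕ := mulP threeStep1025 threeStep249

theorem inImg_threeStep1026 : InImg threeStep1026 := (InImg.mul inImg_threeStep1025 inImg_threeStep249)

/-- step 1027 -/
def threeStep1027 : ℕ := mulP threeStep86 (invN .a)

theorem inImg_threeStep1027 : InImg threeStep1027 := (InImg.mul inImg_threeStep86 (inImg_inv .a))

/-- step 1028 -/
def threeStep1028 : ℕ := mulP threeStep1027 threeStep16

theorem inImg_threeStep1028 : InImg threeStep1028 := (InImg.mul inImg_threeStep1027 inImg_threeStep16)

/-- step 1029 -/
def threeStep1029 : ℕ := mulP threeStep1019 threeStep308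

theorem inImg_threeStep1029 : InImg threeStep1029 := (InImg.mul inImg_threeStep1019 inImg_threeStep308)

/-- step 1030 -/
def threeStep1030 : ℕ := mulP threeStep1028 threeStep1029

theorem inImg_threeStep1030 : InImg threeStep1030 := (InImg.mul inImg_threeStep1028 inImg_threeStep1029)

/-- step 1031 -/
def threeStep1031 : ℕ := mulP threeStep1026 threeStep1030

theorem inImg_threeStep1031 : InImg threeStep1031 := (InImg.mul inImg_threeStep1026 inImg_threeStep1030)

/-- step 1032 -/
def threeStep1032 : ℕ := mulP threeStep312 (invN .e)

theorem inImg_threeStep1032 : InImg threeStep1032 := (InImg.mul inImg_threeStep312 (inImg_inv .e))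

/-- step 1033 -/
def threeStep1033 : ℕ := mulP (invN .u) (genN .c)

theorem inImg_threeStep1033 : InImg threeStep1033 := (InImg.mul (inImg_inv .u) (inImg_gen .c))

/-- step 1034 -/
def threeStep1034 : ℕ := mulP threeStep1032 threeStep1033

theorem inImg_threeStep1034 : InImg threeStep1034 := (InImg.mul inImg_threeStep1032 inImg_threeStep1033)

/-- step 1035 -/
def threeStep1035 : ℕ := mulP threeStep226 (genN .b)

theorem inImg_threeStep1035 : InImg threeStep1035 := (InImg.mul inImg_threeStep226 (inImg_gen .b))

/-- step 1036 -/
def threeStep1036 : ℕ := mulP threeStep1035 threeStep219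

theorem inImg_threeStep1036 : InImg threeStep1036 := (InImg.mul inImg_threeStep1035 inImg_threeStep219)

/-- step 1037 -/
def threeStep1037 : ℕ := mulP threeStep1034 threeStep1036

theorem inImg_threeStep1037 : InImg threeStep1037 := (InImg.mul inImg_threeStep1034 inImg_threeStep1036)

/-- step 1038 -/
def threeStep1038 : ℕ := mulP (genN .a) (genN .d)

theorem inImg_threeStep1038 : InImg threeStep1038 := (InImg.mul (inImg_gen .a) (inImg_gen .d))

/-- step 1039 -/
def threeStep1039 : ℕ := mulP threeStep232 threeStep1038

theorem inImg_threeStep1039 : InImg threeStep1039 := (InImg.mul inImg_threeStep232 inImg_threeStep1038)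

/-- step 1040 -/
def threeStep1040 : ℕ := mulP threeStep1033 threeStep226

theorem inImg_threeStep1040 : InImg threeStep1040 := (InImg.mul inImg_threeStep1033 inImg_threeStep226)

/-- step 1041 -/
def threeStep1041 : ℕ := mulP threeStep1039 threeStep1040

theorem inImg_threeStep1041 : InImg threeStep1041 := (InImg.mul inImg_threeStep1039 inImg_threeStep1040)

/-- step 1042 -/
def threeStep1042 : ℕ := mulP threeStep1037 threeStep1041

theorem inImg_threeStep1042 : InImg threeStep1042 := (InImg.mul inImg_threeStep1037 inImg_threeStep1041)

theorem eq_threeMat1043 : Nat.beq threeMat1043 (mulP threeStep1031 threeStep1042) = true := by decide +kernel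

theorem inImg_threeMat1043 : InImg threeMat1043 :=
  Nat.eq_of_beq_eq_true eq_threeMat1043 ▸ (InImg.mul inImg_threeStep1031 inImg_threeStep1042)

/-- step 1044 -/
def threeStep1044 : ℕ := mulP threeMat1023 threeMat1043

theorem inImg_threeStep1044 : InImg threeStep1044 := (InImg.mul inImg_threeMat1023 inImg_threeMat1043)

/-- step 1045 -/
def threeStep1045 : ℕ := mulP threeStep1002 threeStep1044

theorem inImg_threeStep1045 : InImg threeStep1045 := (InImg.mul inImg_threeStep1002 inImg_threeStep1044)

/-- step 1046 -/
def threeStep1046 : ℕ := mulP threeStep1045 threeStep1045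

theorem inImg_threeStep1046 : InImg threeStep1046 := (InImg.mul inImg_threeStep1045 inImg_threeStep1045)

/-- step 1047 -/
def threeStep1047 : ℕ := mulP threeStep1046 threeStep1046

theorem inImg_threeStep1047 : InImg threeStep1047 := (InImg.mul inImg_threeStep1046 inImg_threeStep1046)

/-- step 1048 -/
def threeStep1048 : ℕ := mulP threeStep1047 threeStep1047

theorem inImg_threeStep1048 : InImg threeStep1048 := (InImg.mul inImg_threeStep1047 inImg_threeStep1047)

/-- step 1049 -/
def threeStep1049 : ℕ := mulP threeStep1048 threeStep1048

theorem inImg_threeStep1049 : InImg threeStep1049 := (InImg.mul inImg_threeStep1048 inImg_threeStep1048)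

/-- step 1050 -/
def threeStep1050 : ℕ := mulP threeStep1049 threeStep1046

theorem inImg_threeStep1050 : InImg threeStep1050 := (InImg.mul inImg_threeStep1049 inImg_threeStep1046)

/-- step 1051 -/
def threeStep1051 : ℕ := mulP threeStep1001 threeStep1050

theorem inImg_threeStep1051 : InImg threeStep1051 := (InImg.mul inImg_threeStep1001 inImg_threeStep1050)

/-- step 1052 -/
def threeStep1052 : ℕ := mulP threeStep1051 threeStep997

theorem inImg_threeStep1052 : InImg threeStep1052 := (InImg.mul inImg_threeStep1051 inImg_threeStep997)

/-- step 1053 -/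
def threeStep1053 : ℕ := mulP (genN .d) (genN .t)

theorem inImg_threeStep1053 : InImg threeStep1053 := (InImg.mul (inImg_gen .d) (inImg_gen .t))

/-- step 1054 -/
def threeStep1054 : ℕ := mulP (genN .u) threeStep1053

theorem inImg_threeStep1054 : InImg threeStep1054 := (InImg.mul (inImg_gen .u) inImg_threeStep1053)

/-- step 1055 -/
def threeStep1055 : ℕ := mulP threeStep1054 threeStep429

theorem inImg_threeStep1055 : InImg threeStep1055 := (InImg.mul inImg_threeStep1054 inImg_threeStep429)

/-- step 1056 -/
def threeStep1056 : ℕ := mulP (genN .u) (invN .e)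

theorem inImg_threeStep1056 : InImg threeStep1056 := (InImg.mul (inImg_gen .u) (inImg_inv .e))

/-- step 1057 -/
def threeStep1057 : ℕ := mulP (genN .s) threeStep1056

theorem inImg_threeStep1057 : InImg threeStep1057 := (InImg.mul (inImg_gen .s) inImg_threeStep1056)

/-- step 1058 -/
def threeStep1058 : ℕ := mulP threeStep1057 threeStep776

theorem inImg_threeStep1058 : InImg threeStep1058 := (InImg.mul inImg_threeStep1057 inImg_threeStep776)

/-- step 1059 -/
def threeStep1059 : ℕ := mulP threeStep1055 threeStep1058

theorem inImg_threeStep1059 : InImg threeStep1059 := (InImg.mul inImg_threeStep1055 inImg_threeStep1058)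

/-- step 1060 -/
def threeStep1060 : ℕ := mulP threeStep1059 threeStep823

theorem inImg_threeStep1060 : InImg threeStep1060 := (InImg.mul inImg_threeStep1059 inImg_threeStep823)

theorem eq_threeMat1061 : Nat.beq threeMat1061 (mulP threeStep1052 threeStep1060) = true := by decide +kernel

theorem inImg_threeMat1061 : InImg threeMat1061 :=
  Nat.eq_of_beq_eq_true eq_threeMat1061 ▸ (InImg.mul inImg_threeStep1052 inImg_threeStep1060)

/-- step 1062 -/
def threeStep1062 : ℕ := mulP (invN .c) (genN .u)

theorem inImg_threeStep1062 : InImg threeStep1062 := (InImg.mul (inImg_inv .c) (inImg_gen .u))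

/-- step 1063 -/
def threeStep1063 : ℕ := mulP threeStep175 threeStep1062

theorem inImg_threeStep1063 : InImg threeStep1063 := (InImg.mul inImg_threeStep175 inImg_threeStep1062)

/-- step 1064 -/
def threeStep1064 : ℕ := mulP (invN .d) (invN .a)

theorem inImg_threeStep1064 : InImg threeStep1064 := (InImg.mul (inImg_inv .d) (inImg_inv .a))

/-- step 1065 -/
def threeStep1065 : ℕ := mulP threeStep1064 threeStep519

theorem inImg_threeStep1065 : InImg threeStep1065 := (InImg.mul inImg_threeStep1064 inImg_threeStep519)

/-- step 1066 -/
def threeStep1066 : ℕ := mulP threeStep1063 threeStep1065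

theorem inImg_threeStep1066 : InImg threeStep1066 := (InImg.mul inImg_threeStep1063 inImg_threeStep1065)

/-- step 1067 -/
def threeStep1067 : ℕ := mulP (invN .b) threeStep175

theorem inImg_threeStep1067 : InImg threeStep1067 := (InImg.mul (inImg_inv .b) inImg_threeStep175)

/-- step 1068 -/
def threeStep1068 : ℕ := mulP threeStep486 threeStep1067

theorem inImg_threeStep1068 : InImg threeStep1068 := (InImg.mul inImg_threeStep486 inImg_threeStep1067)

/-- step 1069 -/
def threeStep1069 : ℕ := mulP (genN .e) threeStep447

theorem inImg_threeStep1069 : InImg threeStep1069 := (InImg.mul (inImg_gen .e) inImg_threeStep447)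

/-- step 1070 -/
def threeStep1070 : ℕ := mulP threeStep1062 threeStep1069

theorem inImg_threeStep1070 : InImg threeStep1070 := (InImg.mul inImg_threeStep1062 inImg_threeStep1069)

/-- step 1071 -/
def threeStep1071 : ℕ := mulP threeStep1068 threeStep1070

theorem inImg_threeStep1071 : InImg threeStep1071 := (InImg.mul inImg_threeStep1068 inImg_threeStep1070)

/-- step 1072 -/
def threeStep1072 : ℕ := mulP threeStep1066 threeStep1071

theorem inImg_threeStep1072 : InImg threeStep1072 := (InImg.mul inImg_threeStep1066 inImg_threeStep1071)

/-- step 1073 -/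
def threeStep1073 : ℕ := mulP threeStep452 threeStep52

theorem inImg_threeStep1073 : InImg threeStep1073 := (InImg.mul inImg_threeStep452 inImg_threeStep52)

/-- step 1074 -/
def threeStep1074 : ℕ := mulP (genN .a) threeStep46

theorem inImg_threeStep1074 : InImg threeStep1074 := (InImg.mul (inImg_gen .a) inImg_threeStep46)

/-- step 1075 -/
def threeStep1075 : ℕ := mulP threeStep4 threeStep1074

theorem inImg_threeStep1075 : InImg threeStep1075 := (InImg.mul inImg_threeStep4 inImg_threeStep1074)

/-- step 1076 -/
def threeStep1076 : ℕ := mulP threeStep1073 threeStep1075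

theorem inImg_threeStep1076 : InImg threeStep1076 := (InImg.mul inImg_threeStep1073 inImg_threeStep1075)

/-- step 1077 -/
def threeStep1077 : ℕ := mulP (genN .u) threeStep49

theorem inImg_threeStep1077 : InImg threeStep1077 := (InImg.mul (inImg_gen .u) inImg_threeStep49)

/-- step 1078 -/
def threeStep1078 : ℕ := mulP threeStep43 threeStep1077

theorem inImg_threeStep1078 : InImg threeStep1078 := (InImg.mul inImg_threeStep43 inImg_threeStep1077)

/-- step 1079 -/
def threeStep1079 : ℕ := mulP threeStep506 threeStep1078

theorem inImg_threeStep1079 : InImg threeStep1079 := (InImg.mul inImg_threeStep506 inImg_threeStep1078)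

/-- step 1080 -/
def threeStep1080 : ℕ := mulP threeStep1076 threeStep1079

theorem inImg_threeStep1080 : InImg threeStep1080 := (InImg.mul inImg_threeStep1076 inImg_threeStep1079)

theorem eq_threeMat1081 : Nat.beq threeMat1081 (mulP threeStep1072 threeStep1080) = true := by decide +kernel

theorem inImg_threeMat1081 : InImg threeMat1081 :=
  Nat.eq_of_beq_eq_true eq_threeMat1081 ▸ (InImg.mul inImg_threeStep1072 inImg_threeStep1080)

/-- step 1082 -/
def threeStep1082 : ℕ := mulP threeStep511 threeStep473

theorem inImg_threeStep1082 : InImg threeStep1082 := (InImg.mul inImg_threeStep511 inImg_threeStep473)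

/-- step 1083 -/
def threeStep1083 : ℕ := mulP threeStep53 threeStep1082

theorem inImg_threeStep1083 : InImg threeStep1083 := (InImg.mul inImg_threeStep53 inImg_threeStep1082)

/-- step 1084 -/
def threeStep1084 : ℕ := mulP threeStep0 threeStep515

theorem inImg_threeStep1084 : InImg threeStep1084 := (InImg.mul inImg_threeStep0 inImg_threeStep515)

/-- step 1085 -/
def threeStep1085 : ℕ := mulP threeStep122 threeStep125

theorem inImg_threeStep1085 : InImg threeStep1085 := (InImg.mul inImg_threeStep122 inImg_threeStep125)

/-- step 1086 -/
def threeStep1086 : ℕ := mulP threeStep1084 threeStep1085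

theorem inImg_threeStep1086 : InImg threeStep1086 := (InImg.mul inImg_threeStep1084 inImg_threeStep1085)

/-- step 1087 -/
def threeStep1087 : ℕ := mulP threeStep1083 threeStep1086

theorem inImg_threeStep1087 : InImg threeStep1087 := (InImg.mul inImg_threeStep1083 inImg_threeStep1086)

/-- step 1088 -/
def threeStep1088 : ℕ := mulP (genN .e) threeStep484

theorem inImg_threeStep1088 : InImg threeStep1088 := (InImg.mul (inImg_gen .e) inImg_threeStep484)

/-- step 1089 -/
def threeStep1089 : ℕ := mulP threeStep4 threeStep1088

theorem inImg_threeStep1089 : InImg threeStep1089 := (InImg.mul inImg_threeStep4 inImg_threeStep1088)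

/-- step 1090 -/
def threeStep1090 : ℕ := mulP (genN .b) (genN .s)

theorem inImg_threeStep1090 : InImg threeStep1090 := (InImg.mul (inImg_gen .b) (inImg_gen .s))

/-- step 1091 -/
def threeStep1091 : ℕ := mulP (invN .s) threeStep1090

theorem inImg_threeStep1091 : InImg threeStep1091 := (InImg.mul (inImg_inv .s) inImg_threeStep1090)

/-- step 1092 -/
def threeStep1092 : ℕ := mulP threeStep438 threeStep1091

theorem inImg_threeStep1092 : InImg threeStep1092 := (InImg.mul inImg_threeStep438 inImg_threeStep1091)

/-- step 1093 -/
def threeStep1093 : ℕ := mulP threeStep1089 threeStep1092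

theorem inImg_threeStep1093 : InImg threeStep1093 := (InImg.mul inImg_threeStep1089 inImg_threeStep1092)

/-- step 1094 -/
def threeStep1094 : ℕ := mulP (invN .d) (genN .a)

theorem inImg_threeStep1094 : InImg threeStep1094 := (InImg.mul (inImg_inv .d) (inImg_gen .a))

/-- step 1095 -/
def threeStep1095 : ℕ := mulP (genN .u) threeStep1094

theorem inImg_threeStep1095 : InImg threeStep1095 := (InImg.mul (inImg_gen .u) inImg_threeStep1094)

/-- step 1096 -/
def threeStep1096 : ℕ := mulP threeStep443 threeStep1095

theorem inImg_threeStep1096 : InImg threeStep1096 := (InImg.mul inImg_threeStep443 inImg_threeStep1095)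

/-- step 1097 -/
def threeStep1097 : ℕ := mulP threeStep484 threeStep487

theorem inImg_threeStep1097 : InImg threeStep1097 := (InImg.mul inImg_threeStep484 inImg_threeStep487)

/-- step 1098 -/
def threeStep1098 : ℕ := mulP threeStep1096 threeStep1097

theorem inImg_threeStep1098 : InImg threeStep1098 := (InImg.mul inImg_threeStep1096 inImg_threeStep1097)

/-- step 1099 -/
def threeStep1099 : ℕ := mulP threeStep1093 threeStep1098

theorem inImg_threeStep1099 : InImg threeStep1099 := (InImg.mul inImg_threeStep1093 inImg_threeStep1098)

theorem eq_threeMat1100 : Nat.beq threeMat1100 (mulP threeStep1087 threeStep1099) = true := by decide +kernel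

theorem inImg_threeMat1100 : InImg threeMat1100 :=
  Nat.eq_of_beq_eq_true eq_threeMat1100 ▸ (InImg.mul inImg_threeStep1087 inImg_threeStep1099)

/-- step 1101 -/
def threeStep1101 : ℕ := mulP threeMat1081 threeMat1100

theorem inImg_threeStep1101 : InImg threeStep1101 := (InImg.mul inImg_threeMat1081 inImg_threeMat1100)

/-- step 1102 -/
def threeStep1102 : ℕ := mulP threeStep812 threeStep524

theorem inImg_threeStep1102 : InImg threeStep1102 := (InImg.mul inImg_threeStep812 inImg_threeStep524)

/-- step 1103 -/
def threeStep1103 : ℕ := mulP threeStep1101 threeStep1102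

theorem inImg_threeStep1103 : InImg threeStep1103 := (InImg.mul inImg_threeStep1101 inImg_threeStep1102)

/-- step 1104 -/
def threeStep1104 : ℕ := mulP threeStep1103 threeStep1103

theorem inImg_threeStep1104 : InImg threeStep1104 := (InImg.mul inImg_threeStep1103 inImg_threeStep1103)

/-- step 1105 -/
def threeStep1105 : ℕ := mulP threeStep1104 threeStep1104

theorem inImg_threeStep1105 : InImg threeStep1105 := (InImg.mul inImg_threeStep1104 inImg_threeStep1104)

/-- step 1106 -/
def threeStep1106 : ℕ := mulP threeStep1105 threeStep1105

theorem inImg_threeStep1106 : InImg threeStep1106 := (InImg.mul inImg_threeStep1105 inImg_threeStep1105)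

/-- step 1107 -/
def threeStep1107 : ℕ := mulP threeStep1106 threeStep1106

theorem inImg_threeStep1107 : InImg threeStep1107 := (InImg.mul inImg_threeStep1106 inImg_threeStep1106)

/-- step 1108 -/
def threeStep1108 : ℕ := mulP threeStep1104 threeStep1107

theorem inImg_threeStep1108 : InImg threeStep1108 := (InImg.mul inImg_threeStep1104 inImg_threeStep1107)

/-- step 1109 -/
def threeStep1109 : ℕ := mulP threeStep997 (genN .a)

theorem inImg_threeStep1109 : InImg threeStep1109 := (InImg.mul inImg_threeStep997 (inImg_gen .a))

/-- step 1110 -/
def threeStep1110 : ℕ := mulP threeStep1109 threeStep999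

theorem inImg_threeStep1110 : InImg threeStep1110 := (InImg.mul inImg_threeStep1109 inImg_threeStep999)

/-- step 1111 -/
def threeStep1111 : ℕ := mulP threeStep1108 threeStep1110

theorem inImg_threeStep1111 : InImg threeStep1111 := (InImg.mul inImg_threeStep1108 inImg_threeStep1110)

/-- step 1112 -/
def threeStep1112 : ℕ := mulP threeStep999 threeStep1111

theorem inImg_threeStep1112 : InImg threeStep1112 := (InImg.mul inImg_threeStep999 inImg_threeStep1111)

/-- step 1113 -/
def threeStep1113 : ℕ := mulP threeMat1061 threeStep1112

theorem inImg_threeStep1113 : InImg threeStep1113 := (InImg.mul inImg_threeMat1061 inImg_threeStep1112)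

theorem eq_threeMat1114 : Nat.beq threeMat1114 (mulP threeMat995 threeStep1113) = true := by decide +kernel

theorem inImg_threeMat1114 : InImg threeMat1114 :=
  Nat.eq_of_beq_eq_true eq_threeMat1114 ▸ (InImg.mul inImg_threeMat995 inImg_threeStep1113)

/-- step 1115 -/
def threeStep1115 : ℕ := mulP threeMat1114 threeMat1114

theorem inImg_threeStep1115 : InImg threeStep1115 := (InImg.mul inImg_threeMat1114 inImg_threeMat1114)

theorem eq_threeMat1116 : Nat.beq threeMat1116 (mulP threeStep1115 threeStep1115) = true := by decide +kernel

theorem inImg_threeMat1116 : InImg threeMat1116 :=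
  Nat.eq_of_beq_eq_true eq_threeMat1116 ▸ (InImg.mul inImg_threeStep1115 inImg_threeStep1115)

theorem eq_threeMat1117 : Nat.beq threeMat1117 (mulP threeStep208 threeStep174) = true := by decide +kernel

theorem inImg_threeMat1117 : InImg threeMat1117 :=
  Nat.eq_of_beq_eq_true eq_threeMat1117 ▸ (InImg.mul inImg_threeStep208 inImg_threeStep174)

/-- step 1118 -/
def threeStep1118 : ℕ := mulP threeStep29 threeStep796

theorem inImg_threeStep1118 : InImg threeStep1118 := (InImg.mul inImg_threeStep29 inImg_threeStep796)

/-- step 1119 -/
def threeStep1119 : ℕ := mulP (invN .t) threeStep126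

theorem inImg_threeStep1119 : InImg threeStep1119 := (InImg.mul (inImg_inv .t) inImg_threeStep126)

/-- step 1120 -/
def threeStep1120 : ℕ := mulP threeStep420 threeStep1119

theorem inImg_threeStep1120 : InImg threeStep1120 := (InImg.mul inImg_threeStep420 inImg_threeStep1119)

/-- step 1121 -/
def threeStep1121 : ℕ := mulP threeStep1118 threeStep1120

theorem inImg_threeStep1121 : InImg threeStep1121 := (InImg.mul inImg_threeStep1118 inImg_threeStep1120)

/-- step 1122 -/
def threeStep1122 : ℕ := mulP threeStep126 threeStep131

theorem inImg_threeStep1122 : InImg threeStep1122 := (InImg.mul inImg_threeStep126 inImg_threeStep131)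

/-- step 1123 -/
def threeStep1123 : ℕ := mulP threeStep462 threeStep1122

theorem inImg_threeStep1123 : InImg threeStep1123 := (InImg.mul inImg_threeStep462 inImg_threeStep1122)

/-- step 1124 -/
def threeStep1124 : ℕ := mulP threeStep1121 threeStep1123

theorem inImg_threeStep1124 : InImg threeStep1124 := (InImg.mul inImg_threeStep1121 inImg_threeStep1123)

/-- step 1125 -/
def threeStep1125 : ℕ := mulP threeStep12 threeStep512

theorem inImg_threeStep1125 : InImg threeStep1125 := (InImg.mul inImg_threeStep12 inImg_threeStep512)

/-- step 1126 -/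
def threeStep1126 : ℕ := mulP threeStep1125 threeStep462

theorem inImg_threeStep1126 : InImg threeStep1126 := (InImg.mul inImg_threeStep1125 inImg_threeStep462)

/-- step 1127 -/
def threeStep1127 : ℕ := mulP threeStep136 threeStep138

theorem inImg_threeStep1127 : InImg threeStep1127 := (InImg.mul inImg_threeStep136 inImg_threeStep138)

/-- step 1128 -/
def threeStep1128 : ℕ := mulP threeStep1127 threeStep141

theorem inImg_threeStep1128 : InImg threeStep1128 := (InImg.mul inImg_threeStep1127 inImg_threeStep141)

/-- step 1129 -/
def threeStep1129 : ℕ := mulP threeStep1126 threeStep1128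

theorem inImg_threeStep1129 : InImg threeStep1129 := (InImg.mul inImg_threeStep1126 inImg_threeStep1128)

theorem eq_threeMat1130 : Nat.beq threeMat1130 (mulP threeStep1124 threeStep1129) = true := by decide +kernel

theorem inImg_threeMat1130 : InImg threeMat1130 :=
  Nat.eq_of_beq_eq_true eq_threeMat1130 ▸ (InImg.mul inImg_threeStep1124 inImg_threeStep1129)

/-- step 1131 -/
def threeStep1131 : ℕ := mulP threeStep973 threeMat1130

theorem inImg_threeStep1131 : InImg threeStep1131 := (InImg.mul inImg_threeStep973 inImg_threeMat1130)

theorem eq_threeMat1132 : Nat.beq threeMat1132 (mulP threeStep1131 threeStep993) = true := by decide +kernel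

theorem inImg_threeMat1132 : InImg threeMat1132 :=
  Nat.eq_of_beq_eq_true eq_threeMat1132 ▸ (InImg.mul inImg_threeStep1131 inImg_threeStep993)

/-- step 1133 -/
def threeStep1133 : ℕ := mulP (genN .b) (invN .c)

theorem inImg_threeStep1133 : InImg threeStep1133 := (InImg.mul (inImg_gen .b) (inImg_inv .c))

/-- step 1134 -/
def threeStep1134 : ℕ := mulP (invN .e) (genN .d)

theorem inImg_threeStep1134 : InImg threeStep1134 := (InImg.mul (inImg_inv .e) (inImg_gen .d))

/-- step 1135 -/
def threeStep1135 : ℕ := mulP threeStep1133 threeStep1134

theorem inImg_threeStep1135 : InImg threeStep1135 := (InImg.mul inImg_threeStep1133 inImg_threeStep1134)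

/-- step 1136 -/
def threeStep1136 : ℕ := mulP (invN .c) (invN .a)

theorem inImg_threeStep1136 : InImg threeStep1136 := (InImg.mul (inImg_inv .c) (inImg_inv .a))

/-- step 1137 -/
def threeStep1137 : ℕ := mulP (genN .t) threeStep1136

theorem inImg_threeStep1137 : InImg threeStep1137 := (InImg.mul (inImg_gen .t) inImg_threeStep1136)

/-- step 1138 -/
def threeStep1138 : ℕ := mulP threeStep468 threeStep1137

theorem inImg_threeStep1138 : InImg threeStep1138 := (InImg.mul inImg_threeStep468 inImg_threeStep1137)

/-- step 1139 -/
def threeStep1139 : ℕ := mulP threeStep1135 threeStep1138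

theorem inImg_threeStep1139 : InImg threeStep1139 := (InImg.mul inImg_threeStep1135 inImg_threeStep1138)

/-- step 1140 -/
def threeStep1140 : ℕ := mulP (invN .d) (genN .d)

theorem inImg_threeStep1140 : InImg threeStep1140 := (InImg.mul (inImg_inv .d) (inImg_gen .d))

/-- step 1141 -/
def threeStep1141 : ℕ := mulP threeStep1140 threeStep1094

theorem inImg_threeStep1141 : InImg threeStep1141 := (InImg.mul inImg_threeStep1140 inImg_threeStep1094)

/-- step 1142 -/
def threeStep1142 : ℕ := mulP (invN .t) (invN .a)

theorem inImg_threeStep1142 : InImg threeStep1142 := (InImg.mul (inImg_inv .t) (inImg_inv .a))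

/-- step 1143 -/
def threeStep1143 : ℕ := mulP (invN .a) (invN .d)

theorem inImg_threeStep1143 : InImg threeStep1143 := (InImg.mul (inImg_inv .a) (inImg_inv .d))

/-- step 1144 -/
def threeStep1144 : ℕ := mulP (invN .e) threeStep1143

theorem inImg_threeStep1144 : InImg threeStep1144 := (InImg.mul (inImg_inv .e) inImg_threeStep1143)

/-- step 1145 -/
def threeStep1145 : ℕ := mulP threeStep1142 threeStep1144

theorem inImg_threeStep1145 : InImg threeStep1145 := (InImg.mul inImg_threeStep1142 inImg_threeStep1144)

/-- step 1146 -/
def threeStep1146 : ℕ := mulP threeStep1141 threeStep1145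

theorem inImg_threeStep1146 : InImg threeStep1146 := (InImg.mul inImg_threeStep1141 inImg_threeStep1145)

/-- step 1147 -/
def threeStep1147 : ℕ := mulP threeStep1139 threeStep1146

theorem inImg_threeStep1147 : InImg threeStep1147 := (InImg.mul inImg_threeStep1139 inImg_threeStep1146)

/-- step 1148 -/
def threeStep1148 : ℕ := mulP (genN .d) (genN .d)

theorem inImg_threeStep1148 : InImg threeStep1148 := (InImg.mul (inImg_gen .d) (inImg_gen .d))

/-- step 1149 -/
def threeStep1149 : ℕ := mulP threeStep1148 threeStep447

theorem inImg_threeStep1149 : InImg threeStep1149 := (InImg.mul inImg_threeStep1148 inImg_threeStep447)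

/-- step 1150 -/
def threeStep1150 : ℕ := mulP (genN .b) (genN .d)

theorem inImg_threeStep1150 : InImg threeStep1150 := (InImg.mul (inImg_gen .b) (inImg_gen .d))

/-- step 1151 -/
def threeStep1151 : ℕ := mulP (invN .t) threeStep1150

theorem inImg_threeStep1151 : InImg threeStep1151 := (InImg.mul (inImg_inv .t) inImg_threeStep1150)

/-- step 1152 -/
def threeStep1152 : ℕ := mulP threeStep649 threeStep1151

theorem inImg_threeStep1152 : InImg threeStep1152 := (InImg.mul inImg_threeStep649 inImg_threeStep1151)

/-- step 1153 -/
def threeStep1153 : ℕ := mulP threeStep1149 threeStep1152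

theorem inImg_threeStep1153 : InImg threeStep1153 := (InImg.mul inImg_threeStep1149 inImg_threeStep1152)

/-- step 1154 -/
def threeStep1154 : ℕ := mulP (genN .a) (invN .d)

theorem inImg_threeStep1154 : InImg threeStep1154 := (InImg.mul (inImg_gen .a) (inImg_inv .d))

/-- step 1155 -/
def threeStep1155 : ℕ := mulP threeStep1154 threeStep31

theorem inImg_threeStep1155 : InImg threeStep1155 := (InImg.mul inImg_threeStep1154 inImg_threeStep31)

/-- step 1156 -/
def threeStep1156 : ℕ := mulP (invN .d) (invN .b)

theorem inImg_threeStep1156 : InImg threeStep1156 := (InImg.mul (inImg_inv .d) (inImg_inv .b))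

/-- step 1157 -/
def threeStep1157 : ℕ := mulP (invN .a) threeStep1

theorem inImg_threeStep1157 : InImg threeStep1157 := (InImg.mul (inImg_inv .a) inImg_threeStep1)

/-- step 1158 -/
def threeStep1158 : ℕ := mulP threeStep1156 threeStep1157

theorem inImg_threeStep1158 : InImg threeStep1158 := (InImg.mul inImg_threeStep1156 inImg_threeStep1157)

/-- step 1159 -/
def threeStep1159 : ℕ := mulP threeStep1155 threeStep1158

theorem inImg_threeStep1159 : InImg threeStep1159 := (InImg.mul inImg_threeStep1155 inImg_threeStep1158)

/-- step 1160 -/
def threeStep1160 : ℕ := mulP threeStep1153 threeStep1159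

theorem inImg_threeStep1160 : InImg threeStep1160 := (InImg.mul inImg_threeStep1153 inImg_threeStep1159)

theorem eq_threeMat1161 : Nat.beq threeMat1161 (mulP threeStep1147 threeStep1160) = true := by decide +kernel

theorem inImg_threeMat1161 : InImg threeMat1161 :=
  Nat.eq_of_beq_eq_true eq_threeMat1161 ▸ (InImg.mul inImg_threeStep1147 inImg_threeStep1160)

theorem eq_threeMat1162 : Nat.beq threeMat1162 (mulP threeMat1132 threeMat1161) = true := by decide +kernel

theorem inImg_threeMat1162 : InImg threeMat1162 :=
  Nat.eq_of_beq_eq_true eq_threeMat1162 ▸ (InImg.mul inImg_threeMat1132 inImg_threeMat1161)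

/-- step 1163 -/
def threeStep1163 : ℕ := mulP threeStep628 threeStep51

theorem inImg_threeStep1163 : InImg threeStep1163 := (InImg.mul inImg_threeStep628 inImg_threeStep51)

/-- step 1164 -/
def threeStep1164 : ℕ := mulP threeStep3 threeStep44

theorem inImg_threeStep1164 : InImg threeStep1164 := (InImg.mul inImg_threeStep3 inImg_threeStep44)

/-- step 1165 -/
def threeStep1165 : ℕ := mulP threeStep1163 threeStep1164

theorem inImg_threeStep1165 : InImg threeStep1165 := (InImg.mul inImg_threeStep1163 inImg_threeStep1164)

/-- step 1166 -/
def threeStep1166 : ℕ := mulP threeStep390 threeStep431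

theorem inImg_threeStep1166 : InImg threeStep1166 := (InImg.mul inImg_threeStep390 inImg_threeStep431)

/-- step 1167 -/
def threeStep1167 : ℕ := mulP threeStep38 threeStep43

theorem inImg_threeStep1167 : InImg threeStep1167 := (InImg.mul inImg_threeStep38 inImg_threeStep43)

/-- step 1168 -/
def threeStep1168 : ℕ := mulP threeStep1166 threeStep1167

theorem inImg_threeStep1168 : InImg threeStep1168 := (InImg.mul inImg_threeStep1166 inImg_threeStep1167)

/-- step 1169 -/
def threeStep1169 : ℕ := mulP threeStep1165 threeStep1168

theorem inImg_threeStep1169 : InImg threeStep1169 := (InImg.mul inImg_threeStep1165 inImg_threeStep1168)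

/-- step 1170 -/
def threeStep1170 : ℕ := mulP threeStep44 threeStep38

theorem inImg_threeStep1170 : InImg threeStep1170 := (InImg.mul inImg_threeStep44 inImg_threeStep38)

/-- step 1171 -/
def threeStep1171 : ℕ := mulP threeStep1170 threeStep870

theorem inImg_threeStep1171 : InImg threeStep1171 := (InImg.mul inImg_threeStep1170 inImg_threeStep870)

/-- step 1172 -/
def threeStep1172 : ℕ := mulP threeStep511 threeStep46

theorem inImg_threeStep1172 : InImg threeStep1172 := (InImg.mul inImg_threeStep511 inImg_threeStep46)

/-- step 1173 -/
def threeStep1173 : ℕ := mulP threeStep1172 threeStep472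

theorem inImg_threeStep1173 : InImg threeStep1173 := (InImg.mul inImg_threeStep1172 inImg_threeStep472)

/-- step 1174 -/
def threeStep1174 : ℕ := mulP threeStep1171 threeStep1173

theorem inImg_threeStep1174 : InImg threeStep1174 := (InImg.mul inImg_threeStep1171 inImg_threeStep1173)

/-- step 1175 -/
def threeStep1175 : ℕ := mulP threeStep1169 threeStep1174

theorem inImg_threeStep1175 : InImg threeStep1175 := (InImg.mul inImg_threeStep1169 inImg_threeStep1174)

theorem eq_threeMat1176 : Nat.beq threeMat1176 (mulP threeStep750 threeStep1175) = true := by decide +kernel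

theorem inImg_threeMat1176 : InImg threeMat1176 :=
  Nat.eq_of_beq_eq_true eq_threeMat1176 ▸ (InImg.mul inImg_threeStep750 inImg_threeStep1175)

/-- step 1177 -/
def threeStep1177 : ℕ := mulP threeMat1176 threeStep789

theorem inImg_threeStep1177 : InImg threeStep1177 := (InImg.mul inImg_threeMat1176 inImg_threeStep789)

theorem eq_threeMat1178 : Nat.beq threeMat1178 (mulP threeStep1177 threeMat1161) = true := by decide +kernel

theorem inImg_threeMat1178 : InImg threeMat1178 :=
  Nat.eq_of_beq_eq_true eq_threeMat1178 ▸ (InImg.mul inImg_threeStep1177 inImg_threeMat1161)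

/-- step 1179 -/
def threeStep1179 : ℕ := mulP threeStep3 threeStep864

theorem inImg_threeStep1179 : InImg threeStep1179 := (InImg.mul inImg_threeStep3 inImg_threeStep864)

/-- step 1180 -/
def threeStep1180 : ℕ := mulP (genN .u) threeStep0

theorem inImg_threeStep1180 : InImg threeStep1180 := (InImg.mul (inImg_gen .u) inImg_threeStep0)

/-- step 1181 -/
def threeStep1181 : ℕ := mulP threeStep31 threeStep1180

theorem inImg_threeStep1181 : InImg threeStep1181 := (InImg.mul inImg_threeStep31 inImg_threeStep1180)

/-- step 1182 -/
def threeStep1182 : ℕ := mulP threeStep1179 threeStep1181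

theorem inImg_threeStep1182 : InImg threeStep1182 := (InImg.mul inImg_threeStep1179 inImg_threeStep1181)

/-- step 1183 -/
def threeStep1183 : ℕ := mulP threeStep1154 threeStep43

theorem inImg_threeStep1183 : InImg threeStep1183 := (InImg.mul inImg_threeStep1154 inImg_threeStep43)

/-- step 1184 -/
def threeStep1184 : ℕ := mulP threeStep1183 threeStep1085

theorem inImg_threeStep1184 : InImg threeStep1184 := (InImg.mul inImg_threeStep1183 inImg_threeStep1085)

/-- step 1185 -/
def threeStep1185 : ℕ := mulP threeStep1182 threeStep1184

theorem inImg_threeStep1185 : InImg threeStep1185 := (InImg.mul inImg_threeStep1182 inImg_threeStep1184)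

/-- step 1186 -/
def threeStep1186 : ℕ := mulP threeStep54 threeStep163

theorem inImg_threeStep1186 : InImg threeStep1186 := (InImg.mul inImg_threeStep54 inImg_threeStep163)

theorem eq_threeMat1187 : Nat.beq threeMat1187 (mulP threeStep1185 threeStep1186) = true := by decide +kernel

theorem inImg_threeMat1187 : InImg threeMat1187 :=
  Nat.eq_of_beq_eq_true eq_threeMat1187 ▸ (InImg.mul inImg_threeStep1185 inImg_threeStep1186)

/-- step 1188 -/
def threeStep1188 : ℕ := mulP threeStep28 threeMat1187

theorem inImg_threeStep1188 : InImg threeStep1188 := (InImg.mul inImg_threeStep28 inImg_threeMat1187)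

theorem eq_threeMat1189 : Nat.beq threeMat1189 (mulP threeStep1188 threeStep69) = true := by decide +kernel

theorem inImg_threeMat1189 : InImg threeMat1189 :=
  Nat.eq_of_beq_eq_true eq_threeMat1189 ▸ (InImg.mul inImg_threeStep1188 inImg_threeStep69)

/-- step 1190 -/
def threeStep1190 : ℕ := mulP threeStep59 threeStep117

theorem inImg_threeStep1190 : InImg threeStep1190 := (InImg.mul inImg_threeStep59 inImg_threeStep117)

/-- step 1191 -/
def threeStep1191 : ℕ := mulP threeStep428 threeStep796

theorem inImg_threeStep1191 : InImg threeStep1191 := (InImg.mul inImg_threeStep428 inImg_threeStep796)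

/-- step 1192 -/
def threeStep1192 : ℕ := mulP threeStep1190 threeStep1191

theorem inImg_threeStep1192 : InImg threeStep1192 := (InImg.mul inImg_threeStep1190 inImg_threeStep1191)

/-- step 1193 -/
def threeStep1193 : ℕ := mulP threeStep649 threeStep125

theorem inImg_threeStep1193 : InImg threeStep1193 := (InImg.mul inImg_threeStep649 inImg_threeStep125)

/-- step 1194 -/
def threeStep1194 : ℕ := mulP (genN .d) threeStep156

theorem inImg_threeStep1194 : InImg threeStep1194 := (InImg.mul (inImg_gen .d) inImg_threeStep156)

/-- step 1195 -/
def threeStep1195 : ℕ := mulP threeStep473 threeStep1194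

theorem inImg_threeStep1195 : InImg threeStep1195 := (InImg.mul inImg_threeStep473 inImg_threeStep1194)

/-- step 1196 -/
def threeStep1196 : ℕ := mulP threeStep1193 threeStep1195

theorem inImg_threeStep1196 : InImg threeStep1196 := (InImg.mul inImg_threeStep1193 inImg_threeStep1195)

/-- step 1197 -/
def threeStep1197 : ℕ := mulP threeStep1192 threeStep1196

theorem inImg_threeStep1197 : InImg threeStep1197 := (InImg.mul inImg_threeStep1192 inImg_threeStep1196)

/-- step 1198 -/
def threeStep1198 : ℕ := mulP (genN .d) threeStep435

theorem inImg_threeStep1198 : InImg threeStep1198 := (InImg.mul (inImg_gen .d) inImg_threeStep435)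

/-- step 1199 -/
def threeStep1199 : ℕ := mulP threeStep37 threeStep1198

theorem inImg_threeStep1199 : InImg threeStep1199 := (InImg.mul inImg_threeStep37 inImg_threeStep1198)

/-- step 1200 -/
def threeStep1200 : ℕ := mulP threeStep469 threeStep461

theorem inImg_threeStep1200 : InImg threeStep1200 := (InImg.mul inImg_threeStep469 inImg_threeStep461)

/-- step 1201 -/
def threeStep1201 : ℕ := mulP threeStep1199 threeStep1200

theorem inImg_threeStep1201 : InImg threeStep1201 := (InImg.mul inImg_threeStep1199 inImg_threeStep1200)

/-- step 1202 -/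
def threeStep1202 : ℕ := mulP threeStep1201 threeStep1128

theorem inImg_threeStep1202 : InImg threeStep1202 := (InImg.mul inImg_threeStep1201 inImg_threeStep1128)

theorem eq_threeMat1203 : Nat.beq threeMat1203 (mulP threeStep1197 threeStep1202) = true := by decide +kernel

theorem inImg_threeMat1203 : InImg threeMat1203 :=
  Nat.eq_of_beq_eq_true eq_threeMat1203 ▸ (InImg.mul inImg_threeStep1197 inImg_threeStep1202)

/-- step 1204 -/
def threeStep1204 : ℕ := mulP threeStep1052 threeMat1203

theorem inImg_threeStep1204 : InImg threeStep1204 := (InImg.mul inImg_threeStep1052 inImg_threeMat1203)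

theorem eq_threeMat1205 : Nat.beq threeMat1205 (mulP threeStep1204 threeStep1112) = true := by decide +kernel

theorem inImg_threeMat1205 : InImg threeMat1205 :=
  Nat.eq_of_beq_eq_true eq_threeMat1205 ▸ (InImg.mul inImg_threeStep1204 inImg_threeStep1112)

theorem eq_threeMat1206 : Nat.beq threeMat1206 (mulP threeMat1189 threeMat1205) = true := by decide +kernel

theorem inImg_threeMat1206 : InImg threeMat1206 :=
  Nat.eq_of_beq_eq_true eq_threeMat1206 ▸ (InImg.mul inImg_threeMat1189 inImg_threeMat1205)

end

end Cfsg.Agent.ThRep
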