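import Cfsg.Agent.Lib.ThRep.Sylow
import Cfsg.Agent.Lib.ThRep.MatTwo1
import Cfsg.Agent.Lib.ThRep.MatTwo5
import Cfsg.Agent.Lib.ThRep.MatTwo9
import Cfsg.Agent.Lib.ThRep.MatTwo13
import Cfsg.Agent.Lib.ThRep.MatTwo17
import Cfsg.Agent.Lib.ThRep.MatTwo23
import Cfsg.Agent.Lib.ThRep.MatTwo29
import Cfsg.Agent.Lib.ThRep.MatTwo36
import Cfsg.Agent.Lib.ThRep.MatTwo37
import Cfsg.Agent.Lib.ThRep.MatTwo43
import Cfsg.Agent.Lib.ThRep.MatTwo49
import Cfsg.Agent.Lib.ThRep.MatTwo55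
import Cfsg.Agent.Lib.ThRep.MatTwo62

/-! The elements lie in the image. -/

set_option autoImplicit false
set_option maxRecDepth 100000
set_option Elab.async false

namespace Cfsg.Agent.ThRep

theorem eq_twoMat1 : Nat.beq twoMat1 (mulP (invN .d) (mulP (genN .c) (genN .d))) = true := by decide +kernel

theorem inImg_twoMat1 : InImg twoMat1 :=
  Nat.eq_of_beq_eq_true eq_twoMat1 ▸ (InImg.mul (inImg_inv .d) (InImg.mul (inImg_gen .c) (inImg_gen .d)))

theorem eq_twoMat5 : Nat.beq twoMat5 (mulP (mulP (invN .e) (invN .d)) (mulP (genN .c) (mulP (genN .d) (genN .e)))) = true := by decide +kernel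

theorem inImg_twoMat5 : InImg twoMat5 :=
  Nat.eq_of_beq_eq_true eq_twoMat5 ▸ (InImg.mul (InImg.mul (inImg_inv .e) (inImg_inv .d)) (InImg.mul (inImg_gen .c) (InImg.mul (inImg_gen .d) (inImg_gen .e))))

theorem eq_twoMat9 : Nat.beq twoMat9 (mulP (mulP (invN .u) (invN .d)) (mulP (genN .c) (mulP (genN .d) (genN .u)))) = true := by decide +kernel

theorem inImg_twoMat9 : InImg twoMat9 :=
  Nat.eq_of_beq_eq_true eq_twoMat9 ▸ (InImg.mul (InImg.mul (inImg_inv .u) (inImg_inv .d)) (InImg.mul (inImg_gen .c) (InImg.mul (inImg_gen .d) (inImg_gen .u))))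

theorem eq_twoMat13 : Nat.beq twoMat13 (mulP (mulP (invN .s) (mulP (invN .e) (invN .d))) (mulP (mulP (genN .c) (genN .d)) (mulP (genN .e) (genN .s)))) = true := by decide +kernel

theorem inImg_twoMat13 : InImg twoMat13 :=
  Nat.eq_of_beq_eq_true eq_twoMat13 ▸ (InImg.mul (InImg.mul (inImg_inv .s) (InImg.mul (inImg_inv .e) (inImg_inv .d))) (InImg.mul (InImg.mul (inImg_gen .c) (inImg_gen .d)) (InImg.mul (inImg_gen .e) (inImg_gen .s))))

theorem eq_twoMat17 : Nat.beq twoMat17 (mulP (mulP (invN .s) (mulP (invN .u) (invN .d))) (mulP (mulP (genN .c) (genN .d)) (mulP (genN .u) (genN .s)))) = true := by decide +kernel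

theorem inImg_twoMat17 : InImg twoMat17 :=
  Nat.eq_of_beq_eq_true eq_twoMat17 ▸ (InImg.mul (InImg.mul (inImg_inv .s) (InImg.mul (inImg_inv .u) (inImg_inv .d))) (InImg.mul (InImg.mul (inImg_gen .c) (inImg_gen .d)) (InImg.mul (inImg_gen .u) (inImg_gen .s))))

theorem eq_twoMat23 : Nat.beq twoMat23 (mulP (mulP (mulP (invN .d) (invN .s)) (mulP (invN .e) (invN .d))) (mulP (mulP (genN .c) (genN .d)) (mulP (genN .e) (mulP (genN .s) (genN .d))))) = true := by decide +kernel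

theorem inImg_twoMat23 : InImg twoMat23 :=
  Nat.eq_of_beq_eq_true eq_twoMat23 ▸ (InImg.mul (InImg.mul (InImg.mul (inImg_inv .d) (inImg_inv .s)) (InImg.mul (inImg_inv .e) (inImg_inv .d))) (InImg.mul (InImg.mul (inImg_gen .c) (inImg_gen .d)) (InImg.mul (inImg_gen .e) (InImg.mul (inImg_gen .s) (inImg_gen .d)))))

theorem eq_twoMat29 : Nat.beq twoMat29 (mulP (mulP (mulP (invN .e) (invN .s)) (mulP (invN .e) (invN .d))) (mulP (mulP (genN .c) (genN .d)) (mulP (genN .e) (mulP (genN .s) (genN .e))))) = true := by decide +kernel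

theorem inImg_twoMat29 : InImg twoMat29 :=
  Nat.eq_of_beq_eq_true eq_twoMat29 ▸ (InImg.mul (InImg.mul (InImg.mul (inImg_inv .e) (inImg_inv .s)) (InImg.mul (inImg_inv .e) (inImg_inv .d))) (InImg.mul (InImg.mul (inImg_gen .c) (inImg_gen .d)) (InImg.mul (inImg_gen .e) (InImg.mul (inImg_gen .s) (inImg_gen .e)))))

theorem eq_twoMat36 : Nat.beq twoMat36 (mulP (mulP (mulP (genN .d) (genN .t)) (mulP (genN .s) (genN .t))) (mulP (mulP (genN .u) (genN .d)) (mulP (genN .s) (invN .t)))) = true := by decide +kernel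

theorem inImg_twoMat36 : InImg twoMat36 :=
  Nat.eq_of_beq_eq_true eq_twoMat36 ▸ (InImg.mul (InImg.mul (InImg.mul (inImg_gen .d) (inImg_gen .t)) (InImg.mul (inImg_gen .s) (inImg_gen .t))) (InImg.mul (InImg.mul (inImg_gen .u) (inImg_gen .d)) (InImg.mul (inImg_gen .s) (inImg_inv .t))))

theorem eq_twoMat37 : Nat.beq twoMat37 (mulP (mulP (genN .d) (genN .t)) (mulP (genN .u) (genN .d))) = true := by decide +kernel

theorem inImg_twoMat37 : InImg twoMat37 :=
  Nat.eq_of_beq_eq_true eq_twoMat37 ▸ (InImg.mul (InImg.mul (inImg_gen .d) (inImg_gen .t)) (InImg.mul (inImg_gen .u) (inImg_gen .d)))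

theorem eq_twoMat43 : Nat.beq twoMat43 (mulP (mulP (mulP (genN .u) (genN .s)) (mulP (genN .e) (mulP (genN .d) (genN .t)))) (mulP (mulP (genN .u) (genN .d)) (mulP (genN .e) (mulP (invN .s) (genN .u))))) = true := by decide +kernel

theorem inImg_twoMat43 : InImg twoMat43 :=
  Nat.eq_of_beq_eq_true eq_twoMat43 ▸ (InImg.mul (InImg.mul (InImg.mul (inImg_gen .u) (inImg_gen .s)) (InImg.mul (inImg_gen .e) (InImg.mul (inImg_gen .d) (inImg_gen .t)))) (InImg.mul (InImg.mul (inImg_gen .u) (inImg_gen .d)) (InImg.mul (inImg_gen .e) (InImg.mul (inImg_inv .s) (inImg_gen .u)))))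

theorem eq_twoMat49 : Nat.beq twoMat49 (mulP (mulP (mulP (genN .d) (genN .s)) (mulP (genN .t) (genN .u))) (mulP (mulP (genN .d) (genN .s)) (mulP (genN .u) (mulP (genN .d) (genN .u))))) = true := by decide +kernel

theorem inImg_twoMat49 : InImg twoMat49 :=
  Nat.eq_of_beq_eq_true eq_twoMat49 ▸ (InImg.mul (InImg.mul (InImg.mul (inImg_gen .d) (inImg_gen .s)) (InImg.mul (inImg_gen .t) (inImg_gen .u))) (InImg.mul (InImg.mul (inImg_gen .d) (inImg_gen .s)) (InImg.mul (inImg_gen .u) (InImg.mul (inImg_gen .d) (inImg_gen .u)))))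

theorem eq_twoMat55 : Nat.beq twoMat55 (mulP (mulP (mulP (genN .d) (genN .e)) (mulP (genN .s) (mulP (genN .u) (genN .d)))) (mulP (mulP (genN .u) (genN .s)) (mulP (genN .e) (mulP (genN .u) (invN .s))))) = true := by decide +kernel

theorem inImg_twoMat55 : InImg twoMat55 :=
  Nat.eq_of_beq_eq_true eq_twoMat55 ▸ (InImg.mul (InImg.mul (InImg.mul (inImg_gen .d) (inImg_gen .e)) (InImg.mul (inImg_gen .s) (InImg.mul (inImg_gen .u) (inImg_gen .d)))) (InImg.mul (InImg.mul (inImg_gen .u) (inImg_gen .s)) (InImg.mul (inImg_gen .e) (InImg.mul (inImg_gen .u) (inImg_inv .s)))))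

theorem eq_twoMat62 : Nat.beq twoMat62 (mulP (mulP (mulP (invN .t) (mulP (invN .s) (genN .e))) (mulP (genN .d) (mulP (genN .u) (genN .d)))) (mulP (mulP (genN .s) (mulP (genN .u) (genN .d))) (mulP (genN .e) (mulP (genN .s) (genN .t))))) = true := by decide +kernel

theorem inImg_twoMat62 : InImg twoMat62 :=
  Nat.eq_of_beq_eq_true eq_twoMat62 ▸ (InImg.mul (InImg.mul (InImg.mul (inImg_inv .t) (InImg.mul (inImg_inv .s) (inImg_gen .e))) (InImg.mul (inImg_gen .d) (InImg.mul (inImg_gen .u) (inImg_gen .d)))) (InImg.mul (InImg.mul (inImg_gen .s) (InImg.mul (inImg_gen .u) (inImg_gen .d))) (InImg.mul (inImg_gen .e) (InImg.mul (inImg_gen .s) (inImg_gen .t)))))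

end Cfsg.Agent.ThRep
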