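import Cfsg.Agent.Lib.ThRep.Relators
import Cfsg.Agent.Lib.ThRep.PCCard

/-!
Certificates for subgroups of prime power order in the image of the representation: power and conjugation
relations, and for each level a list of rows preserved by the later levels that the level itself does not preserve.
-/

set_option autoImplicit false
set_option maxRecDepth 20000

namespace Cfsg.Agent.ThRep

open Cfsg.Agent.ONan

noncomputable section

/-- A number represents an element of the image. -/
def InImg (A : ℕ) : Prop := ∃ g : Cfsg.Spor.Th, IsMat A (hom g)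

theorem InImg.mul {A B : ℕ} (hA : InImg A) (hB : InImg B) : InImg (mulP A B) := by
  obtain ⟨g, hg⟩ := hA
  obtain ⟨h, hh⟩ := hB
  exact ⟨g * h, by rw [map_mul]; exact hg.mul hh⟩

theorem inImg_gen (x : Cfsg.Spor.Th.Gen) : InImg (genN x) :=
  ⟨PresentedGroup.mk _ (FreeGroup.of x), by rw [hom_mk, FreeGroup.lift_apply_of]; exact isMat_gen x⟩

theorem inImg_inv (x : Cfsg.Spor.Th.Gen) : InImg (invN x) :=
  ⟨(PresentedGroup.mk _ (FreeGroup.of x))⁻¹, by
    rw [map_inv, hom_mk, FreeGroup.lift_apply_of]; exact isMat_inv x⟩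

theorem inImg_one : InImg one := ⟨1, by rw [map_one]; exact isMat_one⟩

/-- The unit of a number, or one. -/
def unitOf (A : ℕ) : M248ˣ :=
  open Classical in if h : ∃ u, IsMat A u then h.choose else 1

theorem isMat_unitOf {A : ℕ} {u : M248ˣ} (h : IsMat A u) : IsMat A (unitOf A) := by
  rw [unitOf, dif_pos ⟨u, h⟩]
  exact (⟨u, h⟩ : ∃ u, IsMat A u).choose_spec

theorem InImg.isMat {A : ℕ} (h : InImg A) : IsMat A (unitOf A) := h.elim fun _ hg => isMat_unitOf hg

theorem InImg.mem {A : ℕ} (h : InImg A) : unitOf A ∈ hom.range := by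
  obtain ⟨g, hg⟩ := h
  exact ⟨g, hg.unique (isMat_unitOf hg)⟩

/-- Power. -/
def powN (A : ℕ) : ℕ → ℕ := Nat.rec one (fun _ r => mulP r A)

theorem isMat_powN {A : ℕ} {u : M248ˣ} (h : IsMat A u) : ∀ n, IsMat (powN A n) (u ^ n) := by
  intro n
  induction n with
  | zero => rw [pow_zero]; exact isMat_one
  | succ n ih => rw [pow_succ]; exact ih.mul h

/-- The product of powers, omitting zero exponents. -/
def prodExp : List ℕ → List ℕ → ℕ
  | A :: l, n :: es => Bool.rec (mulP (powN A n) (prodExp l es)) (prodExp l es) (Nat.beq n 0)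
  | _, _ => one

/-- A level: the element, its relations with the later ones, the rows and their permutations. -/
structure Lev where
  A : ℕ
  pow : List ℕ
  conj : List (List ℕ)
  orb : List ℕ
  perm : List (List ℕ)

/-- `f i` for all `i < n`. -/
def allLt (f : ℕ → Bool) (n : ℕ) : Bool := Nat.rec true (fun i r => r && f i) n

theorem allLt_spec {f : ℕ → Bool} : ∀ {n : ℕ}, allLt f n = true → ∀ i < n, f i = true := by
  intro n
  induction n with
  | zero => intro _ i hi; omega
  | succ n ih =>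
    intro h i hi
    change (allLt f n && f n) = true at h
    rw [Bool.and_eq_true] at h
    rcases Nat.lt_succ_iff_lt_or_eq.1 hi with h1 | rfl
    · exact ih h.1 i h1
    · exact h.2

/-- Row `r`. -/
def rowAt (X r : ℕ) : ℕ := Nat.land (Nat.shiftRight X (Nat.mul 2480 r)) rowMask

/-- The power relation of a level. -/
def powOK (p : ℕ) (L : Lev) (tail : List ℕ) : Bool := Nat.beq (powN L.A p) (prodExp tail L.pow)

/-- The relation with the later level `j`. -/
def conjOK (L : Lev) (tail : List ℕ) (j : ℕ) : Bool :=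
  Nat.beq (mulP (tail.getD j one) L.A) (mulP L.A (prodExp tail (L.conj.getD j [])))

/-- `f i` for all `i < n`, as a nested conjunction. -/
def AllB (f : ℕ → Bool) : ℕ → Prop
  | 0 => True
  | n + 1 => AllB f n ∧ f n = true

theorem AllB.spec {f : ℕ → Bool} : ∀ {n : ℕ}, AllB f n → ∀ i < n, f i = true := by
  intro n
  induction n with
  | zero => intro _ i hi; omega
  | succ n ih =>
    intro h i hi
    rcases Nat.lt_succ_iff_lt_or_eq.1 hi with h1 | rfl
    · exact ih h.1 i h1
    · exact h.2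

/-- The relations of a level. -/
def RelsOK (p : ℕ) (L : Lev) (tail : List ℕ) : Prop :=
  powOK p L tail = true ∧ AllB (conjOK L tail) tail.length

/-- The rows are preserved by the later levels and not by the level. -/
def sepOK (L : Lev) (tail : List ℕ) : Bool :=
  matOK (glue L.orb) && Nat.blt 0 L.orb.length && Nat.ble L.orb.length 248 &&
    allLt (fun j => allLt (fun r => Nat.blt ((L.perm.getD j []).getD r 0) L.orb.length &&
      Nat.beq (rowAt (mulP (glue L.orb) (tail.getD j one)) r) (rowAt (glue L.orb) ((L.perm.getD j []).getD r 0)))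
      L.orb.length) tail.length &&
    allLt (fun r => !Nat.beq (rowAt (mulP (glue L.orb) L.A) 0) (rowAt (glue L.orb) r)) L.orb.length

theorem rowAt_eq {X r : ℕ} (hX : matOK X = true) :
    rowAt X r = pk (fun q => lane X (r * 248 + q)) 248 := by
  obtain ⟨h1, -⟩ := matOK_spec hX
  conv_lhs => rw [rowAt, eq_pk_lane h1]
  exact rowPart (lane_lt X) (fun q hq => by
    rw [lane, Nat.div_eq_of_lt (lt_of_lt_of_le h1 (Nat.pow_le_pow_right (by norm_num) (by omega)))]) r rfl

theorem rowAt_iff {X Y : ℕ} (hX : matOK X = true) (hY : matOK Y = true) (r s : Fin 248) :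
    rowAt X r = rowAt Y s ↔ toM X r = toM Y s := by
  rw [rowAt_eq hX, rowAt_eq hY]
  constructor
  · intro h
    funext j
    have := congrArg (fun z => lane z j.1) h
    beta_reduce at this
    rw [lane_pk (fun i _ => lane_lt X _) j.2, lane_pk (fun i _ => lane_lt Y _) j.2] at this
    show (lane X _ : ZMod 3) = (lane Y _ : ZMod 3)
    rw [this]
  · intro h
    refine pk_congr fun q hq => ?_
    have := congrFun h ⟨q, hq⟩
    change (lane X _ : ZMod 3) = (lane Y _ : ZMod 3) at this
    rw [ZMod.natCast_eq_natCast_iff', Nat.mod_eq_of_lt ((matOK_spec hX).2 _),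
      Nat.mod_eq_of_lt ((matOK_spec hY).2 _)] at this
    exact this

theorem prodExp_spec : ∀ {l : List ℕ}, (∀ A ∈ l, InImg A) → ∀ es : List ℕ,
    ∃ u ∈ PC.span (l.map unitOf), IsMat (prodExp l es) u := by
  intro l
  induction l with
  | nil => intro _ es; exact ⟨1, one_mem _, by simpa [prodExp] using isMat_one⟩
  | cons A l ih =>
    intro h es
    cases es with
    | nil => exact ⟨1, one_mem _, by simpa [prodExp] using isMat_one⟩
    | cons n es =>
      obtain ⟨u, hu, hm⟩ := ih (fun B hB => h B (List.mem_cons_of_mem _ hB)) es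
      have hmono : PC.span (l.map unitOf) ≤ PC.span ((A :: l).map unitOf) :=
        Subgroup.closure_mono fun z hz => List.mem_cons_of_mem _ hz
      rw [prodExp]
      cases hn : Nat.beq n 0 with
      | true => exact ⟨u, hmono hu, hm⟩
      | false =>
        exact ⟨unitOf A ^ n * u, mul_mem (pow_mem (show unitOf A ∈ PC.span ((A :: l).map unitOf) from
          Subgroup.subset_closure (List.mem_cons_self (a := unitOf A) (l := l.map unitOf))) n) (hmono hu),
          (isMat_powN (h A List.mem_cons_self).isMat n).mul hm⟩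

theorem relsOK_spec {p : ℕ} {L : Lev} {tail : List ℕ} (hA : InImg L.A) (ht : ∀ B ∈ tail, InImg B)
    (h : RelsOK p L tail) :
    unitOf L.A ^ p ∈ PC.span (tail.map unitOf) ∧
      ∀ z ∈ tail.map unitOf, (unitOf L.A)⁻¹ * z * unitOf L.A ∈ PC.span (tail.map unitOf) := by
  obtain ⟨h1, h2⟩ := h
  rw [powOK, Nat.beq_eq] at h1
  refine ⟨?_, fun z hz => ?_⟩
  · obtain ⟨u, hu, hm⟩ := prodExp_spec ht L.pow
    rw [← h1] at hm
    rwa [(isMat_powN hA.isMat p).unique hm]
  · obtain ⟨B, hB, rfl⟩ := List.mem_map.1 hz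
    obtain ⟨j, hj, rfl⟩ := List.getElem_of_mem hB
    have h3 := h2.spec j hj
    rw [conjOK, Nat.beq_eq, List.getD_eq_getElem _ _ hj] at h3
    obtain ⟨u, hu, hm⟩ := prodExp_spec ht (L.conj.getD j [])
    have hm' := hA.isMat.mul hm
    rw [← h3] at hm'
    have e := ((ht _ hB).isMat.mul hA.isMat).unique hm'
    rw [mul_assoc, e, inv_mul_cancel_left]
    exact hu

theorem sepOK_spec {L : Lev} {tail : List ℕ} (hA : InImg L.A) (ht : ∀ B ∈ tail, InImg B)
    (hfin : Finite (PC.span (tail.map unitOf))) (h : sepOK L tail = true) :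
    unitOf L.A ∉ PC.span (tail.map unitOf) := by
  simp only [sepOK, Bool.and_eq_true, Nat.blt_eq, Nat.ble_eq] at h
  obtain ⟨⟨⟨⟨hV, hpos⟩, hlen⟩, htail⟩, hout⟩ := h
  set V := glue L.orb
  set len := L.orb.length
  let S : Submonoid M248ˣ :=
    { carrier := {u | ∀ r : Fin 248, r.1 < len → ∃ q : Fin 248, q.1 < len ∧ (toM V * (u : M248)) r = toM V q}
      one_mem' := fun r hr => ⟨r, hr, by rw [Units.val_one, mul_one]⟩
      mul_mem' := fun {u w} hu hw r hr => by
        obtain ⟨q, hq, e⟩ := hu r hr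
        obtain ⟨q', hq', e'⟩ := hw q hq
        refine ⟨q', hq', ?_⟩
        rw [Units.val_mul, ← mul_assoc, Matrix.mul_apply_eq_vecMul, e, ← Matrix.mul_apply_eq_vecMul, e'] }
  intro hmem
  have hS : (PC.span (tail.map unitOf)).toSubmonoid ≤ S := by
    rw [PC.span, Subgroup.closure_toSubmonoid_of_isOfFinOrder fun x hx =>
      Submonoid.isOfFinOrder_coe.2 (isOfFinOrder_of_finite (⟨x, Subgroup.subset_closure hx⟩ : PC.span (tail.map unitOf))),
      Submonoid.closure_le]
    intro z hz
    obtain ⟨B, hB, rfl⟩ := List.mem_map.1 hz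
    obtain ⟨j, hj, rfl⟩ := List.getElem_of_mem hB
    intro r hr
    have h3 := allLt_spec (allLt_spec htail j hj) r.1 hr
    simp only [Bool.and_eq_true, Nat.blt_eq, Nat.beq_eq] at h3
    rw [List.getD_eq_getElem tail one hj] at h3
    have hB' := (ht _ hB).isMat
    refine ⟨⟨(L.perm.getD j []).getD r.1 0, lt_of_lt_of_le h3.1 hlen⟩, h3.1, ?_⟩
    rw [← hB'.2, ← toM_mulP hV hB'.1]
    exact (rowAt_iff (mulP_matOK hV hB'.1) hV r ⟨_, lt_of_lt_of_le h3.1 hlen⟩).1 h3.2
  obtain ⟨q, hq, e⟩ := hS hmem ⟨0, by omega⟩ hpos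
  have h4 := allLt_spec hout q.1 hq
  rw [Bool.not_eq_true'] at h4
  refine Nat.ne_of_beq_eq_false h4 ?_
  refine (rowAt_iff (mulP_matOK hV hA.isMat.1) hV ⟨0, by omega⟩ q).2 ?_
  rw [toM_mulP hV hA.isMat.1, hA.isMat.2]
  exact e

/-- All levels, from the top. -/
def Good (p : ℕ) : List Lev → Prop
  | [] => True
  | L :: ls => InImg L.A ∧ RelsOK p L (ls.map Lev.A) ∧ sepOK L (ls.map Lev.A) = true ∧ Good p ls

theorem Good.inImg {p : ℕ} : ∀ {ls : List Lev}, Good p ls → ∀ B ∈ ls.map Lev.A, InImg B := by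
  intro ls
  induction ls with
  | nil => intro _ B hB; simp at hB
  | cons L ls ih =>
    rintro ⟨h1, -, -, h4⟩ B hB
    rcases List.mem_cons.1 hB with rfl | hB
    · exact h1
    · exact ih h4 B hB

theorem Good.pc {p : ℕ} (hp : p.Prime) : ∀ {ls : List Lev}, Good p ls →
    PC.IsPC p ((ls.map Lev.A).map unitOf) ∧ Proper ((ls.map Lev.A).map unitOf) := by
  intro ls
  induction ls with
  | nil => intro _; exact ⟨trivial, trivial⟩
  | cons L ls ih =>
    rintro ⟨h1, h2, h3, h4⟩
    obtain ⟨hpc, hpr⟩ := ih h4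
    obtain ⟨r1, r2⟩ := relsOK_spec h1 h4.inImg h2
    exact ⟨⟨r1, r2, hpc⟩,
      ⟨sepOK_spec h1 h4.inImg (Cfsg.Agent.ONan.PC.card_le_of_isPC hp.pos hpc).1 h3, hpr⟩⟩

/-- A certificate gives a subgroup of the image of order `p ^ k`. -/
theorem Good.exists_subgroup {p : ℕ} (hp : p.Prime) {ls : List Lev} (h : Good p ls) :
    ∃ K : Subgroup M248ˣ, K ≤ hom.range ∧ Nat.card K = p ^ ls.length := by
  obtain ⟨hpc, hpr⟩ := h.pc hp
  refine ⟨PC.span ((ls.map Lev.A).map unitOf), ?_, by simpa using card_eq_of_proper hp hpc hpr⟩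
  rw [Subgroup.closure_le]
  intro z hz
  obtain ⟨B, hB, rfl⟩ := List.mem_map.1 hz
  exact (h.inImg B hB).mem

end

end Cfsg.Agent.ThRep
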